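import Mathlib

/-!
Abstract simplicity lemmas for rank three groups generated by a class of transpositions
(used for Fi23 and Fi24').
-/

set_option autoImplicit false

namespace Cfsg.Agent.Fischer.CosetSimple

open MulAction Pointwise

/-- A subgroup whose suborbit lengths are `1, a, b` with `1 + a`, `1 + b` not dividing the index
`n = 1 + a + b` is maximal. -/
theorem isCoatom_of_suborbits {G : Type*} [Group G] (H : Subgroup G) {n a b : ℕ}
    (hn : H.index = n) (hab : n = 1 + a + b)
    (q₁ q₂ : G ⧸ H) (h₁ : (MulAction.orbit H q₁).ncard = a) (h₂ : (MulAction.orbit H q₂).ncard = b)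
    (ha : 1 < a) (hb : 1 < b) (hne : a ≠ b) (hda : ¬ (1 + a) ∣ n) (hdb : ¬ (1 + b) ∣ n) :
    IsCoatom H := by
  classical
  have hfin : Finite (G ⧸ H) := by
    have : Nat.card (G ⧸ H) ≠ 0 := by
      rw [← Subgroup.index_eq_card, hn]; omega
    exact Nat.finite_of_card_ne_zero this
  have hcard : Nat.card (G ⧸ H) = 1 + a + b := by
    rw [← Subgroup.index_eq_card, hn, hab]
  set q₀ : G ⧸ H := ((1 : G) : G ⧸ H) with hq₀
  have h₀ : (MulAction.orbit H q₀) = {q₀} := by
    ext x
    constructor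
    · rintro ⟨h, rfl⟩
      change (((h : G) * 1 : G) : G ⧸ H) = ((1 : G) : G ⧸ H)
      rw [QuotientGroup.eq]
      simp
    · rintro rfl
      exact MulAction.mem_orbit_self _
  have hdisj : ∀ x y : G ⧸ H, (MulAction.orbit H x).ncard ≠ (MulAction.orbit H y).ncard →
      Disjoint (MulAction.orbit H x) (MulAction.orbit H y) := by
    intro x y hxy
    rw [Set.disjoint_left]
    intro z hz hz'
    apply hxy
    rw [← MulAction.orbit_eq_iff.2 hz, ← MulAction.orbit_eq_iff.2 hz']
  have hn0 : (MulAction.orbit H q₀).ncard = 1 := by rw [h₀]; simp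
  have d01 := hdisj q₀ q₁ (by omega)
  have d02 := hdisj q₀ q₂ (by omega)
  have d12 := hdisj q₁ q₂ (by omega)
  have hcov : (Set.univ : Set (G ⧸ H)) = MulAction.orbit H q₀ ∪ MulAction.orbit H q₁ ∪
      MulAction.orbit H q₂ := by
    symm
    apply Set.eq_of_subset_of_ncard_le (Set.subset_univ _)
    rw [Set.ncard_univ, hcard, Set.ncard_union_eq (Disjoint.union_left d02 d12),
      Set.ncard_union_eq d01, hn0, h₁, h₂]
  refine ⟨?_, ?_⟩
  · intro htop
    rw [htop, Subgroup.index_top] at hn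
    omega
  · intro M hM
    -- the block
    have hM' := hM.le
    have hidx : H.relIndex M * M.index = H.index := Subgroup.relIndex_mul_index hM'
    set B : Set (G ⧸ H) := {x | ∃ m ∈ M, ((m : G) : G ⧸ H) = x} with hB
    have hBcard : B.ncard = H.relIndex M := by
      rw [Subgroup.relIndex, Subgroup.index_eq_card]
      have : B = Set.range (fun x : M ⧸ H.subgroupOf M =>
          Quotient.map' (s₁ := QuotientGroup.leftRel (H.subgroupOf M)) (s₂ := QuotientGroup.leftRel H)
            (fun m : M => (m : G)) (by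
              intro x y hxy
              rw [QuotientGroup.leftRel_apply] at hxy ⊢
              rw [Subgroup.mem_subgroupOf] at hxy
              simpa using hxy) x) := by
        ext x
        constructor
        · rintro ⟨m, hm, rfl⟩
          exact ⟨((⟨m, hm⟩ : M) : M ⧸ H.subgroupOf M), rfl⟩
        · rintro ⟨y, rfl⟩
          induction y using QuotientGroup.induction_on with
          | H m => exact ⟨m, m.2, rfl⟩
      rw [this, Set.ncard_range_of_injective] 
      intro x y hxy
      induction x using QuotientGroup.induction_on with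
      | H m =>
      induction y using QuotientGroup.induction_on with
      | H m' =>
        have h1 : ((m : G) : G ⧸ H) = ((m' : G) : G ⧸ H) := hxy
        rw [QuotientGroup.eq] at h1
        rw [QuotientGroup.eq, Subgroup.mem_subgroupOf]
        simpa using h1
    have hBinv : ∀ x ∈ B, MulAction.orbit H x ⊆ B := by
      rintro x ⟨m, hm, rfl⟩ y ⟨h, rfl⟩
      exact ⟨(h : G) * m, M.mul_mem (hM' h.2) hm, rfl⟩
    have hq0B : q₀ ∈ B := ⟨1, M.one_mem, rfl⟩
    have hBdvd : B.ncard ∣ n := by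
      rw [hBcard, ← hn, ← hidx]
      exact Dvd.intro _ rfl
    have hB1 : B.ncard ≠ 1 := by
      rw [hBcard]
      intro h1
      rw [Subgroup.relIndex_eq_one] at h1
      exact hM.not_ge h1
    have horb : ∀ x y : G ⧸ H, y ∈ MulAction.orbit H x → y ∈ B → MulAction.orbit H x ⊆ B := by
      intro x y hy hyB
      rw [← MulAction.orbit_eq_iff.2 hy]
      exact hBinv y hyB
    have key : ∀ x : G ⧸ H, MulAction.orbit H x ⊆ B ∨ Disjoint (MulAction.orbit H x) B := by
      intro x
      by_cases h : Disjoint (MulAction.orbit H x) B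
      · exact Or.inr h
      · rw [Set.not_disjoint_iff] at h
        obtain ⟨y, hy, hyB⟩ := h
        exact Or.inl (horb x y hy hyB)
    have h0B : MulAction.orbit H q₀ ⊆ B := hBinv _ hq0B
    have hB_eq : B = (B ∩ MulAction.orbit H q₀) ∪ (B ∩ MulAction.orbit H q₁) ∪
        (B ∩ MulAction.orbit H q₂) := by
      rw [← Set.inter_union_distrib_left, ← Set.inter_union_distrib_left, ← hcov, Set.inter_univ]
    have hBn : B.ncard = 1 + (B ∩ MulAction.orbit H q₁).ncard + (B ∩ MulAction.orbit H q₂).ncard := by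
      conv_lhs => rw [hB_eq]
      rw [Set.ncard_union_eq, Set.ncard_union_eq, Set.inter_eq_right.2 h0B, hn0]
      · exact (d01.mono Set.inter_subset_right Set.inter_subset_right)
      · exact Disjoint.union_left (d02.mono Set.inter_subset_right Set.inter_subset_right)
          (d12.mono Set.inter_subset_right Set.inter_subset_right)
    have hBuniv : B.ncard = n := by
      rcases key q₁ with k1 | k1 <;> rcases key q₂ with k2 | k2
      · rw [hBn, Set.inter_eq_right.2 k1, Set.inter_eq_right.2 k2, h₁, h₂, hab]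
      · rw [Set.disjoint_iff_inter_eq_empty, Set.inter_comm] at k2
        rw [Set.inter_eq_right.2 k1, k2, h₁, Set.ncard_empty] at hBn
        exact absurd (by simpa [hBn] using hBdvd) hda
      · rw [Set.disjoint_iff_inter_eq_empty, Set.inter_comm] at k1
        rw [Set.inter_eq_right.2 k2, k1, h₂, Set.ncard_empty] at hBn
        exact absurd (by simpa [hBn] using hBdvd) hdb
      · rw [Set.disjoint_iff_inter_eq_empty, Set.inter_comm] at k1 k2
        rw [k1, k2, Set.ncard_empty] at hBn
        exact absurd hBn hB1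
    rw [hBcard, ← hn] at hBuniv
    rw [hBuniv] at hidx
    have hne0 : H.index ≠ 0 := by rw [hn]; omega
    have : M.index = 1 := by
      have := Nat.eq_of_mul_eq_mul_left (Nat.pos_of_ne_zero hne0) (hidx.trans (mul_one _).symm)
      exact this
    exact Subgroup.index_eq_one.1 this

/-- Iwasawa's argument: `H` maximal, `t ∈ H` commuting with `H`, conjugates of `t` generate `G`:
every normal subgroup not contained in `H` contains the commutator subgroup. -/
theorem commutator_le_of_not_le {G : Type*} [Group G] (H : Subgroup G) (hH : IsCoatom H)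
    (t : G) (hc : ∀ h ∈ H, h * t = t * h) (hgen : Subgroup.normalClosure {t} = ⊤)
    (N : Subgroup G) [hN : N.Normal] (hNH : ¬ N ≤ H) : commutator G ≤ N := by
  have hsup : N ⊔ H = ⊤ := by
    apply hH.2
    exact lt_of_le_of_ne le_sup_right (by
      intro h
      apply hNH
      rw [h]
      exact le_sup_left)
  have hall : N ⊔ Subgroup.zpowers t = ⊤ := by
    rw [eq_top_iff, ← hgen, Subgroup.normalClosure, Subgroup.closure_le]
    intro x hx
    obtain ⟨y, hy, hyx⟩ := Group.mem_conjugatesOfSet_iff.1 hx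
    rw [Set.mem_singleton_iff] at hy
    subst hy
    obtain ⟨g, hg⟩ := isConj_iff.1 hyx
    have hgtop : g ∈ N ⊔ H := by rw [hsup]; trivial
    obtain ⟨n, hn, h, hh, rfl⟩ := Subgroup.mem_sup_of_normal_left.1 hgtop
    have e1 : x = n * (y * n⁻¹ * y⁻¹) * y := by
      rw [← hg]
      have := hc h hh
      rw [mul_inv_rev]
      calc n * h * y * (h⁻¹ * n⁻¹) = n * (h * y) * h⁻¹ * n⁻¹ := by group
        _ = n * (y * h) * h⁻¹ * n⁻¹ := by rw [this]
        _ = n * (y * n⁻¹ * y⁻¹) * y := by group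
    rw [e1]
    exact Subgroup.mul_mem _ (Subgroup.mem_sup_left (N.mul_mem hn (hN.conj_mem _ (N.inv_mem hn) y)))
      (Subgroup.mem_sup_right (Subgroup.mem_zpowers y))
  have hq : ∀ x : G ⧸ N, x ∈ Subgroup.zpowers ((t : G) : G ⧸ N) := by
    intro x
    induction x using QuotientGroup.induction_on with
    | H g =>
      have hg : g ∈ N ⊔ Subgroup.zpowers t := by rw [hall]; trivial
      obtain ⟨n, hn, z, hz, rfl⟩ := Subgroup.mem_sup_of_normal_left.1 hg
      obtain ⟨k, rfl⟩ := hz
      refine ⟨k, ?_⟩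
      change ((t : G) : G ⧸ N) ^ k = ((n * t ^ k : G) : G ⧸ N)
      rw [QuotientGroup.mk_mul, (QuotientGroup.eq_one_iff n).2 hn, one_mul, QuotientGroup.mk_zpow]
  rw [commutator_def, Subgroup.commutator_le]
  intro a _ b _
  rw [← QuotientGroup.eq_one_iff]
  change ((a * b * a⁻¹ * b⁻¹ : G) : G ⧸ N) = 1
  rw [QuotientGroup.mk_mul, QuotientGroup.mk_mul, QuotientGroup.mk_mul, QuotientGroup.mk_inv,
    QuotientGroup.mk_inv]
  obtain ⟨i, hi⟩ := hq (a : G ⧸ N)
  obtain ⟨j, hj⟩ := hq (b : G ⧸ N)
  simp only at hi hj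
  rw [← hi, ← hj]
  group

/-- A subgroup `D` of index two of `G` which is contained in every nontrivial normal subgroup of `G`,
is nontrivial and whose order is not a square, is simple. -/
theorem isSimpleGroup_of_index_two {G : Type*} [Group G] [Finite G] (D : Subgroup G)
    (hD : D.index = 2) (hle : ∀ N : Subgroup G, N.Normal → N ≠ ⊥ → D ≤ N)
    (hsq : ¬ IsSquare (Nat.card D)) : IsSimpleGroup D := by
  have hDn : D.Normal := Subgroup.normal_of_index_eq_two hD
  have hD1 : Nat.card D ≠ 1 := by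
    intro h
    apply hsq
    rw [h]
    exact ⟨1, rfl⟩
  have hDbot : D ≠ ⊥ := by
    rintro rfl
    exact hD1 Subgroup.card_bot
  have : Nontrivial D := (Subgroup.nontrivial_iff_ne_bot D).2 hDbot
  refine ⟨fun M hM => ?_⟩
  by_cases hMbot : M = ⊥
  · exact Or.inl hMbot
  right
  -- choose an element outside D
  obtain ⟨t, ht⟩ : ∃ t : G, t ∉ D := by
    by_contra hcon
    push Not at hcon
    have : D = ⊤ := by ext x; simp [hcon x]
    rw [this, Subgroup.index_top] at hD
    omega
  set M₁ : Subgroup G := M.map D.subtype with hM₁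
  have hM₁D : M₁ ≤ D := by
    rintro _ ⟨x, _, rfl⟩
    exact x.2
  have hM₁n : ∀ d ∈ D, ∀ x ∈ M₁, d * x * d⁻¹ ∈ M₁ := by
    rintro d hd _ ⟨x, hx, rfl⟩
    exact ⟨⟨d, hd⟩ * x * ⟨d, hd⟩⁻¹, hM.conj_mem x hx ⟨d, hd⟩, rfl⟩
  have hM₁bot : M₁ ≠ ⊥ := by
    intro h
    apply hMbot
    rw [hM₁, Subgroup.map_eq_bot_iff_of_injective _ D.subtype_injective] at h
    exact h
  -- the conjugate
  set M₂ : Subgroup G := M₁.map (MulAut.conj t).toMonoidHom with hM₂
  have mem2 : ∀ x, x ∈ M₂ ↔ t⁻¹ * x * t ∈ M₁ := by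
    intro x
    rw [hM₂, Subgroup.mem_map]
    constructor
    · rintro ⟨y, hy, rfl⟩
      simpa [mul_assoc] using hy
    · intro h
      exact ⟨_, h, by simp [mul_assoc]⟩
  have hcoset : ∀ g : G, g ∈ D ∨ ∃ d ∈ D, g = d * t := by
    intro g
    by_cases hg : g ∈ D
    · exact Or.inl hg
    · right
      refine ⟨g * t⁻¹, ?_, by group⟩
      rw [Subgroup.mul_mem_iff_of_index_two hD]
      simp [hg, ht]
  have ht2 : t * t ∈ D := Subgroup.mul_self_mem_of_index_two hD t
  have hM₂D : M₂ ≤ D := by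
    intro x hx
    rw [mem2] at hx
    have := hDn.conj_mem _ (hM₁D hx) t
    simpa [mul_assoc] using this
  have hM₂n : ∀ d ∈ D, ∀ x ∈ M₂, d * x * d⁻¹ ∈ M₂ := by
    intro d hd x hx
    rw [mem2] at hx ⊢
    have hd' : t⁻¹ * d * t ∈ D := by
      have := hDn.conj_mem _ hd t⁻¹
      simpa using this
    have := hM₁n _ hd' _ hx
    have e : t⁻¹ * (d * x * d⁻¹) * t = t⁻¹ * d * t * (t⁻¹ * x * t) * (t⁻¹ * d * t)⁻¹ := by group
    rw [e]
    exact this
  have tM₁ : ∀ x ∈ M₁, t * x * t⁻¹ ∈ M₂ := by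
    intro x hx
    rw [mem2]
    simpa [mul_assoc] using hx
  have tM₂ : ∀ x ∈ M₂, t * x * t⁻¹ ∈ M₁ := by
    intro x hx
    rw [mem2] at hx
    have := hM₁n _ ht2 _ hx
    have e : t * t * (t⁻¹ * x * t) * (t * t)⁻¹ = t * x * t⁻¹ := by group
    rwa [e] at this
  have hinf : (M₁ ⊓ M₂).Normal := by
    refine ⟨fun x hx g => ?_⟩
    rcases hcoset g with hg | ⟨d, hd, rfl⟩
    · exact ⟨hM₁n g hg x hx.1, hM₂n g hg x hx.2⟩
    · have e : d * t * x * (d * t)⁻¹ = d * (t * x * t⁻¹) * d⁻¹ := by group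
      rw [e]
      exact ⟨hM₁n d hd _ (tM₂ x hx.2), hM₂n d hd _ (tM₁ x hx.1)⟩
  have hsupn : (M₁ ⊔ M₂).Normal := by
    refine ⟨fun x hx g => ?_⟩
    have h1 : ∀ d ∈ D, ∀ x ∈ M₁ ⊔ M₂, d * x * d⁻¹ ∈ M₁ ⊔ M₂ := by
      intro d hd x hx
      have : (M₁ ⊔ M₂).map (MulAut.conj d).toMonoidHom ≤ M₁ ⊔ M₂ := by
        rw [Subgroup.map_sup]
        apply sup_le_sup
        · rintro _ ⟨y, hy, rfl⟩
          exact hM₁n d hd y hy
        · rintro _ ⟨y, hy, rfl⟩
          exact hM₂n d hd y hy
      exact this ⟨x, hx, rfl⟩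
    have h2 : ∀ x ∈ M₁ ⊔ M₂, t * x * t⁻¹ ∈ M₁ ⊔ M₂ := by
      intro x hx
      have : (M₁ ⊔ M₂).map (MulAut.conj t).toMonoidHom ≤ M₁ ⊔ M₂ := by
        rw [Subgroup.map_sup, sup_comm]
        apply sup_le_sup
        · rintro _ ⟨y, hy, rfl⟩
          exact tM₂ y hy
        · rintro _ ⟨y, hy, rfl⟩
          exact tM₁ y hy
      exact this ⟨x, hx, rfl⟩
    rcases hcoset g with hg | ⟨d, hd, rfl⟩
    · exact h1 g hg x hx
    · have e : d * t * x * (d * t)⁻¹ = d * (t * x * t⁻¹) * d⁻¹ := by group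
      rw [e]
      exact h1 d hd _ (h2 x hx)
  by_cases hib : M₁ ⊓ M₂ = ⊥
  · exfalso
    apply hsq
    have hsupD : M₁ ⊔ M₂ = D := by
      apply le_antisymm (sup_le hM₁D hM₂D)
      apply hle _ hsupn
      intro h
      apply hM₁bot
      rw [eq_bot_iff, ← h]
      exact le_sup_left
    have hcard2 : Nat.card M₂ = Nat.card M₁ := by
      rw [hM₂]
      exact Nat.card_congr (M₁.equivMapOfInjective _ (MulAut.conj t).injective).symm.toEquiv
    -- work inside D: M₁, M₂ as subgroups of D, complementary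
    have hcompl : (M₁.subgroupOf D).IsComplement' (M₂.subgroupOf D) := by
      have : (M₁.subgroupOf D).Normal := by
        refine ⟨fun x hx g => ?_⟩
        rw [Subgroup.mem_subgroupOf] at hx ⊢
        exact hM₁n g g.2 _ hx
      apply Subgroup.isComplement'_of_disjoint_and_mul_eq_univ
      · rw [disjoint_iff, eq_bot_iff]
        intro x hx
        have hx' : (x : G) ∈ M₁ ⊓ M₂ := ⟨Subgroup.mem_subgroupOf.1 hx.1, Subgroup.mem_subgroupOf.1 hx.2⟩
        rw [hib, Subgroup.mem_bot] at hx'
        rw [Subgroup.mem_bot]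
        exact Subtype.ext hx'
      · ext x
        simp only [Set.mem_univ, iff_true]
        have hx : x ∈ M₁.subgroupOf D ⊔ M₂.subgroupOf D := by
          rw [← Subgroup.subgroupOf_sup hM₁D hM₂D, hsupD, Subgroup.subgroupOf_self]
          trivial
        obtain ⟨y, hy, z, hz, h⟩ := Subgroup.mem_sup_of_normal_left.1 hx
        exact ⟨y, hy, z, hz, h⟩
    rw [← hcompl.card_mul_card]
    rw [Nat.card_congr (Subgroup.subgroupOfEquivOfLe hM₁D).toEquiv,
      Nat.card_congr (Subgroup.subgroupOfEquivOfLe hM₂D).toEquiv, hcard2]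
    exact ⟨_, rfl⟩
  · have hD1 := (hle _ hinf hib).trans inf_le_left
    rw [eq_top_iff]
    intro x _
    obtain ⟨y, hy, hyx⟩ := hD1 x.2
    have : y = x := Subtype.ext hyx
    rwa [← this]

/-- Iwasawa's criterion in coset form: `H` maximal and core free, `t` commutes with `H`, the conjugates of
`t` generate `G`, `G` perfect: `G` is simple. -/
theorem isSimpleGroup_of_transposition {G : Type*} [Group G] [Nontrivial G] (H : Subgroup G)
    (hH : IsCoatom H) (t : G) (hc : ∀ h ∈ H, h * t = t * h) (hgen : Subgroup.normalClosure {t} = ⊤)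
    (hcore : ∀ N : Subgroup G, N.Normal → N ≤ H → N = ⊥) (hperf : commutator G = ⊤) :
    IsSimpleGroup G := by
  refine ⟨fun N hN => ?_⟩
  by_cases h : N ≤ H
  · exact Or.inl (hcore N hN h)
  · right
    rw [eq_top_iff, ← hperf]
    exact commutator_le_of_not_le H hH t hc hgen N h

/-- Version for `Fi24'`: the commutator subgroup, of index two and nonsquare order, is simple. -/
theorem isSimpleGroup_commutator {G : Type*} [Group G] [Finite G] (H : Subgroup G)
    (hH : IsCoatom H) (t : G) (hc : ∀ h ∈ H, h * t = t * h) (hgen : Subgroup.normalClosure {t} = ⊤)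
    (hcore : ∀ N : Subgroup G, N.Normal → N ≤ H → N = ⊥) (hidx : (commutator G).index = 2)
    (hsq : ¬ IsSquare (Nat.card (commutator G))) : IsSimpleGroup (commutator G) := by
  apply isSimpleGroup_of_index_two (commutator G) hidx _ hsq
  intro N hN hbot
  exact commutator_le_of_not_le H hH t hc hgen N (fun h => hbot (hcore N hN h))

/-- If `G` acts faithfully through `ρ` and transitively, a normal subgroup fixing a point is trivial. -/
theorem normal_eq_bot_of_fixes {G Ω : Type*} [Group G] (ρ : G →* Equiv.Perm Ω)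
    (hρ : Function.Injective ρ) (x₀ : Ω) (htrans : ∀ x, ∃ g : G, ρ g x₀ = x)
    (N : Subgroup G) (hN : N.Normal) (hfix : ∀ g ∈ N, ρ g x₀ = x₀) : N = ⊥ := by
  rw [eq_bot_iff]
  intro g hg
  rw [Subgroup.mem_bot]
  apply hρ
  rw [map_one]
  ext x
  obtain ⟨k, rfl⟩ := htrans x
  have h := hfix _ (hN.conj_mem g hg k⁻¹)
  rw [inv_inv, map_mul, map_mul, Equiv.Perm.mul_apply, Equiv.Perm.mul_apply, map_inv] at h
  rw [Equiv.Perm.inv_eq_iff_eq] at h
  rw [h]
  rfl

end Cfsg.Agent.Fischer.CosetSimple
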