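import Cfsg.Agent.Fischer.Fi23Z
import Cfsg.Agent.Fischer.CosetSimple
import Cfsg.Prelude.Def_Sporadic

/-!
The presented group `Fi23` is simple of order 4089470473293004800, given the upper bounds for the index and
the order of the subgroup `H = ⟨a, …, i⟩`.
-/

set_option autoImplicit false
set_option maxRecDepth 100000

namespace Cfsg.Agent.Fischer.Fi23Final

open Cfsg.Agent.Lib.PermNet Cfsg.Agent.Lib.PermNetOrbit Cfsg.Agent.Fischer.Fi23Nets
  Cfsg.Agent.Fischer.Fi23Rel Cfsg.Agent.Fischer.Fi23Hom Cfsg.Agent.Fischer.Fi23OrbData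
  Cfsg.Agent.Fischer.Fi23Orb Cfsg.Agent.Fischer.Fi23Z
open Cfsg.Spor Cfsg.Spor.Fi23

theorem card_mul_ge [Finite Fi23] :
    4089470473293004800 * Nat.card (stabL rho [1086, 224, 11589, 1, 0]) ≤ Nat.card Fi23 := by
  have h0 := stabL_step_of_check (k := 15) rho [] 0 31671 9 (nw_ok w0) (nw_img w0) cfix0 cm0 clt0
  have h1 := stabL_step_of_check (k := 15) rho [0] 1 28160 9 (nw_ok w1) (nw_img w1) cfix1 cm1 clt1
  have h2 := stabL_step_of_check (k := 15) rho [1, 0] 11589 351 7 (nw_ok w2) (nw_img w2) cfix2 cm2 clt2
  have h3 := stabL_step_of_check (k := 15) rho [11589, 1, 0] 224 20160 6 (nw_ok w3) (nw_img w3) cfix3 cm3 clt3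
  have h4 := stabL_step_of_check (k := 15) rho [224, 11589, 1, 0] 1086 648 3 (nw_ok w4) (nw_img w4) cfix4 cm4 clt4
  have h6 : Nat.card (stabL rho []) ≤ Nat.card Fi23 :=
    Nat.card_le_card_of_injective _ Subtype.val_injective
  calc 4089470473293004800 * Nat.card (stabL rho [1086, 224, 11589, 1, 0])
      = 31671 * (28160 * (351 * (20160 * (648 * Nat.card (stabL rho [1086, 224, 11589, 1, 0]))))) := by
        ring
    _ ≤ 31671 * (28160 * (351 * (20160 * Nat.card (stabL rho [224, 11589, 1, 0])))) := by gcongr
    _ ≤ 31671 * (28160 * (351 * Nat.card (stabL rho [11589, 1, 0]))) := by gcongr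
    _ ≤ 31671 * (28160 * Nat.card (stabL rho [1, 0])) := by gcongr
    _ ≤ 31671 * Nat.card (stabL rho [0]) := by gcongr
    _ ≤ Nat.card (stabL rho []) := h0
    _ ≤ Nat.card Fi23 := h6

/-- `Fi23` is finite of order at most `N`, given the bounds for `H`. -/
theorem finite_and_card_le (hub : H.index ≤ 31671) (hne : H.index ≠ 0) (hfin : Finite H)
    (hH : Nat.card H ≤ 129123503308800) : Finite Fi23 ∧ Nat.card Fi23 ≤ 4089470473293004800 := by
  have hfi : H.FiniteIndex := ⟨hne⟩
  have h1 : Finite Fi23 := Nat.finite_of_card_ne_zero (by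
    rw [← Subgroup.card_mul_index H]
    exact Nat.mul_ne_zero Nat.card_pos.ne' hne)
  refine ⟨h1, ?_⟩
  rw [← Subgroup.card_mul_index H]
  calc Nat.card H * H.index ≤ 129123503308800 * 31671 := Nat.mul_le_mul hH hub
    _ = 4089470473293004800 := by norm_num

theorem card_eq [Finite Fi23] (hle : Nat.card Fi23 ≤ 4089470473293004800) :
    Nat.card Fi23 = 4089470473293004800 := by
  have h := card_mul_ge
  have h1 : 1 ≤ Nat.card (stabL rho [1086, 224, 11589, 1, 0]) := Nat.card_pos
  omega

theorem stab_bot [Finite Fi23] (hle : Nat.card Fi23 ≤ 4089470473293004800) :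
    stabL rho [1086, 224, 11589, 1, 0] = ⊥ := by
  have h := card_mul_ge
  have h1 : Nat.card (stabL rho [1086, 224, 11589, 1, 0]) = 1 := by
    have : 1 ≤ Nat.card (stabL rho [1086, 224, 11589, 1, 0]) := Nat.card_pos
    omega
  exact Subgroup.card_eq_one.1 h1

theorem rho_injective [Finite Fi23] (hle : Nat.card Fi23 ≤ 4089470473293004800) :
    Function.Injective rho := by
  rw [injective_iff_map_eq_one]
  intro g hg
  have h3 : g ∈ stabL rho [1086, 224, 11589, 1, 0] := by
    intro q _
    rw [hg]; rfl
  rw [stab_bot hle] at h3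
  exact Subgroup.mem_bot.1 h3

/-! ### Relations in the presented group -/

theorem mem_nodes (x : Gen) : x ∈ coxNodes edges := by
  cases x <;> decide

theorem gen_rel (x y : Gen) : (gen x * gen y) ^ coxLabel edges x y = 1 := by
  have h : (FreeGroup.of x * FreeGroup.of y) ^ coxLabel edges x y ∈ coxRelators edges ∪ {r | r ∈ extra} :=
    Or.inl ⟨x, mem_nodes x, y, mem_nodes y, rfl⟩
  have := PresentedGroup.one_of_mem h
  rw [map_pow, map_mul] at this
  exact this

theorem gen_sq (x : Gen) : gen x * gen x = 1 := by
  have h := gen_rel x x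
  have hl : coxLabel edges x x = 1 := by cases x <;> decide
  rw [hl, pow_one] at h
  exact h

/-- `y` is conjugate to `x` when `x`, `y` are joined. -/
theorem conj_of_edge {G : Type*} [Group G] {x y : G} (hx : x * x = 1) (hy : y * y = 1)
    (h : (x * y) ^ 3 = 1) : y = (x * y) * x * (x * y)⁻¹ := by
  have hx' : x⁻¹ = x := inv_eq_of_mul_eq_one_left hx
  have hy' : y⁻¹ = y := inv_eq_of_mul_eq_one_left hy
  rw [mul_inv_rev, hx', hy']
  have h3 : x * y * x * y * x * y = 1 := by
    rw [pow_succ, pow_succ, pow_one] at h
    simpa [mul_assoc] using h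
  calc y = x * y * x * y * x * y * y := by rw [h3, one_mul]
    _ = x * y * x * (y * x) * (y * y) := by group
    _ = x * y * x * (y * x) := by rw [hy, mul_one]

theorem gens_top : Subgroup.closure (Set.range gen) = ⊤ :=
  PresentedGroup.closure_range_of _

/-- A normal subgroup containing `gen j` contains all generators. -/
theorem top_of_mem_j (N : Subgroup Fi23) (hN : N.Normal) (hj : gen .j ∈ N) : N = ⊤ := by
  have step : ∀ x y : Gen, coxLabel edges x y = 3 → gen x ∈ N → gen y ∈ N := by
    intro x y hl hx
    have h := gen_rel x y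
    rw [hl] at h
    rw [conj_of_edge (gen_sq x) (gen_sq y) h]
    exact hN.conj_mem _ hx _
  have hg := step .j .g (by decide) hj
  have hf := step .g .f (by decide) hg
  have he := step .f .e (by decide) hf
  have hd := step .e .d (by decide) he
  have hc := step .d .c (by decide) hd
  have hb := step .c .b (by decide) hc
  have ha := step .b .a (by decide) hb
  have hh := step .d .h (by decide) hd
  have hi := step .h .i (by decide) hh
  rw [eq_top_iff, ← gens_top, Subgroup.closure_le]
  rintro _ ⟨x, rfl⟩
  cases x <;> assumption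

theorem h_comm [Finite Fi23] (hle : Nat.card Fi23 ≤ 4089470473293004800) :
    ∀ h ∈ H, h * z0 = z0 * h := by
  intro h hh
  have hgen : ∀ x : Gen, x ≠ .j → gen x * z0 = z0 * gen x := by
    intro x hx
    apply rho_injective hle
    rw [map_mul, map_mul]
    exact (z_comm x hx).symm
  unfold H at hh
  induction hh using Subgroup.closure_induction with
  | mem x hx =>
    obtain ⟨l, hl, rfl⟩ := hx
    unfold w1 at hl
    simp only [List.mem_cons, List.not_mem_nil, or_false] at hl
    rcases hl with rfl | rfl | rfl | rfl | rfl | rfl | rfl | rfl | rfl <;>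
      simpa [word] using hgen _ (by decide)
  | one => simp
  | mul x y _ _ hx hy => rw [mul_assoc, hy, ← mul_assoc, hx, mul_assoc]
  | inv x _ hx =>
    rw [inv_mul_eq_iff_eq_mul, ← mul_assoc, hx, mul_assoc, mul_inv_cancel, mul_one]

theorem normalClosure_z0 [Finite Fi23] (hle : Nat.card Fi23 ≤ 4089470473293004800) :
    Subgroup.normalClosure {z0} = (⊤ : Subgroup Fi23) := by
  apply top_of_mem_j _ Subgroup.normalClosure_normal
  have hz : z0 ∈ Subgroup.normalClosure ({z0} : Set Fi23) :=
    Subgroup.subset_normalClosure (Set.mem_singleton _)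
  have hb : z0 * gen .j * z0 = gen .j * z0 * gen .j := by
    apply rho_injective hle
    simp only [map_mul]
    exact z_braid
  have e : gen .j = (z0 * gen .j) * z0 * (z0 * gen .j)⁻¹ := by
    rw [hb]; group
  rw [e]
  exact Subgroup.normalClosure_normal.conj_mem _ hz _

theorem commutator_top : commutator Fi23 = ⊤ := by
  have hq : ∀ x : Gen, Abelianization.of (gen x) = Abelianization.of (gen .j) := by
    have step : ∀ x y : Gen, coxLabel edges x y = 3 →
        Abelianization.of (gen y) = Abelianization.of (gen x) := by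
      intro x y hl
      have h := gen_rel x y
      rw [hl] at h
      conv_lhs => rw [conj_of_edge (gen_sq x) (gen_sq y) h]
      simp only [map_mul, map_inv]
      rw [mul_comm (Abelianization.of (gen x) * Abelianization.of (gen y)), mul_assoc,
        mul_inv_cancel, mul_one]
    have hg := step .j .g (by decide)
    have hf := (step .g .f (by decide)).trans hg
    have he := (step .f .e (by decide)).trans hf
    have hd := (step .e .d (by decide)).trans he
    have hc := (step .d .c (by decide)).trans hd
    have hb := (step .c .b (by decide)).trans hc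
    have ha := (step .b .a (by decide)).trans hb
    have hh := (step .d .h (by decide)).trans hd
    have hi := (step .h .i (by decide)).trans hh
    intro x
    cases x <;> first | assumption | rfl
  have hrel : (gen .a * gen .b * gen .c * gen .d * gen .e * gen .f * gen .h) ^ 9 = 1 := by
    have h : (Fi23.a * Fi23.b * Fi23.c * Fi23.d * Fi23.e * Fi23.f * Fi23.h) ^ 9 ∈
        coxRelators edges ∪ {r | r ∈ extra} := by
      right
      show _ ∈ extra
      unfold extra
      simp
    have := PresentedGroup.one_of_mem h
    simp only [map_pow, map_mul] at this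
    exact this
  have hj2 : Abelianization.of (gen .j) * Abelianization.of (gen .j) = 1 := by
    rw [← map_mul, gen_sq, map_one]
  have h63 : Abelianization.of (gen .j) ^ 63 = 1 := by
    have := congrArg Abelianization.of hrel
    simp only [map_pow, map_mul, map_one] at this
    rw [hq .a, hq .b, hq .c, hq .d, hq .e, hq .f, hq .h] at this
    rw [← this]
    simp only [← pow_succ, ← pow_two, ← pow_mul]
  have hj1 : Abelianization.of (gen .j) = 1 := by
    have : Abelianization.of (gen .j) ^ 63 =
        (Abelianization.of (gen .j) * Abelianization.of (gen .j)) ^ 31 * Abelianization.of (gen .j) := by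
      rw [← pow_two, ← pow_mul, ← pow_succ]
    rw [this, hj2, one_pow, one_mul] at h63
    exact h63
  rw [← Abelianization.ker_of, eq_top_iff, ← gens_top, Subgroup.closure_le]
  rintro _ ⟨x, rfl⟩
  show Abelianization.of (gen x) = 1
  rw [hq, hj1]

/-- The presented group `Fi23` is simple of the right order, given the upper bounds. -/
theorem isFi23_of (hub : H.index ≤ 31671) (hne : H.index ≠ 0) (hfin : Finite H)
    (hH : Nat.card H ≤ 129123503308800) : Cfsg.IsFi23 Fi23 := by
  obtain ⟨hf, hle⟩ := finite_and_card_le hub hne hfin hH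
  have hcard := card_eq hle
  have hnt : Nontrivial Fi23 := by
    rw [← Finite.one_lt_card_iff_nontrivial, hcard]; norm_num
  obtain ⟨hidx, hst, _, q₁, q₂, ho1, ho2⟩ := index_and_suborbits hub hne
  have hmax : IsCoatom H := Cfsg.Agent.Fischer.CosetSimple.isCoatom_of_suborbits H (n := 31671)
    (a := 3510) (b := 28160) hidx (by norm_num) q₁ q₂ ho1 ho2 (by norm_num) (by norm_num) (by norm_num)
    (by norm_num) (by norm_num)
  refine ⟨Cfsg.Agent.Fischer.CosetSimple.isSimpleGroup_of_transposition H hmax z0 (h_comm hle)
    (normalClosure_z0 hle) ?_ commutator_top, hcard⟩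
  intro N hN hNH
  rw [eq_bot_iff, ← stab_bot hle]
  intro g hg q hq
  have hp : q < 31671 := by
    simp only [List.mem_cons, List.not_mem_nil, or_false] at hq
    omega
  obtain ⟨k, rfl⟩ := trans q hp
  have h := (hst _).2 (hNH (hN.conj_mem g hg k⁻¹))
  rw [inv_inv, map_mul, map_mul, Equiv.Perm.mul_apply, Equiv.Perm.mul_apply, map_inv,
    Equiv.Perm.inv_eq_iff_eq] at h
  exact h

end Cfsg.Agent.Fischer.Fi23Final
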