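import Cfsg.Agent.Fischer.Central
import Cfsg.Agent.Fischer.Fi23Final

/-!
The subgroup `H = ⟨a, …, i⟩` of the presented group `Fi23` is finite of order at most `2·|Fi22|`; hence `Fi23` is
`IsFi23` as soon as the index of `H` is at most 31671.
-/

set_option autoImplicit false

namespace Cfsg.Agent.Fischer.Fi23H

open Cfsg.Agent.Fischer.Fi23Hom Cfsg.Agent.Fischer.Fi23Orb Cfsg.Agent.Fischer.Fi23Final
open Cfsg.Spor Cfsg.Spor.Fi23

/-- The generators `a, …, i` in the order of the file `Index14080`. -/
def node : Fin 9 → Gen := ![.a, .b, .c, .d, .e, .f, .g, .h, .i]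

/-- The elements `a, …, i` of the presented group. -/
def y (k : Fin 9) : Fi23 := gen (node k)

theorem lab_eq : ∀ i j : Fin 9, Index14080.lab9 i j = coxLabel edges (node i) (node j) := by decide

theorem rels : Index14080.Rels y := by
  refine ⟨?_, ?_, ?_⟩
  · intro i j
    rw [lab_eq]
    exact gen_rel _ _
  · have h : (Fi23.d * Fi23.c * Fi23.b * Fi23.d * Fi23.e * Fi23.f * Fi23.d * Fi23.h * Fi23.i) ^ 10 ∈
        coxRelators edges ∪ {r | r ∈ extra} := by
      right
      show _ ∈ extra
      unfold extra
      simp
    have h1 := PresentedGroup.one_of_mem h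
    simp only [map_pow, map_mul] at h1
    have h2 : Level.ev y Index14080.spider9 =
        gen .d * gen .c * gen .b * gen .d * gen .e * gen .f * gen .d * gen .h * gen .i := by
      simp only [Level.ev, Index14080.spider9, List.map_cons, List.map_nil, List.prod_cons, List.prod_nil, mul_one,
        mul_assoc]
      rfl
    rw [h2]
    exact h1
  · have h : (Fi23.a * Fi23.b * Fi23.c * Fi23.d * Fi23.e * Fi23.f * Fi23.h) ^ 9 ∈
        coxRelators edges ∪ {r | r ∈ extra} := by
      right
      show _ ∈ extra
      unfold extra
      simp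
    have h1 := PresentedGroup.one_of_mem h
    simp only [map_pow, map_mul] at h1
    have h2 : Level.ev y Index14080.e7a =
        gen .a * gen .b * gen .c * gen .d * gen .e * gen .f * gen .h := by
      simp only [Level.ev, Index14080.e7a, List.map_cons, List.map_nil, List.prod_cons, List.prod_nil, mul_one,
        mul_assoc]
      rfl
    rw [h2]
    exact h1

theorem H_eq : H = Subgroup.closure (Set.range y) := by
  unfold H
  congr 1
  ext x
  constructor
  · rintro ⟨l, hl, rfl⟩
    unfold w1 at hl
    simp only [List.mem_cons, List.not_mem_nil, or_false] at hl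
    rcases hl with rfl | rfl | rfl | rfl | rfl | rfl | rfl | rfl | rfl
    · exact ⟨6, by simp [word, y, node]⟩
    · exact ⟨5, by simp [word, y, node]⟩
    · exact ⟨4, by simp [word, y, node]⟩
    · exact ⟨3, by simp [word, y, node]⟩
    · exact ⟨2, by simp [word, y, node]⟩
    · exact ⟨1, by simp [word, y, node]⟩
    · exact ⟨0, by simp [word, y, node]⟩
    · exact ⟨7, by simp [word, y, node]⟩
    · exact ⟨8, by simp [word, y, node]⟩
  · rintro ⟨k, rfl⟩
    refine ⟨[node k], ?_, by simp [word, y]⟩
    revert k
    decide

/-- The subgroup `⟨a, …, i⟩` is finite. -/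
theorem H_finite : Finite H := by
  rw [H_eq]; exact (Central.card_closure_a rels).1

/-- The subgroup `⟨a, …, i⟩` has order at most `2·|Fi22|`. -/
theorem card_H_le : Nat.card H ≤ 129123503308800 := by
  rw [H_eq]; exact (Central.card_closure_a rels).2

/-- `Fi23` is simple of the right order, given the index bound. -/
theorem isFi23_of_index (hub : H.index ≤ 31671) (hne : H.index ≠ 0) : Cfsg.IsFi23 Fi23 :=
  isFi23_of hub hne H_finite card_H_le

end Cfsg.Agent.Fischer.Fi23H
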