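import Cfsg.Prelude.Def_Spor_Fi22
import Cfsg.Agent.Lib.PermNetOrbit
import Cfsg.Agent.Fischer.Fi22PtsNets

/-!
The permutation representation of the presented Fischer group Fi22 on the 3510 points `0, …, 3509`.
-/

set_option autoImplicit false
set_option maxRecDepth 100000

namespace Cfsg.Agent.Fischer.Fi22PtsRep

open Cfsg.Spor Cfsg.Spor.Fi22 Cfsg.Agent.Lib.PermNet Cfsg.Agent.Lib.PermNetOrbit
open Cfsg.Agent.Fischer.Fi22PtsNets

/-- the network of a generator -/
noncomputable def net : Gen → Net
  | .a => aN
  | .b => bN
  | .c => cN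
  | .d => dN
  | .e => eN
  | .f => fN
  | .g => gN
  | .h => hN
  | .i => iN

theorem net_ok (x : Gen) : (net x).ok (2 ^ 12) = true := by
  cases x <;> decide +kernel

/-- a word in the generators as a word of networks -/
noncomputable def nw (w : List Gen) : List Net := w.map net

theorem nw_ok (w : List Gen) : WOk (2 ^ 12) (nw w) := by
  intro L hL
  obtain ⟨x, _, rfl⟩ := List.mem_map.1 hL
  exact net_ok x

/-- the permutation of a generator -/
noncomputable def f (x : Gen) : Equiv.Perm ℕ := (net x).perm

theorem pow_eq_one {w : List Gen} {m : ℕ} (h : checkEq 12 (wpow (nw w) m) [] = true) :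
    wperm (nw w) ^ m = 1 := by
  rw [← wperm_wpow]
  exact wperm_eq_one_of_checkEq (WOk.wpow (nw_ok w) m) h

theorem cox (x y : Gen) : (f x * f y) ^ coxLabel edges x y = 1 := by
  have key : checkEq 12 (wpow (nw [x, y]) (coxLabel edges x y)) [] = true := by
    cases x <;> cases y <;> decide +kernel
  have := pow_eq_one key
  simpa [nw, wperm, f] using this

theorem rel_spider : (f .d * f .c * f .b * f .d * f .e * f .f * f .d * f .h * f .i) ^ 10 = 1 := by
  have key : checkEq 12 (wpow (nw [.d, .c, .b, .d, .e, .f, .d, .h, .i]) 10) [] = true := by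
    decide +kernel
  have := pow_eq_one key
  simpa [nw, wperm, mul_assoc, f] using this

theorem rel_e7a : (f .a * f .b * f .c * f .d * f .e * f .f * f .h) ^ 9 = 1 := by
  have key : checkEq 12 (wpow (nw [.a, .b, .c, .d, .e, .f, .h]) 9) [] = true := by
    decide +kernel
  have := pow_eq_one key
  simpa [nw, wperm, mul_assoc, f] using this

theorem rel_e7b : (f .b * f .c * f .d * f .e * f .f * f .g * f .h) ^ 9 = 1 := by
  have key : checkEq 12 (wpow (nw [.b, .c, .d, .e, .f, .g, .h]) 9) [] = true := by
    decide +kernel
  have := pow_eq_one key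
  simpa [nw, wperm, mul_assoc, f] using this

theorem rels : ∀ r ∈ coxRelators edges ∪ {r | r ∈ extra}, FreeGroup.lift f r = 1 := by
  refine cox_lift_eq_one f edges extra (fun x _ y _ => cox x y) ?_
  intro r hr
  simp only [extra, List.mem_cons, List.not_mem_nil, or_false] at hr
  rcases hr with rfl | rfl | rfl
  · simpa only [map_pow, map_mul, FreeGroup.lift_apply_of] using rel_spider
  · simpa only [map_pow, map_mul, FreeGroup.lift_apply_of] using rel_e7a
  · simpa only [map_pow, map_mul, FreeGroup.lift_apply_of] using rel_e7b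

/-- the permutation representation -/
noncomputable def φ : Spor.Fi22 →* Equiv.Perm ℕ := PresentedGroup.toGroup rels

/-- the generators of the presented group -/
def gen (x : Gen) : Spor.Fi22 := PresentedGroup.of x

/-- the value of a word in the presented group -/
def wd (w : List Gen) : Spor.Fi22 := (w.map gen).prod

theorem φ_gen (x : Gen) : φ (gen x) = (net x).perm := PresentedGroup.toGroup.of rels

theorem φ_wd (w : List Gen) : φ (wd w) = wperm (nw w) := by
  rw [wd, map_list_prod, List.map_map, nw, wperm, List.map_map]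
  congr 1

theorem wd_cons (x : Gen) (w : List Gen) : wd (x :: w) = gen x * wd w := by simp [wd]
theorem wd_nil : wd [] = 1 := rfl
theorem wd_append (v w : List Gen) : wd (v ++ w) = wd v * wd w := by simp [wd]

theorem closure_gen : Subgroup.closure (Set.range gen) = ⊤ := PresentedGroup.closure_range_of _

theorem mem_nodes (x : Gen) : x ∈ coxNodes edges := by cases x <;> decide

/-- the Coxeter relations in the presented group -/
theorem gen_cox (x y : Gen) : (gen x * gen y) ^ coxLabel edges x y = 1 := by
  have h := PresentedGroup.one_of_mem (rels := coxRelators edges ∪ {r | r ∈ extra})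
    (x := (FreeGroup.of x * FreeGroup.of y) ^ coxLabel edges x y)
    (Or.inl ⟨x, mem_nodes x, y, mem_nodes y, rfl⟩)
  rw [map_pow, map_mul] at h
  exact h

theorem gen_sq (x : Gen) : gen x * gen x = 1 := by
  have h := gen_cox x x
  rwa [show coxLabel edges x x = 1 by cases x <;> decide, pow_one] at h

theorem gen_inv (x : Gen) : (gen x)⁻¹ = gen x := inv_eq_of_mul_eq_one_left (gen_sq x)

theorem gen_comm {x y : Gen} (h : coxLabel edges x y = 2) : gen x * gen y = gen y * gen x := by
  have h2 := gen_cox x y
  rw [h, pow_two] at h2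
  have := eq_inv_of_mul_eq_one_left h2
  rw [mul_inv_rev, gen_inv, gen_inv] at this
  exact this

theorem gen_braid {x y : Gen} (h : coxLabel edges x y = 3) :
    gen x * gen y * gen x = gen y * gen x * gen y := by
  have h2 := gen_cox x y
  rw [h, pow_succ, pow_two] at h2
  have h3 : gen x * gen y * gen x * (gen y * gen x * gen y) = 1 := by
    simpa [mul_assoc] using h2
  have := eq_inv_of_mul_eq_one_left h3
  rw [this]
  simp only [mul_inv_rev, gen_inv, mul_assoc]

/-- `y = (x y) x (x y)⁻¹` for neighbours -/
theorem gen_conj {x y : Gen} (h : coxLabel edges x y = 3) (g : Spor.Fi22)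
    (hg : gen x = g * gen .a * g⁻¹) :
    gen y = (gen x * gen y * g) * gen .a * (gen x * gen y * g)⁻¹ := by
  have e : (gen x * gen y * g) * gen .a * (gen x * gen y * g)⁻¹ =
      gen x * gen y * (g * gen .a * g⁻¹) * (gen x * gen y)⁻¹ := by group
  rw [e, ← hg, gen_braid h, mul_inv_rev, gen_inv, gen_inv]
  calc gen y = gen y * (gen x * (gen y * gen y) * gen x) := by rw [gen_sq, mul_one, gen_sq, mul_one]
    _ = gen y * gen x * gen y * (gen y * gen x) := by group

theorem gen_e7a : (gen .a * gen .b * gen .c * gen .d * gen .e * gen .f * gen .h) ^ 9 = 1 := by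
  have h := PresentedGroup.one_of_mem (rels := coxRelators edges ∪ {r | r ∈ extra})
    (x := (a * b * c * d * e * Fi22.f * h) ^ 9) (Or.inr (by simp [extra]))
  simp only [map_pow, map_mul] at h
  exact h

theorem gen_e7b : (gen .b * gen .c * gen .d * gen .e * gen .f * gen .g * gen .h) ^ 9 = 1 := by
  have h := PresentedGroup.one_of_mem (rels := coxRelators edges ∪ {r | r ∈ extra})
    (x := (b * c * d * e * Fi22.f * g * h) ^ 9) (Or.inr (by simp [extra]))
  simp only [map_pow, map_mul] at h
  exact h

theorem gen_spider : (gen .d * gen .c * gen .b * gen .d * gen .e * gen .f * gen .d * gen .h *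
    gen .i) ^ 10 = 1 := by
  have h := PresentedGroup.one_of_mem (rels := coxRelators edges ∪ {r | r ∈ extra})
    (x := (d * c * b * d * e * Fi22.f * d * h * i) ^ 10) (Or.inr (by simp [extra]))
  simp only [map_pow, map_mul] at h
  exact h

/-- the image of a point under a word -/
theorem φ_wd_apply (w : List Gen) (p : ℕ) : φ (wd w) p = ptWord (nw w) p := by
  rw [φ_wd, ptWord_eq (nw_ok w)]

end Cfsg.Agent.Fischer.Fi22PtsRep
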