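import Cfsg.Agent.Fischer.Fi22U1Chk0
import Cfsg.Agent.Fischer.Fi22U1Chk1
import Cfsg.Agent.Fischer.Fi22U1Chk2
import Cfsg.Agent.Fischer.Fi22U1Chk3
import Cfsg.Agent.Fischer.Fi22U1Chk4

set_option autoImplicit false
set_option maxRecDepth 100000

namespace Cfsg.Agent.Fischer.Fi22U1All

open Cfsg.Agent.SporadicRecognition.CosetCert Cfsg.Agent.Fischer.Fi22U1Data

theorem part : Part C 0 C.N 14080 := ((((Cfsg.Agent.Fischer.Fi22U1Chk0.all).append C Cfsg.Agent.Fischer.Fi22U1Chk1.all).append C Cfsg.Agent.Fischer.Fi22U1Chk2.all).append C Cfsg.Agent.Fischer.Fi22U1Chk3.all).append C Cfsg.Agent.Fischer.Fi22U1Chk4.all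

end Cfsg.Agent.Fischer.Fi22U1All
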