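import Cfsg.Agent.Fischer.Fi22U2Chk0
import Cfsg.Agent.Fischer.Fi22U2Chk1
import Cfsg.Agent.Fischer.Fi22U2Chk2

set_option autoImplicit false
set_option maxRecDepth 100000

namespace Cfsg.Agent.Fischer.Fi22U2All

open Cfsg.Agent.SporadicRecognition.CosetCert Cfsg.Agent.Fischer.Fi22U2Data

theorem part : Part C 0 C.N 3159 := ((Cfsg.Agent.Fischer.Fi22U2Chk0.all).append C Cfsg.Agent.Fischer.Fi22U2Chk1.all).append C Cfsg.Agent.Fischer.Fi22U2Chk2.all

end Cfsg.Agent.Fischer.Fi22U2All
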