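import Cfsg.Agent.Fischer.CertStep
import Cfsg.Agent.Fischer.Fi22U1All
import Cfsg.Agent.Fischer.Fi22U2All
import Cfsg.Agent.Fischer.Fi22U3All
import Cfsg.Agent.Fischer.Fi22U4All
import Cfsg.Agent.Fischer.Fi22U5All
import Cfsg.Agent.Fischer.Fi22U6All

/-!
Order bounds for groups satisfying the relations of the Fischer presentation of Fi22
(letters `0, …, 8` = `a, …, i`, diagram `Y₃₃₂`).
-/

set_option autoImplicit false

namespace Cfsg.Agent.Fischer.Fi22Upper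

open Cfsg.Agent.SporadicRecognition.CosetCert Cfsg.Agent.Fischer.CertStep

/-- adjacency in `Y₃₃₂` on `a, …, i = 0, …, 8` -/
def adj (i j : ℕ) : Bool :=
  ([(0, 1), (1, 2), (2, 3), (3, 4), (3, 7), (4, 5), (5, 6), (7, 8)] : List (ℕ × ℕ)).any
    fun e => (e.1 == i && e.2 == j) || (e.1 == j && e.2 == i)

/-- the labels -/
def lab (i j : ℕ) : ℕ := if i = j then 1 else if adj i j then 3 else 2

theorem lab_diag (i : ℕ) : lab i i = 1 := by simp [lab]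

/-- `d c b d e f d h i` -/
def spider : List ℕ := [3, 2, 1, 3, 4, 5, 3, 7, 8]
/-- `a b c d e f h` -/
def e7a : List ℕ := [0, 1, 2, 3, 4, 5, 7]
/-- `b c d e f g h` -/
def e7b : List ℕ := [1, 2, 3, 4, 5, 6, 7]

variable {G : Type*} [Group G] (x : ℕ → G)

/-- `⟨c, d, e, f⟩`, a quotient of `W(A₄)` -/
theorem card_cdef (hcox : ∀ i ∈ [2, 3, 4, 5], ∀ j ∈ [2, 3, 4, 5], (x i * x j) ^ lab i j = 1) :
    Finite (S x [2, 3, 4, 5]) ∧ Nat.card (S x [2, 3, 4, 5]) ≤ 120 :=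
  step Fi22U6Data.C x lab [2, 3, 4, 5] [2] [] Fi22U6Data.rels Fi22U6Data.subw Fi22U6All.part rfl
    (fun _ => rfl) lab_diag hcox (by simp) (by decide +kernel) (by decide +kernel)
    (by decide +kernel)
    (start_one x 2 (by
      have := hcox 2 (by decide) 2 (by decide)
      rwa [lab_diag, pow_one] at this))

/-- `⟨c, d, e, f, h⟩`, a quotient of `W(D₅)` -/
theorem card_cdefh (hcox : ∀ i ∈ [2, 3, 4, 5, 7], ∀ j ∈ [2, 3, 4, 5, 7], (x i * x j) ^ lab i j = 1) :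
    Finite (S x [2, 3, 4, 5, 7]) ∧ Nat.card (S x [2, 3, 4, 5, 7]) ≤ 1920 :=
  step Fi22U5Data.C x lab [2, 3, 4, 5, 7] [2, 3, 4, 5] [] Fi22U5Data.rels Fi22U5Data.subw
    Fi22U5All.part rfl
    (fun _ => rfl) lab_diag hcox (by simp) (by decide +kernel) (by decide +kernel)
    (by decide +kernel)
    (card_cdef x fun i hi j hj => hcox i (by revert i; decide) j (by revert j; decide))

/-- `⟨b, c, d, e, f, h⟩`, a quotient of `W(E₆)` -/
theorem card_bcdefh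
    (hcox : ∀ i ∈ [1, 2, 3, 4, 5, 7], ∀ j ∈ [1, 2, 3, 4, 5, 7], (x i * x j) ^ lab i j = 1) :
    Finite (S x [1, 2, 3, 4, 5, 7]) ∧ Nat.card (S x [1, 2, 3, 4, 5, 7]) ≤ 51840 :=
  step Fi22U4Data.C x lab [1, 2, 3, 4, 5, 7] [2, 3, 4, 5, 7] [] Fi22U4Data.rels Fi22U4Data.subw
    Fi22U4All.part rfl
    (fun _ => rfl) lab_diag hcox (by simp) (by decide +kernel) (by decide +kernel)
    (by decide +kernel)
    (card_cdefh x fun i hi j hj => hcox i (by revert i; decide) j (by revert j; decide))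

/-- `⟨b, c, d, e, f, g, h⟩`, a quotient of `W(E₇)/{±1}` -/
theorem card_bcdefgh
    (hcox : ∀ i ∈ [1, 2, 3, 4, 5, 6, 7], ∀ j ∈ [1, 2, 3, 4, 5, 6, 7], (x i * x j) ^ lab i j = 1)
    (he : ev x e7b ^ 9 = 1) :
    Finite (S x [1, 2, 3, 4, 5, 6, 7]) ∧ Nat.card (S x [1, 2, 3, 4, 5, 6, 7]) ≤ 1451520 :=
  step Fi22U3Data.C x lab [1, 2, 3, 4, 5, 6, 7] [1, 2, 3, 4, 5, 7] [(9, e7b)] Fi22U3Data.rels
    Fi22U3Data.subw Fi22U3All.part rfl
    (fun _ => rfl) lab_diag hcox (by simpa using he) (by decide +kernel) (by decide +kernel)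
    (by decide +kernel)
    (card_bcdefh x fun i hi j hj => hcox i (by revert i; decide) j (by revert j; decide))

/-- `⟨b, c, d, e, f, g, h, i⟩`, a quotient of `Ω₇(3)` -/
theorem card_bcdefghi
    (hcox : ∀ i ∈ [1, 2, 3, 4, 5, 6, 7, 8], ∀ j ∈ [1, 2, 3, 4, 5, 6, 7, 8],
      (x i * x j) ^ lab i j = 1)
    (hs : ev x spider ^ 10 = 1) (he : ev x e7b ^ 9 = 1) :
    Finite (S x [1, 2, 3, 4, 5, 6, 7, 8]) ∧
      Nat.card (S x [1, 2, 3, 4, 5, 6, 7, 8]) ≤ 4585351680 :=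
  step Fi22U2Data.C x lab [1, 2, 3, 4, 5, 6, 7, 8] [1, 2, 3, 4, 5, 6, 7] [(10, spider), (9, e7b)]
    Fi22U2Data.rels Fi22U2Data.subw Fi22U2All.part rfl
    (fun _ => rfl) lab_diag hcox (by simpa using ⟨hs, he⟩) (by decide +kernel) (by decide +kernel)
    (by decide +kernel)
    (card_bcdefgh x (fun i hi j hj => hcox i (by revert i; decide) j (by revert j; decide)) he)

/-- the hypotheses of the certificate for the index of `⟨b, …, i⟩` in `⟨a, …, i⟩` -/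
theorem hyp1
    (hcox : ∀ i ∈ [0, 1, 2, 3, 4, 5, 6, 7, 8], ∀ j ∈ [0, 1, 2, 3, 4, 5, 6, 7, 8],
      (x i * x j) ^ lab i j = 1)
    (hs : ev x spider ^ 10 = 1) (ha : ev x e7a ^ 9 = 1) (hb : ev x e7b ^ 9 = 1) :
    Hyp Fi22U1Data.C (S x [1, 2, 3, 4, 5, 6, 7, 8]) (pick x [0, 1, 2, 3, 4, 5, 6, 7, 8]) :=
  hyp_of Fi22U1Data.C x lab [0, 1, 2, 3, 4, 5, 6, 7, 8] [1, 2, 3, 4, 5, 6, 7, 8]
    [(10, spider), (9, e7a), (9, e7b)] Fi22U1Data.rels Fi22U1Data.subw rfl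
    (fun _ => rfl) lab_diag hcox (by simpa using ⟨hs, ha, hb⟩) (by decide +kernel)
    (by decide +kernel) (by decide +kernel)

/-- `⟨a, …, i⟩` -/
theorem card_all
    (hcox : ∀ i ∈ [0, 1, 2, 3, 4, 5, 6, 7, 8], ∀ j ∈ [0, 1, 2, 3, 4, 5, 6, 7, 8],
      (x i * x j) ^ lab i j = 1)
    (hs : ev x spider ^ 10 = 1) (ha : ev x e7a ^ 9 = 1) (hb : ev x e7b ^ 9 = 1) :
    Finite (S x [0, 1, 2, 3, 4, 5, 6, 7, 8]) ∧
      Nat.card (S x [0, 1, 2, 3, 4, 5, 6, 7, 8]) ≤ 64561751654400 :=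
  step Fi22U1Data.C x lab [0, 1, 2, 3, 4, 5, 6, 7, 8] [1, 2, 3, 4, 5, 6, 7, 8]
    [(10, spider), (9, e7a), (9, e7b)] Fi22U1Data.rels Fi22U1Data.subw Fi22U1All.part rfl
    (fun _ => rfl) lab_diag hcox (by simpa using ⟨hs, ha, hb⟩) (by decide +kernel)
    (by decide +kernel) (by decide +kernel)
    (card_bcdefghi x (fun i hi j hj => hcox i (by revert i; decide) j (by revert j; decide)) hs hb)

/-- the index of `⟨b, …, i⟩` in a group generated by `a, …, i` -/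
theorem index_le
    (hcox : ∀ i ∈ [0, 1, 2, 3, 4, 5, 6, 7, 8], ∀ j ∈ [0, 1, 2, 3, 4, 5, 6, 7, 8],
      (x i * x j) ^ lab i j = 1)
    (hs : ev x spider ^ 10 = 1) (ha : ev x e7a ^ 9 = 1) (hb : ev x e7b ^ 9 = 1)
    (htop : S x [0, 1, 2, 3, 4, 5, 6, 7, 8] = ⊤) :
    (S x [1, 2, 3, 4, 5, 6, 7, 8]).index ≠ 0 ∧ (S x [1, 2, 3, 4, 5, 6, 7, 8]).index ≤ 14080 := by
  refine SporadicRecognition.CosetCert.index_le Fi22U1Data.C (S x [1, 2, 3, 4, 5, 6, 7, 8])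
    (pick x [0, 1, 2, 3, 4, 5, 6, 7, 8]) (hyp1 x hcox hs ha hb) Fi22U1All.part ?_
  have h : (Fi22U1Data.C).k = [0, 1, 2, 3, 4, 5, 6, 7, 8].length := rfl
  rw [h, closure_pick]
  exact htop

end Cfsg.Agent.Fischer.Fi22Upper
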