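import Cfsg.Agent.Fischer.Simple

/-!
# Rank three data from a point stabiliser centralising an involution
-/

set_option autoImplicit false

namespace Cfsg.Agent.Fischer.RankThreeOfStab

open Cfsg Cfsg.Agent.Fischer.Abstract Cfsg.Agent.Fischer.Simple

variable {P X : Type*} [Group P] [MulAction P X]

/-- the transposition attached to a point -/
noncomputable def tr (x0 : X) (htrans : ∀ x : X, ∃ g : P, g • x0 = x) (a : P) (x : X) : P :=
  (htrans x).choose * a * (htrans x).choose⁻¹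

theorem tr_eq (x0 : X) (htrans : ∀ x : X, ∃ g : P, g • x0 = x) (a : P)
    (hstab : ∀ g : P, g • x0 = x0 → g * a = a * g) (g : P) (x : X) (h : g • x0 = x) :
    tr x0 htrans a x = g * a * g⁻¹ := by
  unfold tr
  have h1 := (htrans x).choose_spec
  set k := (htrans x).choose with hk
  have h2 : (g⁻¹ * k) • x0 = x0 := by rw [mul_smul, h1, ← h, inv_smul_smul]
  have h3 := hstab _ h2
  have h4 : k = g * (g⁻¹ * k) := by group
  calc k * a * k⁻¹ = g * ((g⁻¹ * k) * a) * (g⁻¹ * k)⁻¹ * g⁻¹ := by group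
    _ = g * (a * (g⁻¹ * k)) * (g⁻¹ * k)⁻¹ * g⁻¹ := by rw [h3]
    _ = g * a * g⁻¹ := by group

/-- rank three data from a transitive action, where the stabiliser of `x0` centralises `a`
and has three orbits `{x0}`, the orbit of `u • x0` and the orbit of `v • x0`. -/
noncomputable def mk (x0 : X) (htrans : ∀ x : X, ∃ g : P, g • x0 = x) (a : P)
    (hstab : ∀ g : P, g • x0 = x0 → g * a = a * g) (u v : P)
    (h3 : ∀ x : X, x = x0 ∨ (∃ h : P, h • x0 = x0 ∧ h • (u • x0) = x) ∨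
      (∃ h : P, h • x0 = x0 ∧ h • (v • x0) = x))
    (ha : a * a = 1)
    (hu : a * (u * a * u⁻¹) = (u * a * u⁻¹) * a) (hu' : u * a * u⁻¹ ≠ a)
    (hv : a * (v * a * v⁻¹) * a = (v * a * v⁻¹) * a * (v * a * v⁻¹))
    (hv' : a * (v * a * v⁻¹) ≠ (v * a * v⁻¹) * a)
    (hgen : Subgroup.normalClosure {a} = (⊤ : Subgroup P)) : Rank3 P X where
  t := tr x0 htrans a
  x0 := x0
  c := u • x0
  b := v • x0
  map_smul := by
    intro g x
    obtain ⟨k, rfl⟩ := htrans x
    rw [tr_eq x0 htrans a hstab k (k • x0) rfl,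
      tr_eq x0 htrans a hstab (g * k) (g • k • x0) (by rw [mul_smul])]
    group
  trans := htrans
  rank3 := h3
  sq := by
    rw [tr_eq x0 htrans a hstab 1 x0 (one_smul _ _)]
    simpa using ha
  comm_c := by
    rw [tr_eq x0 htrans a hstab 1 x0 (one_smul _ _), tr_eq x0 htrans a hstab u _ rfl]
    simpa using hu
  ne_c := by
    rw [tr_eq x0 htrans a hstab 1 x0 (one_smul _ _), tr_eq x0 htrans a hstab u _ rfl]
    simpa using hu'
  braid_b := by
    rw [tr_eq x0 htrans a hstab 1 x0 (one_smul _ _), tr_eq x0 htrans a hstab v _ rfl]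
    simpa using hv
  ncomm_b := by
    rw [tr_eq x0 htrans a hstab 1 x0 (one_smul _ _), tr_eq x0 htrans a hstab v _ rfl]
    simpa using hv'
  gen := by
    rw [eq_top_iff, ← hgen, Subgroup.normalClosure, Subgroup.closure_le]
    intro y hy
    obtain ⟨z, hz, hzy⟩ := Group.mem_conjugatesOfSet_iff.1 hy
    rw [Set.mem_singleton_iff] at hz
    subst hz
    obtain ⟨g, hg⟩ := isConj_iff.1 hzy
    apply Subgroup.subset_closure
    refine ⟨g • x0, ?_⟩
    rw [tr_eq x0 htrans z hstab g _ rfl, hg]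

/-- simplicity criterion -/
theorem isSimpleGroup [FaithfulSMul P X] (x0 : X) (htrans : ∀ x : X, ∃ g : P, g • x0 = x) (a : P)
    (hstab : ∀ g : P, g • x0 = x0 → g * a = a * g) (u v : P)
    (h3 : ∀ x : X, x = x0 ∨ (∃ h : P, h • x0 = x0 ∧ h • (u • x0) = x) ∨
      (∃ h : P, h • x0 = x0 ∧ h • (v • x0) = x))
    (ha : a * a = 1)
    (hu : a * (u * a * u⁻¹) = (u * a * u⁻¹) * a) (hu' : u * a * u⁻¹ ≠ a)
    (hv : a * (v * a * v⁻¹) * a = (v * a * v⁻¹) * a * (v * a * v⁻¹))
    (hv' : a * (v * a * v⁻¹) ≠ (v * a * v⁻¹) * a)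
    (hgen : Subgroup.normalClosure {a} = (⊤ : Subgroup P))
    -- `w a w⁻¹` commutes with `a` and with `v a v⁻¹`, distinct from both
    (w : P) (hw1 : a * (w * a * w⁻¹) = (w * a * w⁻¹) * a) (hw2 : w • x0 ≠ x0)
    (hw3 : (v * a * v⁻¹) * (w * a * w⁻¹) = (w * a * w⁻¹) * (v * a * v⁻¹)) (hw4 : w • x0 ≠ v • x0)
    -- `z a z⁻¹` commutes neither with `a` nor with `u a u⁻¹`
    (z : P) (hz1 : a * (z * a * z⁻¹) ≠ (z * a * z⁻¹) * a)
    (hz2 : (u * a * u⁻¹) * (z * a * z⁻¹) ≠ (z * a * z⁻¹) * (u * a * u⁻¹))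
    -- `a` is a product of an even number of conjugates of `a`
    (l : List P) (hl : Even l.length) (hprod : a = (l.map fun g => g * a * g⁻¹).prod) :
    IsSimpleGroup P := by
  set R := mk x0 htrans a hstab u v h3 ha hu hu' hv hv' hgen with hR
  have e : ∀ g : P, R.t (g • x0) = g * a * g⁻¹ := fun g => tr_eq x0 htrans a hstab g _ rfl
  have e0 : R.t R.x0 = a := by
    have := e 1
    rw [one_smul] at this
    change R.t x0 = a
    rw [this]; simp
  have ec : R.t R.c = u * a * u⁻¹ := e u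
  have eb : R.t R.b = v * a * v⁻¹ := e v
  refine Simple.isSimpleGroup R ⟨w • x0, ?_, ?_, ?_, ?_⟩ ⟨z • x0, ?_, ?_⟩
    (l.map fun g => g • x0) (by simpa using hl) ?_
  · rw [R.com_def, e0, e w]; exact hw1
  · exact hw2
  · rw [R.com_def, eb, e w]; exact hw3
  · exact hw4
  · rw [R.com_def, e0, e z]; exact hz1
  · rw [R.com_def, ec, e z]; exact hz2
  · rw [e0, List.map_map]
    have : (R.t ∘ fun g => g • x0) = fun g => g * a * g⁻¹ := by
      funext g
      exact e g
    rw [this]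
    exact hprod

end Cfsg.Agent.Fischer.RankThreeOfStab
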