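import Cfsg.Agent.Fischer.Fi22PtsRep
import Cfsg.Agent.Fischer.Fi22Upper
import Cfsg.Agent.Fischer.RankThreeOfStab
import Cfsg.Prelude.Def_Sporadic

/-!
Order and simplicity of the presented Fischer group Fi22: stabiliser chain on 3510 points.
-/

set_option autoImplicit false
set_option maxRecDepth 100000

namespace Cfsg.Agent.Fischer.Fi22Order

open Cfsg.Spor Cfsg.Spor.Fi22 Cfsg.Agent.Lib.PermNet Cfsg.Agent.Lib.PermNetOrbit
open Cfsg.Agent.Fischer.Fi22PtsRep

/-- all generators -/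
def L0 : List (List Gen) := [[.a], [.b], [.c], [.d], [.e], [.f], [.g], [.h], [.i]]

/-- words fixing the first 1 base points -/
def L1 : List (List Gen) := [
  [.c],
  [.d],
  [.e],
  [.f],
  [.g],
  [.h],
  [.b, .a, .c, .b, .d, .e, .f, .c, .d, .e, .h, .d, .i, .h, .e, .d, .c, .b, .f, .e, .d, .c, .a, .b]]

/-- words fixing the first 2 base points -/
def L2 : List (List Gen) := [
  [.d],
  [.e],
  [.f],
  [.b, .a, .c, .b, .d, .c, .e, .g, .i, .h, .d, .e, .h, .c, .d, .b, .c, .a, .b, .c, .d, .h, .e, .d, .c, .a]]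

/-- words fixing the first 3 base points -/
def L3 : List (List Gen) := [
  [.e],
  [.g, .f, .e, .d, .h, .i, .h, .d, .e, .f, .g],
  [.b, .a, .c, .b, .d, .c, .h, .d, .g, .f, .e, .d, .h, .c, .d, .b, .c, .a, .b, .c, .d, .h, .e, .d, .c, .a, .h, .i, .d, .h, .d]]

/-- words fixing the first 4 base points -/
def L4 : List (List Gen) := [
  [.e],
  [.d, .f, .i, .h, .d, .e, .g, .f, .e, .d, .h, .i, .h, .d, .e, .d, .g, .f, .i, .c, .d, .e, .f, .h, .b, .a, .c, .d, .e, .f, .b, .c, .d, .e, .h, .i, .d, .h, .e, .d, .c, .f, .e, .d, .b, .c, .a, .b, .i, .h, .e, .d, .c, .h, .g, .d, .f, .e, .d, .g, .f, .i, .h, .e, .f],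
  [.d, .f, .e, .g, .h, .i, .d, .f, .e, .g, .f, .i, .h, .a, .c, .d, .e, .f, .b, .a, .c, .d, .e, .h, .i, .b, .c, .d, .e, .h, .d, .f, .g, .f, .e, .i, .d, .c, .b, .h, .d, .c, .a, .b, .f, .e, .d, .c, .a, .i, .g, .e, .f, .e, .d, .g, .f, .e, .d, .h, .i, .h, .d, .e, .f, .g]]

/-- lists of words as lists of words of networks -/
noncomputable def nws (l : List (List Gen)) : List (List Net) := l.map nw

theorem nws_ok (l : List (List Gen)) : WsOk (2 ^ 12) (nws l) := by
  intro w hw
  obtain ⟨v, _, rfl⟩ := List.mem_map.1 hw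
  exact nw_ok v

/-- a subgroup acting on the points -/
noncomputable def φr (K : Subgroup Spor.Fi22) : K →* Equiv.Perm ℕ := φ.comp K.subtype

theorem himg (K : Subgroup Spor.Fi22) (l : List (List Gen)) (h : ∀ w ∈ l, wd w ∈ K) :
    ∀ w ∈ nws l, ∃ g : K, φr K g = wperm w := by
  intro w hw
  obtain ⟨v, hv, rfl⟩ := List.mem_map.1 hw
  exact ⟨⟨wd v, h v hv⟩, φ_wd v⟩

/-! ### the kernel computations -/

theorem fix1 : fixAllB (nws L1) [0] = true := by decide +kernel
theorem fix2 : fixAllB (nws L2) [2, 0] = true := by decide +kernel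
theorem fix3 : fixAllB (nws L3) [2792, 2, 0] = true := by decide +kernel
theorem fix4 : fixAllB (nws L4) [2898, 2792, 2, 0] = true := by decide +kernel

theorem m0 : Nat.ble 3510 (pc 12 (sat (nws L0) 6 (Nat.pow 2 0))) = true := by decide +kernel
theorem m1 : Nat.ble 2816 (pc 12 (sat (nws L1) 5 (Nat.pow 2 2))) = true := by decide +kernel
theorem m2 : Nat.ble 1680 (pc 12 (sat (nws L2) 6 (Nat.pow 2 2792))) = true := by decide +kernel
theorem m3 : Nat.ble 243 (pc 12 (sat (nws L3) 6 (Nat.pow 2 2898))) = true := by decide +kernel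
theorem m4 : Nat.ble 16 (pc 12 (sat (nws L4) 2 (Nat.pow 2 2411))) = true := by decide +kernel

theorem lt0 : Nat.beq (Nat.shiftRight (sat (nws L0) 6 (Nat.pow 2 0)) (Nat.pow 2 12)) 0 = true := by
  decide +kernel
theorem lt1 : Nat.beq (Nat.shiftRight (sat (nws L1) 5 (Nat.pow 2 2)) (Nat.pow 2 12)) 0 = true := by
  decide +kernel
theorem lt2 : Nat.beq (Nat.shiftRight (sat (nws L2) 6 (Nat.pow 2 2792)) (Nat.pow 2 12)) 0 = true := by
  decide +kernel
theorem lt3 : Nat.beq (Nat.shiftRight (sat (nws L3) 6 (Nat.pow 2 2898)) (Nat.pow 2 12)) 0 = true := by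
  decide +kernel
theorem lt4 : Nat.beq (Nat.shiftRight (sat (nws L4) 2 (Nat.pow 2 2411)) (Nat.pow 2 12)) 0 = true := by
  decide +kernel

/-- the orbit of `0` is `{0, …, 3509}` -/
theorem sat0 : Nat.beq (sat (nws L0) 6 (Nat.pow 2 0)) (Nat.sub (Nat.pow 2 3510) 1) = true := by
  decide +kernel
theorem closed0 : closedB (nws L0) (Nat.sub (Nat.pow 2 3510) 1) = true := by decide +kernel

/-- the three orbits of the point stabiliser cover everything -/
theorem cover : Nat.beq (Nat.lor (Nat.lor (sat (nws L1) 5 (Nat.pow 2 2)) (sat (nws L1) 4 (Nat.pow 2 6))) 1)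
    (Nat.sub (Nat.pow 2 3510) 1) = true := by decide +kernel

/-- the words of the lower levels commute with `a` -/
noncomputable def commB (l : List (List Gen)) : Bool :=
  l.all fun w => checkEq 12 (nw (w ++ [.a])) (nw (.a :: w))

theorem comm1 : commB L1 = true := by decide +kernel
theorem comm2 : commB L2 = true := by decide +kernel
theorem comm3 : commB L3 = true := by decide +kernel
theorem comm4 : commB L4 = true := by decide +kernel

theorem commB_spec {l : List (List Gen)} (h : commB l = true) :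
    ∀ w ∈ l, φ (wd w * gen .a) = φ (gen .a * wd w) := by
  intro w hw
  have h1 := List.all_eq_true.mp h w hw
  have h2 := wperm_eq_of_checkEq (nw_ok _) (nw_ok _) h1
  rw [← φ_wd, ← φ_wd, wd_append, wd_cons, wd_cons, wd_nil, mul_one] at h2
  exact h2

/-! ### the upper bound -/

/-- the generators indexed by numbers -/
def xs (n : ℕ) : Spor.Fi22 :=
  match n with
  | 0 => gen .a
  | 1 => gen .b
  | 2 => gen .c
  | 3 => gen .d
  | 4 => gen .e
  | 5 => gen .f
  | 6 => gen .g
  | 7 => gen .h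
  | _ => gen .i

/-- number to generator -/
def ng (n : ℕ) : Gen :=
  match n with
  | 0 => .a
  | 1 => .b
  | 2 => .c
  | 3 => .d
  | 4 => .e
  | 5 => .f
  | 6 => .g
  | 7 => .h
  | _ => .i

theorem xs_eq : ∀ n, xs n = gen (ng n) := by
  intro n
  unfold xs ng
  split <;> rfl

theorem lab_eq : ∀ i ∈ [0, 1, 2, 3, 4, 5, 6, 7, 8], ∀ j ∈ [0, 1, 2, 3, 4, 5, 6, 7, 8],
    Fi22Upper.lab i j = coxLabel edges (ng i) (ng j) := by decide

theorem hcox : ∀ i ∈ [0, 1, 2, 3, 4, 5, 6, 7, 8], ∀ j ∈ [0, 1, 2, 3, 4, 5, 6, 7, 8],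
    (xs i * xs j) ^ Fi22Upper.lab i j = 1 := by
  intro i hi j hj
  rw [lab_eq i hi j hj, xs_eq, xs_eq]
  exact gen_cox _ _

theorem S_top : CertStep.S xs [0, 1, 2, 3, 4, 5, 6, 7, 8] = ⊤ := by
  rw [eq_top_iff, ← closure_gen, Subgroup.closure_le]
  rintro _ ⟨x, rfl⟩
  cases x
  · exact CertStep.mem_S xs (m := 0) (by decide)
  · exact CertStep.mem_S xs (m := 1) (by decide)
  · exact CertStep.mem_S xs (m := 2) (by decide)
  · exact CertStep.mem_S xs (m := 3) (by decide)
  · exact CertStep.mem_S xs (m := 4) (by decide)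
  · exact CertStep.mem_S xs (m := 5) (by decide)
  · exact CertStep.mem_S xs (m := 6) (by decide)
  · exact CertStep.mem_S xs (m := 7) (by decide)
  · exact CertStep.mem_S xs (m := 8) (by decide)

theorem ev_spider : SporadicRecognition.CosetCert.ev xs Fi22Upper.spider ^ 10 = 1 := by
  have := gen_spider
  simpa [SporadicRecognition.CosetCert.ev, Fi22Upper.spider, xs, mul_assoc] using this

theorem ev_e7a : SporadicRecognition.CosetCert.ev xs Fi22Upper.e7a ^ 9 = 1 := by
  have := gen_e7a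
  simpa [SporadicRecognition.CosetCert.ev, Fi22Upper.e7a, xs, mul_assoc] using this

theorem ev_e7b : SporadicRecognition.CosetCert.ev xs Fi22Upper.e7b ^ 9 = 1 := by
  have := gen_e7b
  simpa [SporadicRecognition.CosetCert.ev, Fi22Upper.e7b, xs, mul_assoc] using this

theorem upper : Finite Spor.Fi22 ∧ Nat.card Spor.Fi22 ≤ 64561751654400 := by
  have h := Fi22Upper.card_all xs hcox ev_spider ev_e7a ev_e7b
  rw [S_top] at h
  refine ⟨?_, ?_⟩
  · have := h.1
    exact Finite.of_equiv _ (Subgroup.topEquiv (G := Spor.Fi22)).toEquiv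
  · rw [← Nat.card_congr (Subgroup.topEquiv (G := Spor.Fi22)).toEquiv]
    exact h.2

instance : Finite Spor.Fi22 := upper.1

/-! ### the chain -/

theorem chain {K : Type*} [Group K] [Finite K] (ψ : K →* Equiv.Perm ℕ)
    (h1 : ∀ w ∈ nws L1, ∃ g, ψ g = wperm w) (h2 : ∀ w ∈ nws L2, ∃ g, ψ g = wperm w)
    (h3 : ∀ w ∈ nws L3, ∃ g, ψ g = wperm w) (h4 : ∀ w ∈ nws L4, ∃ g, ψ g = wperm w) :
    2816 * (1680 * (243 * (16 * Nat.card (stabL ψ [2411, 2898, 2792, 2, 0])))) ≤
      Nat.card (stabL ψ [0]) := by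
  have s1 := stabL_step_of_check ψ [0] 2 2816 5 (nws_ok L1) h1 fix1 m1 lt1
  have s2 := stabL_step_of_check ψ [2, 0] 2792 1680 6 (nws_ok L2) h2 fix2 m2 lt2
  have s3 := stabL_step_of_check ψ [2792, 2, 0] 2898 243 6 (nws_ok L3) h3 fix3 m3 lt3
  have s4 := stabL_step_of_check ψ [2898, 2792, 2, 0] 2411 16 2 (nws_ok L4) h4 fix4 m4 lt4
  calc _ ≤ 2816 * (1680 * (243 * Nat.card (stabL ψ [2898, 2792, 2, 0]))) := by gcongr
    _ ≤ 2816 * (1680 * Nat.card (stabL ψ [2792, 2, 0])) := by gcongr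
    _ ≤ 2816 * Nat.card (stabL ψ [2, 0]) := by gcongr
    _ ≤ _ := s1

theorem himg0 (l : List (List Gen)) : ∀ w ∈ nws l, ∃ g, φ g = wperm w := by
  intro w hw
  obtain ⟨v, _, rfl⟩ := List.mem_map.1 hw
  exact ⟨wd v, φ_wd v⟩

theorem chain0 : 3510 * Nat.card (stabL φ [0]) ≤ Nat.card Spor.Fi22 := by
  have s0 := stabL_step_of_check φ [] 0 3510 6 (nws_ok L0) (himg0 L0) (by decide +kernel) m0 lt0
  refine s0.trans ?_
  exact Nat.card_le_card_of_injective _ Subtype.val_injective

theorem card_values : Nat.card Spor.Fi22 = 64561751654400 ∧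
    Nat.card (stabL φ [0]) = 18393661440 ∧
    Nat.card (stabL φ [2411, 2898, 2792, 2, 0]) = 1 := by
  have h0 := chain0
  have h1 := chain φ (himg0 L1) (himg0 L2) (himg0 L3) (himg0 L4)
  have h2 := upper.2
  have h3 : 0 < Nat.card (stabL φ [2411, 2898, 2792, 2, 0]) := Nat.card_pos
  omega

theorem card_fi22 : Nat.card Spor.Fi22 = 64561751654400 := card_values.1

theorem eq_one_of_fix {g : Spor.Fi22} (h : ∀ p < 3510, φ g p = p) : g = 1 := by
  have h1 : g ∈ stabL φ [2411, 2898, 2792, 2, 0] := by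
    intro q hq
    apply h
    simp only [List.mem_cons, List.not_mem_nil, or_false] at hq
    omega
  have h2 := card_values.2.2
  rw [Nat.card_eq_one_iff_unique] at h2
  have := h2.1
  have h3 : (⟨g, h1⟩ : stabL φ [2411, 2898, 2792, 2, 0]) = 1 := Subsingleton.elim _ _
  exact congrArg Subtype.val h3

theorem φ_injective : Function.Injective φ := by
  rw [injective_iff_map_eq_one]
  intro g hg
  apply eq_one_of_fix
  intro p _
  rw [hg]; rfl

/-- the stabiliser of `0` centralises `a` -/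
theorem stab_comm {g : Spor.Fi22} (h : φ g 0 = 0) : g * gen .a = gen .a * g := by
  set K : Subgroup Spor.Fi22 := Subgroup.centralizer {gen .a} ⊓ stabL φ [0] with hK
  have hmem : ∀ (l : List (List Gen)) (qs : List ℕ), commB l = true → fixAllB (nws l) qs = true →
      0 ∈ qs → ∀ w ∈ l, wd w ∈ K := by
    intro l qs hc hf hq w hw
    refine ⟨?_, ?_⟩
    · exact Subgroup.mem_centralizer_singleton_iff.2 (φ_injective (commB_spec hc w hw))
    · intro q hq'
      rw [List.mem_singleton] at hq'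
      subst hq'
      rw [φ_wd]
      exact fixAllB_spec (nws_ok l) hf 0 hq _ (List.mem_map_of_mem hw)
  have h1 := chain (φr K) (himg K L1 (hmem L1 [0] comm1 fix1 (by decide)))
    (himg K L2 (hmem L2 [2, 0] comm2 fix2 (by decide)))
    (himg K L3 (hmem L3 [2792, 2, 0] comm3 fix3 (by decide)))
    (himg K L4 (hmem L4 [2898, 2792, 2, 0] comm4 fix4 (by decide)))
  have h2 : 0 < Nat.card (stabL (φr K) [2411, 2898, 2792, 2, 0]) := Nat.card_pos
  have h3 : Nat.card (stabL (φr K) [0]) ≤ Nat.card K :=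
    Nat.card_le_card_of_injective _ Subtype.val_injective
  have h4 := card_values.2.1
  have h5 : K = stabL φ [0] := by
    apply SetLike.coe_injective
    refine Set.eq_of_subset_of_ncard_le (s := (K : Set Spor.Fi22)) (t := (stabL φ [0] : Set Spor.Fi22))
      (fun x hx => hx.2) ?_ (Set.toFinite _)
    change Nat.card (stabL φ [0]) ≤ Nat.card K
    omega
  have h6 : g ∈ K := by
    rw [h5]
    intro q hq
    rw [List.mem_singleton] at hq
    subst hq
    exact h
  exact (Subgroup.mem_centralizer_singleton_iff.1 h6.1)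

/-! ### the action on 3510 points -/

theorem wsimg (l : List (List Gen)) : ∀ w ∈ nws l, wperm w ∈ φ.range := by
  intro w hw
  obtain ⟨v, _, rfl⟩ := List.mem_map.1 hw
  exact ⟨wd v, φ_wd v⟩

theorem exists_of_lt {p : ℕ} (hp : p < 3510) : ∃ g, φ g 0 = p := by
  have h1 : sat (nws L0) 6 (2 ^ 0) = 2 ^ 3510 - 1 := Nat.eq_of_beq_eq_true sat0
  have h2 : (sat (nws L0) 6 (2 ^ 0)).testBit p = true := by
    rw [h1, Nat.testBit_two_pow_sub_one]
    simpa using hp
  obtain ⟨_, ⟨g, rfl⟩, hg⟩ := sat_point_spec (K := φ.range) (nws_ok L0) (wsimg L0) 6 h2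
  exact ⟨g, hg⟩

theorem φ_lt {p : ℕ} (g : Spor.Fi22) (hp : p < 3510) : φ g p < 3510 := by
  have h1 : ∀ x ∈ Set.range gen, ∀ p, (2 ^ 3510 - 1).testBit (φ x p) = (2 ^ 3510 - 1).testBit p := by
    rintro _ ⟨x, rfl⟩ p
    have := closedB_spec (nws_ok L0) closed0 (nw [x]) (by
      apply List.mem_map_of_mem
      cases x <;> decide) p
    have e : wperm (nw [x]) = φ (gen x) := by
      rw [← φ_wd]; simp [wd]
    rw [e] at this
    exact this
  have h2 : ∀ p, (2 ^ 3510 - 1).testBit (φ g p) = (2 ^ 3510 - 1).testBit p := by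
    have hg : g ∈ Subgroup.closure (Set.range gen) := by rw [closure_gen]; trivial
    induction hg using Subgroup.closure_induction with
    | mem x hx => exact h1 x hx
    | one => intro p; simp
    | mul x y _ _ hx hy => intro p; rw [map_mul, Equiv.Perm.mul_apply, hx, hy]
    | inv x _ hx => intro p; rw [← hx, map_inv]; simp
  have h3 := h2 p
  rw [Nat.testBit_two_pow_sub_one, Nat.testBit_two_pow_sub_one] at h3
  simpa [hp] using h3

/-- the points -/
abbrev X : Type := {p : ℕ // p < 3510}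

noncomputable instance : MulAction Spor.Fi22 X where
  smul g x := ⟨φ g x.1, φ_lt g x.2⟩
  one_smul x := by
    apply Subtype.ext
    change φ 1 x.1 = x.1
    rw [map_one]; rfl
  mul_smul g h x := by
    apply Subtype.ext
    change φ (g * h) x.1 = φ g (φ h x.1)
    rw [map_mul]; rfl

theorem smul_val (g : Spor.Fi22) (x : X) : (g • x).1 = φ g x.1 := rfl

instance : FaithfulSMul Spor.Fi22 X where
  eq_of_smul_eq_smul := by
    intro g h hgh
    have h1 : h⁻¹ * g = 1 := by
      apply eq_one_of_fix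
      intro p hp
      have h2 := congrArg Subtype.val (hgh ⟨p, hp⟩)
      rw [smul_val, smul_val] at h2
      change φ g p = φ h p at h2
      rw [map_mul, Equiv.Perm.mul_apply, h2, map_inv]
      simp
    exact (inv_mul_eq_one.1 h1).symm

/-- the base point -/
def x0 : X := ⟨0, by norm_num⟩

theorem gen_b : gen .b = wd [.a, .b] * gen .a * (wd [.a, .b])⁻¹ := by
  have := gen_conj (x := .a) (y := .b) (by decide) 1 (by simp)
  simpa [wd] using this

theorem gen_c : gen .c = wd [.b, .c, .a, .b] * gen .a * (wd [.b, .c, .a, .b])⁻¹ := by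
  have := gen_conj (x := .b) (y := .c) (by decide) _ gen_b
  simpa [wd, mul_assoc] using this

theorem gen_d : gen .d = wd [.c, .d, .b, .c, .a, .b] * gen .a * (wd [.c, .d, .b, .c, .a, .b])⁻¹ := by
  have := gen_conj (x := .c) (y := .d) (by decide) _ gen_c
  simpa [wd, mul_assoc] using this

theorem gen_e : gen .e = wd [.d, .e, .c, .d, .b, .c, .a, .b] * gen .a *
    (wd [.d, .e, .c, .d, .b, .c, .a, .b])⁻¹ := by
  have := gen_conj (x := .d) (y := .e) (by decide) _ gen_d
  simpa [wd, mul_assoc] using this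

theorem gen_h : gen .h = wd [.d, .h, .c, .d, .b, .c, .a, .b] * gen .a *
    (wd [.d, .h, .c, .d, .b, .c, .a, .b])⁻¹ := by
  have := gen_conj (x := .d) (y := .h) (by decide) _ gen_d
  simpa [wd, mul_assoc] using this

theorem gen_f : gen .f = wd [.e, .f, .d, .e, .c, .d, .b, .c, .a, .b] * gen .a *
    (wd [.e, .f, .d, .e, .c, .d, .b, .c, .a, .b])⁻¹ := by
  have := gen_conj (x := .e) (y := .f) (by decide) _ gen_e
  simpa [wd, mul_assoc] using this

theorem gen_g : gen .g = wd [.f, .g, .e, .f, .d, .e, .c, .d, .b, .c, .a, .b] * gen .a *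
    (wd [.f, .g, .e, .f, .d, .e, .c, .d, .b, .c, .a, .b])⁻¹ := by
  have := gen_conj (x := .f) (y := .g) (by decide) _ gen_f
  simpa [wd, mul_assoc] using this

theorem gen_i : gen .i = wd [.h, .i, .d, .h, .c, .d, .b, .c, .a, .b] * gen .a *
    (wd [.h, .i, .d, .h, .c, .d, .b, .c, .a, .b])⁻¹ := by
  have := gen_conj (x := .h) (y := .i) (by decide) _ gen_h
  simpa [wd, mul_assoc] using this

/-- conjugating words -/
def cw : Gen → List Gen
  | .a => []
  | .b => [.a, .b]
  | .c => [.b, .c, .a, .b]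
  | .d => [.c, .d, .b, .c, .a, .b]
  | .e => [.d, .e, .c, .d, .b, .c, .a, .b]
  | .f => [.e, .f, .d, .e, .c, .d, .b, .c, .a, .b]
  | .g => [.f, .g, .e, .f, .d, .e, .c, .d, .b, .c, .a, .b]
  | .h => [.d, .h, .c, .d, .b, .c, .a, .b]
  | .i => [.h, .i, .d, .h, .c, .d, .b, .c, .a, .b]

theorem gen_cw (x : Gen) : gen x = wd (cw x) * gen .a * (wd (cw x))⁻¹ := by
  cases x
  · simp [cw, wd]
  · exact gen_b
  · exact gen_c
  · exact gen_d
  · exact gen_e
  · exact gen_f
  · exact gen_g
  · exact gen_h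
  · exact gen_i

theorem normalClosure_a : Subgroup.normalClosure {gen .a} = (⊤ : Subgroup Spor.Fi22) := by
  rw [eq_top_iff, ← closure_gen, Subgroup.closure_le]
  rintro _ ⟨x, rfl⟩
  rw [gen_cw x]
  exact (Subgroup.normalClosure_normal (s := {gen Gen.a})).conj_mem _
    (Subgroup.subset_normalClosure (Set.mem_singleton _)) _

theorem htrans (x : X) : ∃ g : Spor.Fi22, g • x0 = x := by
  obtain ⟨g, hg⟩ := exists_of_lt x.2
  exact ⟨g, Subtype.ext hg⟩

theorem orbit_aux (r p q : ℕ) (hq : (sat (nws L1) r (2 ^ p)).testBit q = true) :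
    ∃ g : Spor.Fi22, φ g 0 = 0 ∧ φ g p = q := by
  obtain ⟨_, ⟨g, hg, rfl⟩, hgq⟩ := sat_point_spec (K := (stabL φ [0]).map φ) (nws_ok L1) (by
    intro w hw
    obtain ⟨v, hv, rfl⟩ := List.mem_map.1 hw
    refine ⟨wd v, ?_, φ_wd v⟩
    intro q hq'
    rw [List.mem_singleton] at hq'
    subst hq'
    rw [φ_wd]
    exact fixAllB_spec (nws_ok L1) fix1 0 (by decide) _ (List.mem_map_of_mem hv)) r hq
  exact ⟨g, hg 0 (by simp), hgq⟩

theorem pt_b : φ (wd [.a, .b]) 0 = 2 := by
  rw [φ_wd_apply]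
  exact Nat.eq_of_beq_eq_true (by decide +kernel)

theorem pt_c : φ (wd [.b, .c, .a, .b]) 0 = 6 := by
  rw [φ_wd_apply]
  exact Nat.eq_of_beq_eq_true (by decide +kernel)

theorem pt_d : φ (wd [.c, .d, .b, .c, .a, .b]) 0 = 16 := by
  rw [φ_wd_apply]
  exact Nat.eq_of_beq_eq_true (by decide +kernel)

theorem rank3 (x : X) : x = x0 ∨
    (∃ g : Spor.Fi22, g • x0 = x0 ∧ g • (wd [.b, .c, .a, .b] • x0) = x) ∨
    (∃ g : Spor.Fi22, g • x0 = x0 ∧ g • (wd [.a, .b] • x0) = x) := by
  have h1 : (sat (nws L1) 5 (2 ^ 2) ||| sat (nws L1) 4 (2 ^ 6)) ||| 1 = 2 ^ 3510 - 1 :=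
    Nat.eq_of_beq_eq_true cover
  have h2 : ((sat (nws L1) 5 (2 ^ 2) ||| sat (nws L1) 4 (2 ^ 6)) ||| 1).testBit x.1 = true := by
    rw [h1, Nat.testBit_two_pow_sub_one]
    simpa using x.2
  rw [Nat.testBit_or, Nat.testBit_or, Bool.or_eq_true, Bool.or_eq_true] at h2
  rcases h2 with (h2 | h2) | h2
  · right; right
    obtain ⟨g, hg0, hg⟩ := orbit_aux 5 2 x.1 h2
    refine ⟨g, Subtype.ext hg0, Subtype.ext ?_⟩
    rw [smul_val, smul_val]
    change φ g (φ (wd [.a, .b]) 0) = x.1
    rw [pt_b, hg]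
  · right; left
    obtain ⟨g, hg0, hg⟩ := orbit_aux 4 6 x.1 h2
    refine ⟨g, Subtype.ext hg0, Subtype.ext ?_⟩
    rw [smul_val, smul_val]
    change φ g (φ (wd [.b, .c, .a, .b]) 0) = x.1
    rw [pt_c, hg]
  · left
    apply Subtype.ext
    change x.1 = 0
    have h3 : (2 ^ 0 : ℕ).testBit x.1 = true := h2
    rw [Nat.testBit_two_pow] at h3
    have h4 : 0 = x.1 := by simpa using h3
    exact h4.symm

theorem ne_of_pt {v w : List Gen} {p : ℕ} (h : Nat.beq (ptWord (nw v) p) (ptWord (nw w) p) = false) :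
    wd v ≠ wd w := by
  intro e
  have h1 : φ (wd v) p = φ (wd w) p := by rw [e]
  rw [φ_wd_apply, φ_wd_apply] at h1
  rw [h1, Nat.beq_refl] at h
  exact absurd h (by simp)

theorem c_ne_a : gen .c ≠ gen .a := by
  have := ne_of_pt (v := [.c]) (w := [.a]) (p := 1) (by decide +kernel)
  simpa [wd] using this

theorem ab_ne : gen .a * gen .b ≠ gen .b * gen .a := by
  have := ne_of_pt (v := [.a, .b]) (w := [.b, .a]) (p := 0) (by decide +kernel)
  simpa [wd] using this

theorem cb_ne : gen .c * gen .b ≠ gen .b * gen .c := by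
  have := ne_of_pt (v := [.c, .b]) (w := [.b, .c]) (p := 0) (by decide +kernel)
  simpa [wd] using this

/-- `a` as a word of length 62 -/
def word62 : List Gen :=
  (List.replicate 8 [Gen.h, .f, .e, .d, .c, .b, .a]).flatten ++ [.h, .f, .e, .d, .c, .b]

theorem wd_replicate (n : ℕ) (w : List Gen) : wd (List.replicate n w).flatten = wd w ^ n := by
  induction n with
  | zero => simp [wd]
  | succ n ih => rw [List.replicate_succ, List.flatten_cons, wd_append, ih, pow_succ']

theorem a_eq : gen .a = wd word62 := by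
  have h := gen_e7a
  have e : wd [Gen.h, .f, .e, .d, .c, .b, .a] =
      (gen .a * gen .b * gen .c * gen .d * gen .e * gen .f * gen .h)⁻¹ := by
    simp only [wd, List.map_cons, List.map_nil, List.prod_cons, List.prod_nil, mul_one, mul_inv_rev,
      gen_inv]
  have h1 : wd [Gen.h, .f, .e, .d, .c, .b, .a] ^ 9 = 1 := by
    rw [e, inv_pow, h, inv_one]
  have h2 : wd word62 * gen .a = 1 := by
    rw [← h1, word62, wd_append, wd_replicate, pow_succ, mul_assoc]
    congr 1
  exact (eq_inv_of_mul_eq_one_left h2).trans (gen_inv .a) |>.symm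

theorem isSimple : IsSimpleGroup Spor.Fi22 := by
  refine RankThreeOfStab.isSimpleGroup (P := Spor.Fi22) (X := X) x0 htrans (gen .a) ?_
    (wd [.b, .c, .a, .b]) (wd [.a, .b]) rank3 (gen_sq .a) ?_ ?_ ?_ ?_ normalClosure_a
    (wd [.c, .d, .b, .c, .a, .b]) ?_ ?_ ?_ ?_ (wd [.a, .b]) ?_ ?_
    (word62.map fun x => wd (cw x)) (by decide) ?_
  · intro g hg
    exact stab_comm (congrArg Subtype.val hg)
  · rw [← gen_c]; exact gen_comm (by decide)
  · rw [← gen_c]; exact c_ne_a
  · rw [← gen_b]; exact gen_braid (by decide)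
  · rw [← gen_b]; exact ab_ne
  · rw [← gen_d]; exact gen_comm (by decide)
  · intro h
    have := congrArg Subtype.val h
    change φ _ 0 = 0 at this
    rw [pt_d] at this
    exact absurd this (by norm_num)
  · rw [← gen_d, ← gen_b]; exact gen_comm (by decide)
  · intro h
    have := congrArg Subtype.val h
    change φ _ 0 = φ _ 0 at this
    rw [pt_d, pt_b] at this
    exact absurd this (by norm_num)
  · rw [← gen_b]; exact ab_ne
  · rw [← gen_c, ← gen_b]; exact cb_ne
  · rw [List.map_map]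
    have e : ((fun g : Spor.Fi22 => g * gen .a * g⁻¹) ∘ fun x => wd (cw x)) = gen := by
      funext x
      exact (gen_cw x).symm
    rw [e]
    exact a_eq

end Cfsg.Agent.Fischer.Fi22Order
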