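import Cfsg.Agent.Fischer.Fi23Nets
import Cfsg.Prelude.Def_Spor_Fi23

/-!
The coset action of the presented group `Cfsg.Spor.Fi23` on 31671 points (cosets of `⟨a, …, i⟩`), as a
homomorphism to `Equiv.Perm ℕ` given by networks: all relators hold.
-/

set_option autoImplicit false
set_option maxRecDepth 100000

namespace Cfsg.Agent.Fischer.Fi23Rel

open Cfsg.Agent.Lib.PermNet Cfsg.Agent.Fischer.Fi23Nets
open Cfsg.Spor.Fi23 (Gen)

theorem ok_a : na.ok (2 ^ 15) = true := by decide +kernel
theorem ok_b : nb.ok (2 ^ 15) = true := by decide +kernel
theorem ok_c : nc.ok (2 ^ 15) = true := by decide +kernel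
theorem ok_d : nd.ok (2 ^ 15) = true := by decide +kernel
theorem ok_e : ne.ok (2 ^ 15) = true := by decide +kernel
theorem ok_f : nf.ok (2 ^ 15) = true := by decide +kernel
theorem ok_g : ng.ok (2 ^ 15) = true := by decide +kernel
theorem ok_j : nj.ok (2 ^ 15) = true := by decide +kernel
theorem ok_h : nh.ok (2 ^ 15) = true := by decide +kernel
theorem ok_i : ni.ok (2 ^ 15) = true := by decide +kernel

theorem sq_a : checkEq 15 [na, na] [] = true := by decide +kernel
theorem rel_ab : checkEq 15 [na, nb, na, nb, na, nb] [] = true := by decide +kernel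
theorem rel_ac : checkEq 15 [na, nc, na, nc] [] = true := by decide +kernel
theorem rel_ad : checkEq 15 [na, nd, na, nd] [] = true := by decide +kernel
theorem rel_ae : checkEq 15 [na, ne, na, ne] [] = true := by decide +kernel
theorem rel_af : checkEq 15 [na, nf, na, nf] [] = true := by decide +kernel
theorem rel_ag : checkEq 15 [na, ng, na, ng] [] = true := by decide +kernel
theorem rel_aj : checkEq 15 [na, nj, na, nj] [] = true := by decide +kernel
theorem rel_ah : checkEq 15 [na, nh, na, nh] [] = true := by decide +kernel
theorem rel_ai : checkEq 15 [na, ni, na, ni] [] = true := by decide +kernel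
theorem sq_b : checkEq 15 [nb, nb] [] = true := by decide +kernel
theorem rel_bc : checkEq 15 [nb, nc, nb, nc, nb, nc] [] = true := by decide +kernel
theorem rel_bd : checkEq 15 [nb, nd, nb, nd] [] = true := by decide +kernel
theorem rel_be : checkEq 15 [nb, ne, nb, ne] [] = true := by decide +kernel
theorem rel_bf : checkEq 15 [nb, nf, nb, nf] [] = true := by decide +kernel
theorem rel_bg : checkEq 15 [nb, ng, nb, ng] [] = true := by decide +kernel
theorem rel_bj : checkEq 15 [nb, nj, nb, nj] [] = true := by decide +kernel
theorem rel_bh : checkEq 15 [nb, nh, nb, nh] [] = true := by decide +kernel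
theorem rel_bi : checkEq 15 [nb, ni, nb, ni] [] = true := by decide +kernel
theorem sq_c : checkEq 15 [nc, nc] [] = true := by decide +kernel
theorem rel_cd : checkEq 15 [nc, nd, nc, nd, nc, nd] [] = true := by decide +kernel
theorem rel_ce : checkEq 15 [nc, ne, nc, ne] [] = true := by decide +kernel
theorem rel_cf : checkEq 15 [nc, nf, nc, nf] [] = true := by decide +kernel
theorem rel_cg : checkEq 15 [nc, ng, nc, ng] [] = true := by decide +kernel
theorem rel_cj : checkEq 15 [nc, nj, nc, nj] [] = true := by decide +kernel
theorem rel_ch : checkEq 15 [nc, nh, nc, nh] [] = true := by decide +kernel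
theorem rel_ci : checkEq 15 [nc, ni, nc, ni] [] = true := by decide +kernel
theorem sq_d : checkEq 15 [nd, nd] [] = true := by decide +kernel
theorem rel_de : checkEq 15 [nd, ne, nd, ne, nd, ne] [] = true := by decide +kernel
theorem rel_df : checkEq 15 [nd, nf, nd, nf] [] = true := by decide +kernel
theorem rel_dg : checkEq 15 [nd, ng, nd, ng] [] = true := by decide +kernel
theorem rel_dj : checkEq 15 [nd, nj, nd, nj] [] = true := by decide +kernel
theorem rel_dh : checkEq 15 [nd, nh, nd, nh, nd, nh] [] = true := by decide +kernel
theorem rel_di : checkEq 15 [nd, ni, nd, ni] [] = true := by decide +kernel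
theorem sq_e : checkEq 15 [ne, ne] [] = true := by decide +kernel
theorem rel_ef : checkEq 15 [ne, nf, ne, nf, ne, nf] [] = true := by decide +kernel
theorem rel_eg : checkEq 15 [ne, ng, ne, ng] [] = true := by decide +kernel
theorem rel_ej : checkEq 15 [ne, nj, ne, nj] [] = true := by decide +kernel
theorem rel_eh : checkEq 15 [ne, nh, ne, nh] [] = true := by decide +kernel
theorem rel_ei : checkEq 15 [ne, ni, ne, ni] [] = true := by decide +kernel
theorem sq_f : checkEq 15 [nf, nf] [] = true := by decide +kernel
theorem rel_fg : checkEq 15 [nf, ng, nf, ng, nf, ng] [] = true := by decide +kernel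
theorem rel_fj : checkEq 15 [nf, nj, nf, nj] [] = true := by decide +kernel
theorem rel_fh : checkEq 15 [nf, nh, nf, nh] [] = true := by decide +kernel
theorem rel_fi : checkEq 15 [nf, ni, nf, ni] [] = true := by decide +kernel
theorem sq_g : checkEq 15 [ng, ng] [] = true := by decide +kernel
theorem rel_gj : checkEq 15 [ng, nj, ng, nj, ng, nj] [] = true := by decide +kernel
theorem rel_gh : checkEq 15 [ng, nh, ng, nh] [] = true := by decide +kernel
theorem rel_gi : checkEq 15 [ng, ni, ng, ni] [] = true := by decide +kernel
theorem sq_j : checkEq 15 [nj, nj] [] = true := by decide +kernel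
theorem rel_jh : checkEq 15 [nj, nh, nj, nh] [] = true := by decide +kernel
theorem rel_ji : checkEq 15 [nj, ni, nj, ni] [] = true := by decide +kernel
theorem sq_h : checkEq 15 [nh, nh] [] = true := by decide +kernel
theorem rel_hi : checkEq 15 [nh, ni, nh, ni, nh, ni] [] = true := by decide +kernel
theorem sq_i : checkEq 15 [ni, ni] [] = true := by decide +kernel

/-- The networks of the generators. -/
noncomputable def net : Gen → Net
  | .a => na
  | .b => nb
  | .c => nc
  | .d => nd
  | .e => ne
  | .f => nf
  | .g => ng
  | .j => nj
  | .h => nh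
  | .i => ni

theorem ok_net (x : Gen) : (net x).ok (2 ^ 15) = true := by
  cases x
  · exact ok_a
  · exact ok_b
  · exact ok_c
  · exact ok_d
  · exact ok_e
  · exact ok_f
  · exact ok_g
  · exact ok_j
  · exact ok_h
  · exact ok_i

theorem wok (l : List Gen) : WOk (2 ^ 15) (l.map net) := by
  intro K hK
  obtain ⟨x, _, rfl⟩ := List.mem_map.1 hK
  exact ok_net x

/-- The spider word to the tenth power. -/
noncomputable def spider : List Net := [nd, nc, nb, nd, ne, nf, nd, nh, ni]
noncomputable def spider10 : List Net :=
  spider ++ (spider ++ (spider ++ (spider ++ (spider ++ (spider ++ (spider ++ (spider ++ (spider ++ spider))))))))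
noncomputable def cox7 : List Net := [na, nb, nc, nd, ne, nf, nh]
noncomputable def cox79 : List Net :=
  cox7 ++ (cox7 ++ (cox7 ++ (cox7 ++ (cox7 ++ (cox7 ++ (cox7 ++ (cox7 ++ cox7)))))))

theorem spider_0 : checkPlane 15 spider10 [] 0 = true := by decide +kernel
theorem spider_1 : checkPlane 15 spider10 [] 1 = true := by decide +kernel
theorem spider_2 : checkPlane 15 spider10 [] 2 = true := by decide +kernel
theorem spider_3 : checkPlane 15 spider10 [] 3 = true := by decide +kernel
theorem spider_4 : checkPlane 15 spider10 [] 4 = true := by decide +kernel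
theorem spider_5 : checkPlane 15 spider10 [] 5 = true := by decide +kernel
theorem spider_6 : checkPlane 15 spider10 [] 6 = true := by decide +kernel
theorem spider_7 : checkPlane 15 spider10 [] 7 = true := by decide +kernel
theorem spider_8 : checkPlane 15 spider10 [] 8 = true := by decide +kernel
theorem spider_9 : checkPlane 15 spider10 [] 9 = true := by decide +kernel
theorem spider_10 : checkPlane 15 spider10 [] 10 = true := by decide +kernel
theorem spider_11 : checkPlane 15 spider10 [] 11 = true := by decide +kernel
theorem spider_12 : checkPlane 15 spider10 [] 12 = true := by decide +kernel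
theorem spider_13 : checkPlane 15 spider10 [] 13 = true := by decide +kernel
theorem spider_14 : checkPlane 15 spider10 [] 14 = true := by decide +kernel
theorem cox7_0 : checkPlane 15 cox79 [] 0 = true := by decide +kernel
theorem cox7_1 : checkPlane 15 cox79 [] 1 = true := by decide +kernel
theorem cox7_2 : checkPlane 15 cox79 [] 2 = true := by decide +kernel
theorem cox7_3 : checkPlane 15 cox79 [] 3 = true := by decide +kernel
theorem cox7_4 : checkPlane 15 cox79 [] 4 = true := by decide +kernel
theorem cox7_5 : checkPlane 15 cox79 [] 5 = true := by decide +kernel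
theorem cox7_6 : checkPlane 15 cox79 [] 6 = true := by decide +kernel
theorem cox7_7 : checkPlane 15 cox79 [] 7 = true := by decide +kernel
theorem cox7_8 : checkPlane 15 cox79 [] 8 = true := by decide +kernel
theorem cox7_9 : checkPlane 15 cox79 [] 9 = true := by decide +kernel
theorem cox7_10 : checkPlane 15 cox79 [] 10 = true := by decide +kernel
theorem cox7_11 : checkPlane 15 cox79 [] 11 = true := by decide +kernel
theorem cox7_12 : checkPlane 15 cox79 [] 12 = true := by decide +kernel
theorem cox7_13 : checkPlane 15 cox79 [] 13 = true := by decide +kernel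
theorem cox7_14 : checkPlane 15 cox79 [] 14 = true := by decide +kernel

end Cfsg.Agent.Fischer.Fi23Rel
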