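import Cfsg.Agent.Fischer.Fi23Orb

/-!
The transposition `z0 = (bcdefgh)^9` in the degree 31671 action: it commutes with `a, …, i` and satisfies the
braid relation with `j`.
-/

set_option autoImplicit false
set_option maxRecDepth 100000

namespace Cfsg.Agent.Fischer.Fi23Z

open Cfsg.Agent.Lib.PermNet Cfsg.Agent.Lib.PermNetOrbit Cfsg.Agent.Fischer.Fi23Nets
  Cfsg.Agent.Fischer.Fi23Rel Cfsg.Agent.Fischer.Fi23Hom Cfsg.Agent.Fischer.Fi23OrbData
  Cfsg.Agent.Fischer.Fi23Orb
open Cfsg.Spor Cfsg.Spor.Fi23

theorem ok_z : nz.ok (2 ^ 15) = true := by decide +kernel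

/-- The letters of a Coxeter element of the second E7 diagram. -/
def c7 : List Gen := [.b, .c, .d, .e, .f, .g, .h]

/-- The letters of `(bcdefgh)^9`. -/
def z63 : List Gen :=
  c7 ++ (c7 ++ (c7 ++ (c7 ++ (c7 ++ (c7 ++ (c7 ++ (c7 ++ c7)))))))

/-- The element `(bcdefgh)^9`. -/
def z0 : Fi23 := word z63

theorem zw_0 : checkPlane 15 (z63.map net) [nz] 0 = true := by decide +kernel
theorem zw_1 : checkPlane 15 (z63.map net) [nz] 1 = true := by decide +kernel
theorem zw_2 : checkPlane 15 (z63.map net) [nz] 2 = true := by decide +kernel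
theorem zw_3 : checkPlane 15 (z63.map net) [nz] 3 = true := by decide +kernel
theorem zw_4 : checkPlane 15 (z63.map net) [nz] 4 = true := by decide +kernel
theorem zw_5 : checkPlane 15 (z63.map net) [nz] 5 = true := by decide +kernel
theorem zw_6 : checkPlane 15 (z63.map net) [nz] 6 = true := by decide +kernel
theorem zw_7 : checkPlane 15 (z63.map net) [nz] 7 = true := by decide +kernel
theorem zw_8 : checkPlane 15 (z63.map net) [nz] 8 = true := by decide +kernel
theorem zw_9 : checkPlane 15 (z63.map net) [nz] 9 = true := by decide +kernel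
theorem zw_10 : checkPlane 15 (z63.map net) [nz] 10 = true := by decide +kernel
theorem zw_11 : checkPlane 15 (z63.map net) [nz] 11 = true := by decide +kernel
theorem zw_12 : checkPlane 15 (z63.map net) [nz] 12 = true := by decide +kernel
theorem zw_13 : checkPlane 15 (z63.map net) [nz] 13 = true := by decide +kernel
theorem zw_14 : checkPlane 15 (z63.map net) [nz] 14 = true := by decide +kernel
theorem zc_a : checkEq 15 [nz, na] [na, nz] = true := by decide +kernel
theorem zc_b : checkEq 15 [nz, nb] [nb, nz] = true := by decide +kernel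
theorem zc_c : checkEq 15 [nz, nc] [nc, nz] = true := by decide +kernel
theorem zc_d : checkEq 15 [nz, nd] [nd, nz] = true := by decide +kernel
theorem zc_e : checkEq 15 [nz, ne] [ne, nz] = true := by decide +kernel
theorem zc_f : checkEq 15 [nz, nf] [nf, nz] = true := by decide +kernel
theorem zc_g : checkEq 15 [nz, ng] [ng, nz] = true := by decide +kernel
theorem zc_h : checkEq 15 [nz, nh] [nh, nz] = true := by decide +kernel
theorem zc_i : checkEq 15 [nz, ni] [ni, nz] = true := by decide +kernel
theorem zj : checkEq 15 [nz, nj, nz] [nj, nz, nj] = true := by decide +kernel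
theorem zz : checkEq 15 [nz, nz] [] = true := by decide +kernel
theorem znj : Nat.beq (ptWord [nz, nj] 0) (ptWord [nj, nz] 0) = false := by decide +kernel

theorem wz : WOk (2 ^ 15) [nz] := WOk.cons ok_z (WOk.nil _)

theorem rho_z0 : rho z0 = nz.perm := by
  unfold z0
  rw [rho_word]
  have h : wperm (z63.map net) = wperm [nz] := by
    apply wperm_eq_of_planes (wok z63) wz
    intro b hb
    interval_cases b
    · exact zw_0
    · exact zw_1
    · exact zw_2
    · exact zw_3
    · exact zw_4
    · exact zw_5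
    · exact zw_6
    · exact zw_7
    · exact zw_8
    · exact zw_9
    · exact zw_10
    · exact zw_11
    · exact zw_12
    · exact zw_13
    · exact zw_14
  rw [h, wperm_cons, wperm_nil, mul_one]

theorem comm_of {X Y : Net} (hX : X.ok (2 ^ 15) = true) (hY : Y.ok (2 ^ 15) = true)
    (h : checkEq 15 [X, Y] [Y, X] = true) : X.perm * Y.perm = Y.perm * X.perm := by
  have := wperm_eq_of_checkEq (WOk.cons hX (WOk.cons hY (WOk.nil _)))
    (WOk.cons hY (WOk.cons hX (WOk.nil _))) h
  simpa [wperm_cons, wperm_nil] using this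

theorem braid_of {X Y : Net} (hX : X.ok (2 ^ 15) = true) (hY : Y.ok (2 ^ 15) = true)
    (h : checkEq 15 [X, Y, X] [Y, X, Y] = true) :
    X.perm * Y.perm * X.perm = Y.perm * X.perm * Y.perm := by
  have := wperm_eq_of_checkEq (WOk.cons hX (WOk.cons hY (WOk.cons hX (WOk.nil _))))
    (WOk.cons hY (WOk.cons hX (WOk.cons hY (WOk.nil _)))) h
  simpa [wperm_cons, wperm_nil, mul_assoc] using this

/-- `z0` commutes with `a, …, i` in the action. -/
theorem z_comm (x : Gen) (hx : x ≠ Gen.j) : rho z0 * rho (gen x) = rho (gen x) * rho z0 := by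
  rw [rho_z0, rho_gen]
  cases x
  · exact comm_of ok_z ok_a zc_a
  · exact comm_of ok_z ok_b zc_b
  · exact comm_of ok_z ok_c zc_c
  · exact comm_of ok_z ok_d zc_d
  · exact comm_of ok_z ok_e zc_e
  · exact comm_of ok_z ok_f zc_f
  · exact comm_of ok_z ok_g zc_g
  · exact absurd rfl hx
  · exact comm_of ok_z ok_h zc_h
  · exact comm_of ok_z ok_i zc_i

theorem z_braid : rho z0 * rho (gen .j) * rho z0 = rho (gen .j) * rho z0 * rho (gen .j) := by
  rw [rho_z0, rho_gen]
  exact braid_of ok_z ok_j zj

theorem z_sq : rho z0 * rho z0 = 1 := by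
  rw [rho_z0]
  have := wperm_eq_one_of_checkEq (WOk.cons ok_z wz) zz
  simpa [wperm_cons, wperm_nil] using this

end Cfsg.Agent.Fischer.Fi23Z
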