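import Cfsg.Agent.Fischer.DoubleFi22
import Cfsg.Agent.Fischer.Fi23Z

/-!
In the presented group `Fi23` the subgroup `⟨a, …, i⟩` is a non-split double cover of the presented `Fi22`, if the
latter is simple.
-/

set_option autoImplicit false
set_option maxRecDepth 100000

namespace Cfsg.Agent.Fischer.Fi23Double

open Cfsg Cfsg.Spor Cfsg.Agent.Lib.PermNet Cfsg.Agent.Fischer.DoubleFi22

/-- The inclusion of the generators. -/
def emb : Fi22.Gen → Fi23.Gen
  | .a => .a
  | .b => .b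
  | .c => .c
  | .d => .d
  | .e => .e
  | .f => .f
  | .g => .g
  | .h => .h
  | .i => .i

theorem lab_emb : ∀ p q : Fi22.Gen, coxLabel Fi23.edges (emb p) (emb q) = coxLabel Fi22.edges p q := by
  intro p q
  cases p <;> cases q <;> decide

theorem mem_nodes (x : Fi23.Gen) : x ∈ coxNodes Fi23.edges := by
  cases x <;> decide

/-- The generating set of the subgroup. -/
abbrev S : Set (FreeGroup Fi23.Gen) :=
  {Fi23.a, Fi23.b, Fi23.c, Fi23.d, Fi23.e, Fi23.f, Fi23.g, Fi23.h, Fi23.i}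

/-- The quotient map. -/
noncomputable abbrev q : FreeGroup Fi23.Gen →* Fi23 :=
  PresentedGroup.mk (coxRelators Fi23.edges ∪ {r | r ∈ Fi23.extra})

/-- The subgroup. -/
noncomputable abbrev K : Subgroup Fi23 := (Subgroup.closure S).map q

theorem emb_mem (p : Fi22.Gen) : FreeGroup.of (emb p) ∈ S := by
  cases p <;> simp [S, emb]

/-- The generators of the subgroup. -/
noncomputable def x (p : Fi22.Gen) : K := ⟨q (FreeGroup.of (emb p)), ⟨_, Subgroup.subset_closure (emb_mem p), rfl⟩⟩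

theorem x_coe (p : Fi22.Gen) : ((x p : K) : Fi23) = q (FreeGroup.of (emb p)) := rfl

theorem gen_top : Subgroup.closure (Set.range x) = ⊤ := by
  apply Subgroup.map_injective K.subtype_injective
  rw [MonoidHom.map_closure, ← MonoidHom.range_eq_map, K.range_subtype]
  show _ = (Subgroup.closure S).map q
  rw [MonoidHom.map_closure]
  congr 1
  ext y
  constructor
  · rintro ⟨_, ⟨p, rfl⟩, rfl⟩
    exact ⟨_, emb_mem p, rfl⟩
  · rintro ⟨w, hw, rfl⟩
    simp only [S, Set.mem_insert_iff, Set.mem_singleton_iff] at hw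
    rcases hw with rfl | rfl | rfl | rfl | rfl | rfl | rfl | rfl | rfl
    · exact ⟨_, ⟨.a, rfl⟩, rfl⟩
    · exact ⟨_, ⟨.b, rfl⟩, rfl⟩
    · exact ⟨_, ⟨.c, rfl⟩, rfl⟩
    · exact ⟨_, ⟨.d, rfl⟩, rfl⟩
    · exact ⟨_, ⟨.e, rfl⟩, rfl⟩
    · exact ⟨_, ⟨.f, rfl⟩, rfl⟩
    · exact ⟨_, ⟨.g, rfl⟩, rfl⟩
    · exact ⟨_, ⟨.h, rfl⟩, rfl⟩
    · exact ⟨_, ⟨.i, rfl⟩, rfl⟩

theorem z0_eq : Fi23Z.z0 = ((z x : K) : Fi23) := by
  simp only [z, Subgroup.coe_pow, Subgroup.coe_mul, x_coe, emb]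
  simp only [Fi23Z.z0, Fi23Z.z63, Fi23Z.c7, Fi23Orb.word, List.map_append, List.prod_append, List.map_cons,
    List.map_nil, List.prod_cons, List.prod_nil, mul_one, pow_succ, pow_zero, one_mul, mul_assoc]
  rfl

theorem z0_ne : Fi23Z.z0 ≠ 1 := by
  intro h
  have h1 : Fi23OrbData.nz.perm = 1 := by rw [← Fi23Z.rho_z0, h, map_one]
  have w1 : WOk (2 ^ 15) [Fi23OrbData.nz, Fi23Nets.nj] := WOk.cons Fi23Z.ok_z (WOk.cons Fi23Rel.ok_j (WOk.nil _))
  have w2 : WOk (2 ^ 15) [Fi23Nets.nj, Fi23OrbData.nz] := WOk.cons Fi23Rel.ok_j (WOk.cons Fi23Z.ok_z (WOk.nil _))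
  have h2 := Fi23Z.znj
  rw [ptWord_eq w1, ptWord_eq w2] at h2
  simp only [wperm_cons, wperm_nil, h1, one_mul, mul_one] at h2
  rw [Nat.beq_refl] at h2
  exact absurd h2 (by simp)

theorem hyp : Hyp x where
  gen := gen_top
  cox := by
    intro p r
    apply Subtype.ext
    have h : (FreeGroup.of (emb p) * FreeGroup.of (emb r)) ^ coxLabel Fi23.edges (emb p) (emb r) ∈
        coxRelators Fi23.edges ∪ {r | r ∈ Fi23.extra} :=
      Or.inl ⟨_, mem_nodes _, _, mem_nodes _, rfl⟩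
    have h1 := PresentedGroup.one_of_mem h
    rw [map_pow, map_mul, lab_emb] at h1
    exact h1
  spider := by
    apply Subtype.ext
    have h : (Fi23.d * Fi23.c * Fi23.b * Fi23.d * Fi23.e * Fi23.f * Fi23.d * Fi23.h * Fi23.i) ^ 10 ∈
        coxRelators Fi23.edges ∪ {r | r ∈ Fi23.extra} := by
      right
      show _ ∈ Fi23.extra
      unfold Fi23.extra
      simp
    have h1 := PresentedGroup.one_of_mem h
    simp only [map_pow, map_mul] at h1
    exact h1
  e7 := by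
    apply Subtype.ext
    have h : (Fi23.a * Fi23.b * Fi23.c * Fi23.d * Fi23.e * Fi23.f * Fi23.h) ^ 9 ∈
        coxRelators Fi23.edges ∪ {r | r ∈ Fi23.extra} := by
      right
      show _ ∈ Fi23.extra
      unfold Fi23.extra
      simp
    have h1 := PresentedGroup.one_of_mem h
    simp only [map_pow, map_mul] at h1
    exact h1
  ne := by
    intro h
    apply z0_ne
    rw [z0_eq]
    show ((z x : K) : Fi23) = ((1 : K) : Fi23)
    rw [← h]
    rfl

theorem main (hsimple : IsSimpleGroup Fi22) : Cfsg.IsNonsplitDoubleCover K Fi22 :=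
  isNonsplitDoubleCover hyp hsimple

end Cfsg.Agent.Fischer.Fi23Double
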