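import Cfsg.Agent.Fischer.Derived

/-!
In an arbitrary group with elements `s 0, …, s 7` (printed `b, c, d, e, f, g, h, i`) satisfying the Coxeter relations
of `Y₂₃₂` and the spider relation `(dcbdefdhi)^10 = 1`, the two `E₇` elements `(bcdefgh)^9` and `(cdefghi)^9` are equal;
hence `z = (bcdefgh)^9` commutes with all of `b, …, i` and with everything commuting with `c, …, i`.
-/

set_option autoImplicit false

namespace Cfsg.Agent.Fischer.ZCentral

open Cfsg.Agent.ChevalleyStructure.CoxeterGeom Cfsg.Agent.ChevalleyStructure.CoxeterWordCheck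
open Cfsg.Agent.Fischer.Derived

/-- The word `bcdefgh`. -/
def wz : List (Fin 8) := [0, 1, 2, 3, 4, 5, 6]

/-- The word `cdefghi`. -/
def wz' : List (Fin 8) := [1, 2, 3, 4, 5, 6, 7]

/-- The word `hifcdb`. -/
def wc : List (Fin 8) := [6, 7, 4, 1, 2, 0]

/-- The translation `T` of length 48, a product of two conjugates of `spider^(-10)`. -/
def wT : List (Fin 8) :=
  [7, 6, 2, 3, 4, 1, 2, 3, 6, 7, 2, 6, 1, 2, 0, 1, 3, 2, 6, 7, 4, 3, 2, 6, 1, 0, 2, 1, 3, 2, 4, 3, 6, 2, 1, 0, 7, 6, 2,
    1, 3, 4, 2, 3, 6, 2, 1, 0]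

/-- The reflection in the highest root of the `E₇` diagram `c, d, e, f, g, h, i`. -/
def s7' : List (Fin 8) :=
  [7, 6, 2, 1, 3, 2, 4, 3, 5, 4, 6, 2, 1, 3, 2, 6, 7, 6, 2, 3, 1, 2, 6, 4, 5, 3, 4, 2, 3, 1, 2, 6, 7]

theorem chk_T : chk wT (rep 10 spider.reverse ++ wc ++ rep 10 spider.reverse ++ wc.reverse) = true := by
  decide +kernel

theorem chk_conj : chk (wT ++ s7 ++ wT.reverse) s7' = true := by decide +kernel

theorem chk_z' : chk (rep 9 wz') (u6 ++ s7') = true := by decide +kernel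

theorem chk_sq : chk (rep 9 wz ++ rep 9 wz) [] = true := by decide +kernel

theorem chk_comm0 : chk (rep 9 wz ++ [0]) ([0] ++ rep 9 wz) = true := by decide +kernel
theorem chk_comm1 : chk (rep 9 wz ++ [1]) ([1] ++ rep 9 wz) = true := by decide +kernel
theorem chk_comm2 : chk (rep 9 wz ++ [2]) ([2] ++ rep 9 wz) = true := by decide +kernel
theorem chk_comm3 : chk (rep 9 wz ++ [3]) ([3] ++ rep 9 wz) = true := by decide +kernel
theorem chk_comm4 : chk (rep 9 wz ++ [4]) ([4] ++ rep 9 wz) = true := by decide +kernel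
theorem chk_comm5 : chk (rep 9 wz ++ [5]) ([5] ++ rep 9 wz) = true := by decide +kernel
theorem chk_comm6 : chk (rep 9 wz ++ [6]) ([6] ++ rep 9 wz) = true := by decide +kernel
theorem chk_comm7 : chk (rep 9 wz' ++ [7]) ([7] ++ rep 9 wz') = true := by decide +kernel

variable {G : Type*} [Group G] {s : Fin 8 → G}

theorem ev_one (s : Fin 8 → G) (i : Fin 8) : ev s [i] = s i := by rw [ev_cons, ev_nil, mul_one]

/-- The translation `T` is trivial. -/
theorem T_eq_one (hs : M8.IsLiftable s) (hsp : ev s spider ^ 10 = 1) : ev s wT = 1 := by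
  have h := ev_eq_ev hs chk_T
  rw [ev_append, ev_append, ev_append, ev_rep, ev_reverse hs, ev_reverse hs, inv_pow, hsp, inv_one, one_mul, mul_one,
    mul_inv_cancel] at h
  exact h

/-- **The two `E₇` elements coincide.** -/
theorem z_eq (hs : M8.IsLiftable s) (hsp : ev s spider ^ 10 = 1) : ev s wz' ^ 9 = ev s wz ^ 9 := by
  have h1 := ev_eq_ev hs chk_z'
  have h2 := ev_eq_ev hs chk_C2
  have h3 := ev_eq_ev hs chk_conj
  rw [ev_append, ev_append, ev_reverse hs, T_eq_one hs hsp, inv_one, one_mul, mul_one] at h3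
  rw [ev_rep, ev_append, ← h3, ← ev_append, ← h2, ev_rep] at h1
  exact h1

theorem z_sq (hs : M8.IsLiftable s) : ev s wz ^ 9 * ev s wz ^ 9 = 1 := by
  have h := ev_eq_ev hs chk_sq
  rwa [ev_append, ev_rep, ev_nil] at h

/-- `z = (bcdefgh)^9` commutes with `b, …, i`. -/
theorem z_comm (hs : M8.IsLiftable s) (hsp : ev s spider ^ 10 = 1) (i : Fin 8) :
    ev s wz ^ 9 * s i = s i * ev s wz ^ 9 := by
  have key : ∀ i : Fin 8, chk (rep 9 wz ++ [i]) ([i] ++ rep 9 wz) = true →
      ev s wz ^ 9 * s i = s i * ev s wz ^ 9 := by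
    intro i h
    have h := ev_eq_ev hs h
    rwa [ev_append, ev_append, ev_rep, ev_one] at h
  fin_cases i
  · exact key _ chk_comm0
  · exact key _ chk_comm1
  · exact key _ chk_comm2
  · exact key _ chk_comm3
  · exact key _ chk_comm4
  · exact key _ chk_comm5
  · exact key _ chk_comm6
  · have h := ev_eq_ev hs chk_comm7
    rwa [ev_append, ev_append, ev_rep, ev_one, z_eq hs hsp] at h

/-- An element commuting with `c, …, i` commutes with `z`. -/
theorem z_comm_of (hs : M8.IsLiftable s) (hsp : ev s spider ^ 10 = 1) {a : G}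
    (ha : ∀ i : Fin 8, i ≠ 0 → a * s i = s i * a) : ev s wz ^ 9 * a = a * ev s wz ^ 9 := by
  have key : ∀ w : List (Fin 8), (∀ i ∈ w, i ≠ 0) → a * ev s w = ev s w * a := by
    intro w
    induction w with
    | nil => intro _; rw [ev_nil, one_mul, mul_one]
    | cons i w ih =>
      intro hw
      rw [ev_cons, ← mul_assoc, ha i (hw i (by simp)), mul_assoc, ih (fun j hj => hw j (by simp [hj])),
        mul_assoc]
  have h := key (rep 9 wz') (by decide)
  rw [ev_rep, z_eq hs hsp] at h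
  exact h.symm

end Cfsg.Agent.Fischer.ZCentral
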