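import Cfsg.Agent.Fischer.Simple

/-!
# The centraliser of a 3-transposition in a rank three 3-transposition group
-/

set_option autoImplicit false

namespace Cfsg.Agent.Fischer.Centralizer

open Cfsg Cfsg.Agent.Fischer.Abstract

/-! ### Transport of `IsNonsplitDoubleCover` -/

theorem card_center_congr {H H' : Type*} [Group H] [Group H'] (e : H ≃* H') :
    Nat.card (Subgroup.center H) = Nat.card (Subgroup.center H') :=
  Nat.card_congr (Subgroup.centerCongr e).toEquiv

theorem map_center_congr {H H' : Type*} [Group H] [Group H'] (e : H ≃* H') :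
    (Subgroup.center H).map e.toMonoidHom = Subgroup.center H' := by
  ext x
  rw [Subgroup.mem_map]
  constructor
  · rintro ⟨y, hy, rfl⟩
    rw [Subgroup.mem_center_iff] at hy ⊢
    intro g
    have := congrArg e (hy (e.symm g))
    simpa using this
  · intro hx
    refine ⟨e.symm x, ?_, by simp⟩
    rw [Subgroup.mem_center_iff] at hx ⊢
    intro g
    have := congrArg e.symm (hx (e g))
    simpa using this

theorem isComplement'_comap {H H' : Type*} [Group H] [Group H'] (e : H ≃* H')
    (A L : Subgroup H') (h : A.IsComplement' L) :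
    (A.comap e.toMonoidHom).IsComplement' (L.comap e.toMonoidHom) := by
  apply Subgroup.isComplement'_of_disjoint_and_mul_eq_univ
  · rw [Subgroup.disjoint_def]
    intro x hx hx'
    have := Subgroup.disjoint_def.1 h.disjoint hx hx'
    exact (map_eq_one_iff e.toMonoidHom e.injective).1 this
  · rw [Set.eq_univ_iff_forall]
    intro x
    obtain ⟨⟨⟨a, ha⟩, ⟨b, hb⟩⟩, hab⟩ := h.2 (e x)
    rw [Set.mem_mul]
    refine ⟨e.symm a, ?_, e.symm b, ?_, ?_⟩
    · simpa using ha
    · simpa using hb
    · apply e.injective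
      simpa using hab

theorem isNonsplitDoubleCover_congr {H H' K : Type*} [Group H] [Group H'] [Group K] (e : H ≃* H')
    (h : IsNonsplitDoubleCover H K) : IsNonsplitDoubleCover H' K := by
  obtain ⟨h1, ⟨h2⟩, h3⟩ := h
  refine ⟨by rw [← card_center_congr e, h1], ⟨?_⟩, ?_⟩
  · exact (QuotientGroup.congr (Subgroup.center H) (Subgroup.center H') e
      (map_center_congr e)).symm.trans h2
  · intro L hL
    apply h3 (L.comap e.toMonoidHom)
    have := isComplement'_comap e _ _ hL
    rw [← map_center_congr e, Subgroup.comap_map_eq_self_of_injective e.injective] at this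
    exact this

theorem isNonsplitDoubleCover_congr_right {H K K' : Type*} [Group H] [Group K] [Group K']
    (e : K ≃* K') (h : IsNonsplitDoubleCover H K) : IsNonsplitDoubleCover H K' := by
  obtain ⟨h1, ⟨h2⟩, h3⟩ := h
  exact ⟨h1, ⟨h2.trans e⟩, h3⟩

/-- conjugation induces an isomorphism of centralisers -/
def centralizerConj {G : Type*} [Group G] (g a : G) :
    Subgroup.centralizer ({a} : Set G) ≃* Subgroup.centralizer ({g * a * g⁻¹} : Set G) where
  toFun x := ⟨g * x * g⁻¹, by
    have hx := x.2
    rw [Subgroup.mem_centralizer_singleton_iff] at hx ⊢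
    calc g * (x : G) * g⁻¹ * (g * a * g⁻¹) = g * ((x : G) * a) * g⁻¹ := by group
      _ = g * (a * x) * g⁻¹ := by rw [hx]
      _ = g * a * g⁻¹ * (g * x * g⁻¹) := by group⟩
  invFun x := ⟨g⁻¹ * x * g, by
    have hx := x.2
    rw [Subgroup.mem_centralizer_singleton_iff] at hx ⊢
    calc g⁻¹ * (x : G) * g * a = g⁻¹ * ((x : G) * (g * a * g⁻¹)) * g := by group
      _ = g⁻¹ * ((g * a * g⁻¹) * x) * g := by rw [hx]
      _ = a * (g⁻¹ * x * g) := by group⟩
  left_inv x := by ext; simp [mul_assoc]
  right_inv x := by ext; simp [mul_assoc]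
  map_mul' x y := by ext; simp [mul_assoc]

/-! ### The centraliser -/

variable {G X : Type*} [Group G] [MulAction G X] (R : Rank3 G X)

/-- the centraliser of the base transposition -/
abbrev C : Subgroup G := Subgroup.centralizer ({R.t R.x0} : Set G)

/-- the base transposition as an element of its centraliser -/
def a : C R := ⟨R.t R.x0, by rw [Subgroup.mem_centralizer_singleton_iff]⟩

@[simp] theorem coe_a : ((a R : C R) : G) = R.t R.x0 := rfl

theorem a_ne_one : a R ≠ 1 := fun h => R.t_x0_ne_one (congrArg Subtype.val h)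

theorem a_mem_center : a R ∈ Subgroup.center (C R) := by
  rw [Subgroup.mem_center_iff]
  intro g
  apply Subtype.ext
  exact Subgroup.mem_centralizer_singleton_iff.1 g.2

theorem mem_C_iff (g : G) : g ∈ C R ↔ g • R.x0 = R.x0 := R.mem_centralizer_iff g R.x0

theorem t_mem_C_iff (y : X) : R.t y ∈ C R ↔ R.Com R.x0 y := by
  rw [Subgroup.mem_centralizer_singleton_iff]
  exact eq_comm

/-- a central element of the centraliser fixes all points commuting with the base point -/
theorem smul_eq_of_mem_center {z : C R} (hz : z ∈ Subgroup.center (C R)) {y : X}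
    (hy : R.Com R.x0 y) : (z : G) • y = y := by
  rw [R.smul_eq_iff_comm]
  have h1 := (Subgroup.mem_center_iff.1 hz) ⟨R.t y, (t_mem_C_iff R y).2 hy⟩
  exact (congrArg Subtype.val h1).symm

/-- the distinguishing condition on `b` -/
def Sep : Prop := ∀ y, ¬ R.Com R.x0 y → (∀ z, R.Com R.x0 z → R.Com R.b z → R.Com y z) →
    y = R.b ∨ y = R.t R.x0 • R.b

theorem eq_one_of_fix_b [FaithfulSMul G X] {z : C R} (hz : z ∈ Subgroup.center (C R))
    (hb : (z : G) • R.b = R.b) : z = 1 := by
  apply Subtype.ext
  apply FaithfulSMul.eq_of_smul_eq_smul (α := X)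
  intro y
  rw [Subgroup.coe_one, one_smul]
  by_cases hy : R.Com R.x0 y
  · exact smul_eq_of_mem_center R hz hy
  · obtain ⟨h, hh, rfl⟩ := R.not_com_x0_iff.1 hy
    have hC : h ∈ C R := (mem_C_iff R h).2 hh
    have h1 := (Subgroup.mem_center_iff.1 hz) ⟨h, hC⟩
    have h2 : h * (z : G) = z * h := congrArg Subtype.val h1
    rw [← mul_smul, ← h2, mul_smul, hb]

theorem mem_center_C_iff [FaithfulSMul G X] (hsep : Sep R) (z : C R) :
    z ∈ Subgroup.center (C R) ↔ z = 1 ∨ z = a R := by
  constructor
  · intro hz
    have hx0 : (z : G) • R.x0 = R.x0 := (mem_C_iff R z).1 z.2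
    have hA : ¬ R.Com R.x0 ((z : G) • R.b) := by
      have := R.com_smul (z : G) R.x0 R.b
      rw [hx0] at this
      rw [this]
      exact R.not_com_x0_b
    have hB : ∀ y, R.Com R.x0 y → R.Com R.b y → R.Com ((z : G) • R.b) y := by
      intro y hy hby
      have h1 := smul_eq_of_mem_center R hz hy
      have := R.com_smul (z : G) R.b y
      rw [h1] at this
      exact this.2 hby
    rcases hsep ((z : G) • R.b) hA hB with h | h
    · exact Or.inl (eq_one_of_fix_b R hz h)
    · right
      have h1 : (a R)⁻¹ * z = 1 := by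
        apply eq_one_of_fix_b R (Subgroup.mul_mem _ (Subgroup.inv_mem _ (a_mem_center R)) hz)
        rw [Subgroup.coe_mul, mul_smul, h, Subgroup.coe_inv, coe_a, inv_smul_smul]
      rw [inv_mul_eq_one] at h1
      exact h1.symm
  · rintro (rfl | rfl)
    · exact Subgroup.one_mem _
    · exact a_mem_center R

theorem card_center_C [FaithfulSMul G X] (hsep : Sep R) :
    Nat.card (Subgroup.center (C R)) = 2 := by
  have h : (Subgroup.center (C R) : Set (C R)) = {1, a R} := by
    ext z
    rw [SetLike.mem_coe, mem_center_C_iff R hsep]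
    simp
  have h2 : Nat.card (Subgroup.center (C R)) = Nat.card ((Subgroup.center (C R) : Set (C R))) := rfl
  rw [h2, h, Nat.card_coe_set_eq, Set.ncard_pair]
  exact (a_ne_one R).symm

/-- The centre has no complement in the centraliser. -/
theorem no_complement [FaithfulSMul G X] (hsep : Sep R)
    (l : List X) (hl : Even l.length) (hprod : R.t R.x0 = (l.map R.t).prod)
    (hcom : ∀ x ∈ l, R.Com R.x0 x ∧ x ≠ R.x0) (L : Subgroup (C R)) :
    ¬ (Subgroup.center (C R)).IsComplement' L := by
  intro h
  have hidx : L.index = 2 := by rw [h.index_eq_card, card_center_C R hsep]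
  have hnorm : L.Normal := Subgroup.normal_of_index_eq_two hidx
  -- parity
  let tc : C R := ⟨R.t R.c, (t_mem_C_iff R _).2 R.com_x0_c⟩
  have hx : ∀ x (hx : R.Com R.x0 x ∧ x ≠ R.x0),
      ((⟨R.t x, (t_mem_C_iff R x).2 hx.1⟩ : C R) ∈ L ↔ tc ∈ L) := by
    rintro x ⟨hx, hx'⟩
    rcases R.com_x0_iff.1 hx with h0 | ⟨g, hg, hgx⟩
    · exact absurd h0 hx'
    · have hC : g ∈ C R := (mem_C_iff R g).2 hg
      have e : (⟨R.t x, (t_mem_C_iff R x).2 hx⟩ : C R) = ⟨g, hC⟩ * tc * ⟨g, hC⟩⁻¹ := by
        apply Subtype.ext
        show R.t x = g * R.t R.c * g⁻¹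
        rw [← hgx, R.map_smul]
      rw [e]
      constructor
      · intro h1
        have := hnorm.conj_mem _ h1 (⟨g, hC⟩⁻¹ : C R)
        simpa [mul_assoc] using this
      · intro h1
        exact hnorm.conj_mem _ h1 _
  have key : ∀ (l : List X) (hcom : ∀ x ∈ l, R.Com R.x0 x ∧ x ≠ R.x0),
      ∃ p : C R, (p : G) = (l.map R.t).prod ∧ (p ∈ L ↔ (tc ∈ L ∨ Even l.length)) := by
    intro l
    induction l with
    | nil =>
      intro _
      exact ⟨1, by simp, by simp [L.one_mem]⟩
    | cons x l ih =>
      intro hcom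
      obtain ⟨p, hp, hp'⟩ := ih (fun y hy => hcom y (List.mem_cons_of_mem _ hy))
      have hx1 := hcom x List.mem_cons_self
      refine ⟨⟨R.t x, (t_mem_C_iff R x).2 hx1.1⟩ * p, by simp [hp], ?_⟩
      rw [Subgroup.mul_mem_iff_of_index_two hidx, hx x hx1, hp', List.length_cons, Nat.even_add_one]
      tauto
  obtain ⟨p, hp, hp'⟩ := key l hcom
  have hpa : p = a R := Subtype.ext (by rw [hp, coe_a, hprod])
  have haL : a R ∈ L := by rw [← hpa, hp']; exact Or.inr hl
  have := Subgroup.disjoint_def.1 h.disjoint (a_mem_center R) haL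
  exact a_ne_one R this

/-- the points different from the base point and commuting with it -/
def Link : Type _ := {y : X // R.Com R.x0 y ∧ y ≠ R.x0}

instance linkAction : MulAction (C R) (Link R) where
  smul g y := ⟨(g : G) • y.1, by
    have hg : (g : G) • R.x0 = R.x0 := (mem_C_iff R g).1 g.2
    constructor
    · have := R.com_smul (g : G) R.x0 y.1
      rw [hg] at this
      exact this.2 y.2.1
    · intro h
      apply y.2.2
      have h2 := h.trans hg.symm
      exact MulAction.injective _ h2⟩
  one_smul y := Subtype.ext (one_smul _ _)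
  mul_smul g h y := Subtype.ext (mul_smul _ _ _)

theorem coe_link_smul (g : C R) (y : Link R) : (g • y).1 = (g : G) • y.1 := rfl

/-- The centraliser is generated by transpositions. -/
def GenC : Prop := C R ≤ Subgroup.closure (R.t '' {y | R.Com R.x0 y})

theorem ker_eq_center (hgen : GenC R) :
    (MulAction.toPermHom (C R) (Link R)).ker = Subgroup.center (C R) := by
  ext z
  rw [MonoidHom.mem_ker]
  constructor
  · intro hz
    have h1 : ∀ y : X, R.Com R.x0 y → (z : G) • y = y := by
      intro y hy
      by_cases h0 : y = R.x0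
      · rw [h0]; exact (mem_C_iff R z).1 z.2
      · have := congrArg (fun p : Equiv.Perm (Link R) => (p ⟨y, hy, h0⟩).1) hz
        exact this
    rw [Subgroup.mem_center_iff]
    intro k
    have h2 : Subgroup.closure (R.t '' {y | R.Com R.x0 y}) ≤ Subgroup.centralizer {(z : G)} := by
      rw [Subgroup.closure_le]
      rintro _ ⟨x, hx, rfl⟩
      rw [SetLike.mem_coe, Subgroup.mem_centralizer_singleton_iff]
      exact ((R.smul_eq_iff_comm (z : G) x).1 (h1 x hx)).symm
    have h3 := h2 (hgen k.2)
    rw [Subgroup.mem_centralizer_singleton_iff] at h3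
    exact Subtype.ext h3
  · intro hz
    ext y
    apply Subtype.ext
    exact smul_eq_of_mem_center R hz y.2.1

/-- Main criterion: identification of the action on the link with a group `K`. -/
theorem isNonsplitDoubleCover_C [FaithfulSMul G X] (hsep : Sep R) (hgen : GenC R)
    (l : List X) (hl : Even l.length) (hprod : R.t R.x0 = (l.map R.t).prod)
    (hcom : ∀ x ∈ l, R.Com R.x0 x ∧ x ≠ R.x0)
    {K : Type*} [Group K] (β : K →* Equiv.Perm (Link R)) (hβ : Function.Injective β)
    (hrange : β.range = (MulAction.toPermHom (C R) (Link R)).range) :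
    IsNonsplitDoubleCover (C R) K := by
  refine ⟨card_center_C R hsep, ⟨?_⟩, no_complement R hsep l hl hprod hcom⟩
  have e1 : C R ⧸ Subgroup.center (C R) ≃* C R ⧸ (MulAction.toPermHom (C R) (Link R)).ker :=
    QuotientGroup.quotientMulEquivOfEq (ker_eq_center R hgen).symm
  have e2 := QuotientGroup.quotientKerEquivRange (MulAction.toPermHom (C R) (Link R))
  have e3 : β.range ≃* (MulAction.toPermHom (C R) (Link R)).range := MulEquiv.subgroupCongr hrange
  exact e1.trans (e2.trans (e3.symm.trans (MonoidHom.ofInjective hβ).symm))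

/-- Special case: `K` is the image of the centraliser in the symmetric group of the link. -/
theorem isNonsplitDoubleCover_range [FaithfulSMul G X] (hsep : Sep R) (hgen : GenC R)
    (l : List X) (hl : Even l.length) (hprod : R.t R.x0 = (l.map R.t).prod)
    (hcom : ∀ x ∈ l, R.Com R.x0 x ∧ x ≠ R.x0) :
    IsNonsplitDoubleCover (C R) (MulAction.toPermHom (C R) (Link R)).range :=
  isNonsplitDoubleCover_C R hsep hgen l hl hprod hcom (Subgroup.subtype _)
    (Subgroup.subtype_injective _) (Subgroup.range_subtype _)

/-- all centralisers of transpositions -/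
theorem isNonsplitDoubleCover_all {K : Type*} [Group K] (h : IsNonsplitDoubleCover (C R) K)
    (d : G) (hd : d ∈ Set.range R.t) :
    IsNonsplitDoubleCover (Subgroup.centralizer ({d} : Set G)) K := by
  obtain ⟨x, rfl⟩ := hd
  obtain ⟨g, rfl⟩ := R.trans x
  rw [R.map_smul]
  exact isNonsplitDoubleCover_congr (centralizerConj g (R.t R.x0)) h

/-- the order of the group -/
theorem card_eq : Nat.card G = Nat.card X * Nat.card (C R) := by
  have h1 : MulAction.stabilizer G R.x0 = C R := (R.centralizer_eq_stabilizer R.x0).symm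
  have h2 : Nat.card G = (C R).index * Nat.card (C R) := (Subgroup.index_mul_card (C R)).symm
  rw [h2, ← h1, MulAction.index_stabilizer]
  congr 1
  have h3 : MulAction.orbit G R.x0 = Set.univ := by
    rw [Set.eq_univ_iff_forall]
    intro x
    exact R.trans x
  rw [h3, Set.ncard_univ]

/-- the order of a double cover -/
theorem card_of_doubleCover {H K : Type*} [Group H] [Group K] (h : IsNonsplitDoubleCover H K) :
    Nat.card H = 2 * Nat.card K := by
  obtain ⟨h1, ⟨h2⟩, _⟩ := h
  rw [Subgroup.card_eq_card_quotient_mul_card_subgroup (Subgroup.center H), h1,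
    Nat.card_congr h2.toEquiv, mul_comm]

end Cfsg.Agent.Fischer.Centralizer
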