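import Cfsg.Agent.Fischer.Y322
import Cfsg.Agent.SporadicRecognition.CosetCertHyp
import Cfsg.Agent.Fischer.Enum.I364All
import Cfsg.Agent.Fischer.Enum.I243All
import Cfsg.Agent.Fischer.Enum.I27All
import Cfsg.Agent.Fischer.Enum.I16All
import Cfsg.Agent.Fischer.Enum.I120All

/-!
Order bounds for groups with elements satisfying the relations of `Y₂₃₂`, by certified coset enumerations
(120, 16, 27, 243, 364).
-/

set_option autoImplicit false

namespace Cfsg.Agent.Fischer.Bound322

open Cfsg.Agent.Fischer.Derived Cfsg.Agent.Fischer.Y322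
open Cfsg.Agent.SporadicRecognition.CosetCert (Cert Part Hyp card_closure_le)
open Cfsg.Agent.SporadicRecognition.CosetCertHyp (checkHyp hyp_of_checks)

variable {G : Type*} [Group G]

/-- The letters of a subdiagram as a function on the natural numbers. -/
def gl (s : Fin 8 → G) (L : List (Fin 8)) (n : ℕ) : G := if n < L.length then s (L.getD n 0) else 1

/-- Translation of a word. -/
def toW (L : List (Fin 8)) (r : List ℕ) : List (Fin 8) := r.map fun n => L.getD n 0

/-- The subgroup generated by a subdiagram. -/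
def Hl (s : Fin 8 → G) (L : List (Fin 8)) : Subgroup G := Subgroup.closure (s '' {i | i ∈ L})

/-- A relator of the Coxeter group. -/
def okCox (w : List (Fin 8)) : Bool :=
  (List.finRange 8).any fun i => (List.finRange 8).any fun j => w == rep (lab i j) [i, j]

/-- Check of a relator. -/
def okR (L : List (Fin 8)) (r : List ℕ) : Bool :=
  (r.all fun n => decide (n < L.length)) &&
    (okCox (toW L r) || toW L r == rep 10 spider || toW L r == rep 9 e7w)

/-- Check of a subgroup word. -/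
def okS (L M : List (Fin 8)) : List ℕ → Bool
  | [] => true
  | [x] => decide (x < L.length) && M.contains (L.getD x 0)
  | _ => false

theorem ev_gl (s : Fin 8 → G) (L : List (Fin 8)) (r : List ℕ) (h : ∀ n ∈ r, n < L.length) :
    Cfsg.Agent.SporadicRecognition.CosetCert.ev (gl s L) r = ev s (toW L r) := by
  rw [Cfsg.Agent.SporadicRecognition.CosetCert.ev, ev, toW, List.map_map]
  congr 1
  refine List.map_congr_left fun n hn => ?_
  rw [gl, if_pos (h n hn)]
  rfl

theorem okR_sound {s : Fin 8 → G} (hs : M8.IsLiftable s) (hsp : ev s spider ^ 10 = 1) (he : ev s e7w ^ 9 = 1)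
    {L : List (Fin 8)} {r : List ℕ} (h : okR L r = true) :
    Cfsg.Agent.SporadicRecognition.CosetCert.ev (gl s L) r = 1 := by
  rw [okR, Bool.and_eq_true, Bool.or_eq_true, Bool.or_eq_true] at h
  obtain ⟨h1, h2⟩ := h
  rw [ev_gl s L r fun n hn => of_decide_eq_true (List.all_eq_true.1 h1 n hn)]
  rcases h2 with (h2 | h2) | h2
  · rw [okCox, List.any_eq_true] at h2
    obtain ⟨i, _, h2⟩ := h2
    rw [List.any_eq_true] at h2
    obtain ⟨j, _, h2⟩ := h2
    rw [eq_of_beq h2, ev_rep, ev_cons, ev_cons, ev_nil, mul_one]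
    exact hs i j
  · rw [eq_of_beq h2, ev_rep]; exact hsp
  · rw [eq_of_beq h2, ev_rep]; exact he

theorem gl_image (s : Fin 8 → G) (L : List (Fin 8)) :
    gl s L '' {x | x < L.length} = s '' {i | i ∈ L} := by
  ext y
  constructor
  · rintro ⟨n, hn, rfl⟩
    have hn' : n < L.length := hn
    refine ⟨L[n], List.getElem_mem _, ?_⟩
    rw [gl, if_pos hn', List.getD_eq_getElem _ _ hn']
  · rintro ⟨i, hi, rfl⟩
    obtain ⟨n, hn, rfl⟩ := List.mem_iff_getElem.1 (show i ∈ L from hi)
    refine ⟨n, hn, ?_⟩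
    rw [gl, if_pos hn, List.getD_eq_getElem _ _ hn]

/-- One level of the chain. -/
theorem level {s : Fin 8 → G} (hs : M8.IsLiftable s) (hsp : ev s spider ^ 10 = 1) (he : ev s e7w ^ 9 = 1)
    (L M : List (Fin 8)) (C : Cert) (rels subw : List (List ℕ)) (n m : ℕ) (hk : C.k = L.length)
    (hinv : ∀ x, C.inv x = x) (hr : rels.all (okR L) = true) (hsub : subw.all (okS L M) = true)
    (hc : checkHyp C rels subw = true) (hP : Part C 0 C.N n)
    (h : Finite (Hl s M) ∧ Nat.card (Hl s M) ≤ m) : Finite (Hl s L) ∧ Nat.card (Hl s L) ≤ n * m := by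
  have hyp : Hyp C (Hl s M) (gl s L) := by
    refine hyp_of_checks (Hl s M) (gl s L) C rels subw ?_ ?_ ?_ ?_ hc
    · rw [hk, gl, if_neg (lt_irrefl _)]
    · intro x hx
      rw [hinv x]
      refine ⟨hx, ?_⟩
      rw [hk] at hx
      rw [gl, if_pos hx]
      exact sq hs _
    · intro r hr'
      exact okR_sound hs hsp he (List.all_eq_true.1 hr r hr')
    · intro w hw
      have h1 := List.all_eq_true.1 hsub w hw
      match w, h1 with
      | [], _ => exact (Hl s M).one_mem
      | [x], h1 =>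
        rw [okS, Bool.and_eq_true] at h1
        have hx : x < L.length := of_decide_eq_true h1.1
        rw [Cfsg.Agent.SporadicRecognition.CosetCert.ev_cons,
          Cfsg.Agent.SporadicRecognition.CosetCert.ev_nil, mul_one, gl, if_pos hx]
        exact Subgroup.subset_closure ⟨_, by simpa using h1.2, rfl⟩
  have : Finite (Hl s M) := h.1
  have h2 := card_closure_le C (Hl s M) (gl s L) hyp hP
  rw [hk, gl_image] at h2
  exact ⟨h2.1, h2.2.trans (Nat.mul_le_mul_left _ h.2)⟩

variable {s : Fin 8 → G}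

theorem bound0 (s : Fin 8 → G) : Finite (Hl s []) ∧ Nat.card (Hl s []) ≤ 1 := by
  have : Hl s [] = ⊥ := by
    rw [Hl]
    have : (s '' {i | i ∈ ([] : List (Fin 8))}) = ∅ := by simp
    rw [this, Subgroup.closure_empty]
  rw [this]
  exact ⟨inferInstance, by simp⟩

section
open Cfsg.Agent.Fischer.Enum

/-- `A₄`: `b, c, d, e`. -/
theorem boundA4 (hs : M8.IsLiftable s) (hsp : ev s spider ^ 10 = 1) (he : ev s e7w ^ 9 = 1) :
    Finite (Hl s [0, 1, 2, 3]) ∧ Nat.card (Hl s [0, 1, 2, 3]) ≤ 120 * 1 :=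
  level hs hsp he [0, 1, 2, 3] [] I120Data.C I120Data.rels [[]] 120 1 rfl (fun _ => rfl)
    (by decide +kernel) (by decide +kernel) (by decide +kernel) I120All.part (bound0 s)

/-- `D₅`: `b, c, d, e, h`. -/
theorem boundD5 (hs : M8.IsLiftable s) (hsp : ev s spider ^ 10 = 1) (he : ev s e7w ^ 9 = 1) :
    Finite (Hl s [0, 1, 2, 3, 6]) ∧ Nat.card (Hl s [0, 1, 2, 3, 6]) ≤ 16 * (120 * 1) :=
  level hs hsp he [0, 1, 2, 3, 6] [0, 1, 2, 3] I16Data.C I16Data.rels I16Data.subw 16 _ rfl (fun _ => rfl)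
    (by decide +kernel) (by decide +kernel) (by decide +kernel) I16All.part (boundA4 hs hsp he)

/-- `E₆`: `b, c, d, e, f, h`. -/
theorem boundE6 (hs : M8.IsLiftable s) (hsp : ev s spider ^ 10 = 1) (he : ev s e7w ^ 9 = 1) :
    Finite (Hl s [0, 1, 2, 3, 4, 6]) ∧ Nat.card (Hl s [0, 1, 2, 3, 4, 6]) ≤ 27 * (16 * (120 * 1)) :=
  level hs hsp he [0, 1, 2, 3, 4, 6] [0, 1, 2, 3, 6] I27Data.C I27Data.rels I27Data.subw 27 _ rfl (fun _ => rfl)
    (by decide +kernel) (by decide +kernel) (by decide +kernel) I27All.part (boundD5 hs hsp he)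

/-- `Y₂₂₂`: `b, c, d, e, f, h, i`. -/
theorem boundY222 (hs : M8.IsLiftable s) (hsp : ev s spider ^ 10 = 1) (he : ev s e7w ^ 9 = 1) :
    Finite (Hl s [0, 1, 2, 3, 4, 6, 7]) ∧
      Nat.card (Hl s [0, 1, 2, 3, 4, 6, 7]) ≤ 243 * (27 * (16 * (120 * 1))) :=
  level hs hsp he [0, 1, 2, 3, 4, 6, 7] [0, 1, 2, 3, 4, 6] I243Data.C I243Data.rels I243Data.subw 243 _ rfl
    (fun _ => rfl) (by decide +kernel) (by decide +kernel) (by decide +kernel) I243All.part
    (boundE6 hs hsp he)

/-- `Y₂₃₂`: all letters. -/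
theorem boundY322 (hs : M8.IsLiftable s) (hsp : ev s spider ^ 10 = 1) (he : ev s e7w ^ 9 = 1) :
    Finite (Hl s [0, 1, 2, 3, 4, 5, 6, 7]) ∧
      Nat.card (Hl s [0, 1, 2, 3, 4, 5, 6, 7]) ≤ 364 * (243 * (27 * (16 * (120 * 1)))) :=
  level hs hsp he [0, 1, 2, 3, 4, 5, 6, 7] [0, 1, 2, 3, 4, 6, 7] I364Data.C I364Data.rels I364Data.subw 364 _ rfl
    (fun _ => rfl) (by decide +kernel) (by decide +kernel) (by decide +kernel) I364All.part
    (boundY222 hs hsp he)

end

/-- The order bound for `Y₂₃₂` with the spider relation and one `E₇` relation. -/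
theorem card_closure_range_le (hs : M8.IsLiftable s) (hsp : ev s spider ^ 10 = 1) (he : ev s e7w ^ 9 = 1) :
    Finite (Subgroup.closure (Set.range s)) ∧ Nat.card (Subgroup.closure (Set.range s)) ≤ 4585351680 := by
  have h := boundY322 hs hsp he
  have h1 : (s '' {i | i ∈ ([0, 1, 2, 3, 4, 5, 6, 7] : List (Fin 8))}) = Set.range s := by
    rw [← Set.image_univ]
    congr 1
    ext i
    refine ⟨fun _ => trivial, fun _ => ?_⟩
    show i ∈ ([0, 1, 2, 3, 4, 5, 6, 7] : List (Fin 8))
    revert i; decide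
  rw [Hl, h1] at h
  exact h

theorem H8_finite : Finite H8 := by
  have h := (card_closure_range_le x8_liftable x8_spider x8_e7).1
  rw [closure_x8] at h
  exact Subgroup.topEquiv.toEquiv.finite_iff.1 h

theorem card_H8_le : Nat.card H8 ≤ 4585351680 := by
  have h := (card_closure_range_le x8_liftable x8_spider x8_e7).2
  rw [closure_x8, Nat.card_congr Subgroup.topEquiv.toEquiv] at h
  exact h

end Cfsg.Agent.Fischer.Bound322
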