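import Cfsg.Agent.Fischer.Level
import Cfsg.Agent.Fischer.Enum.I14080All

/-!
For an arbitrary group with elements `s 0, …, s 8` (printed `a, b, c, d, e, f, g, h, i`) satisfying the Coxeter
relations of `Y₃₃₂`, the spider relation and `(abcdefh)^9 = 1`: the subgroup generated by `b, …, i` has at most
14080 cosets.
-/

set_option autoImplicit false

namespace Cfsg.Agent.Fischer.Index14080

open Cfsg.Agent.Fischer.Level Cfsg.Agent.Fischer.Enum

/-- Adjacency in `Y₃₃₂` on `a, …, i = 0, …, 8`. -/
def adj9 (i j : Fin 9) : Bool :=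
  ([(0, 1), (1, 2), (2, 3), (3, 4), (3, 7), (4, 5), (5, 6), (7, 8)] : List (Fin 9 × Fin 9)).any
    fun e => (e.1 == i && e.2 == j) || (e.1 == j && e.2 == i)

/-- The labels. -/
def lab9 (i j : Fin 9) : ℕ := if i = j then 1 else if adj9 i j then 3 else 2

theorem lab9_diag : ∀ i : Fin 9, lab9 i i = 1 := by decide

/-- The spider word `d c b d e f d h i`. -/
def spider9 : List (Fin 9) := [3, 2, 1, 3, 4, 5, 3, 7, 8]

/-- The `E₇` word `a b c d e f h`. -/
def e7a : List (Fin 9) := [0, 1, 2, 3, 4, 5, 7]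

/-- The relations. -/
structure Rels {G : Type*} [Group G] (s : Fin 9 → G) : Prop where
  cox : ∀ i j, (s i * s j) ^ lab9 i j = 1
  spider : ev s spider9 ^ 10 = 1
  e7a : ev s e7a ^ 9 = 1

variable {G : Type*} [Group G] {s : Fin 9 → G}

theorem Rels.all (h : Rels s) : ∀ w ∈ [rep 10 spider9, rep 9 Index14080.e7a], ev s w = 1 := by
  intro w hw
  rw [List.mem_cons, List.mem_cons] at hw
  rcases hw with rfl | rfl | hw
  · rw [ev_rep]; exact h.spider
  · rw [ev_rep]; exact h.e7a
  · exact absurd hw (by simp)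

/-- All letters. -/
abbrev LA : List (Fin 9) := [0, 1, 2, 3, 4, 5, 6, 7, 8]

/-- The letters `b, …, i`. -/
abbrev LB : List (Fin 9) := [1, 2, 3, 4, 5, 6, 7, 8]

theorem chk_rels : (I14080Data.rels.all (okR lab9 [rep 10 spider9, rep 9 Index14080.e7a] LA)) = true := by
  decide +kernel

theorem chk_sub : (I14080Data.subw.all (okS LA LB)) = true := by decide +kernel

theorem chk_hyp : Cfsg.Agent.SporadicRecognition.CosetCertHyp.checkHyp I14080Data.C I14080Data.rels
    I14080Data.subw = true := by decide +kernel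

theorem Hl_LA (s : Fin 9 → G) : Hl s LA = Subgroup.closure (Set.range s) := by
  rw [Hl, ← Set.image_univ]
  congr 2
  ext i
  refine ⟨fun _ => trivial, fun _ => ?_⟩
  show i ∈ LA
  revert i; decide

theorem covered (h : Rels s) : ∃ T : Finset G, T.card ≤ 14080 ∧
    ∀ x ∈ Subgroup.closure (Set.range s), ∃ t ∈ T, x * t⁻¹ ∈ Hl s LB := by
  rw [← Hl_LA]
  exact Level.covered _ lab9_diag h.cox h.all LA LB I14080Data.C I14080Data.rels I14080Data.subw 14080 rfl
    (fun _ => rfl) chk_rels chk_sub chk_hyp I14080All.part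

theorem card_le (h : Rels s) (hf : Finite (Hl s LB)) :
    Finite (Subgroup.closure (Set.range s)) ∧
      Nat.card (Subgroup.closure (Set.range s)) ≤ 14080 * Nat.card (Hl s LB) := by
  rw [← Hl_LA]
  exact Level.card_le _ lab9_diag h.cox h.all LA LB I14080Data.C I14080Data.rels I14080Data.subw 14080 rfl
    (fun _ => rfl) chk_rels chk_sub chk_hyp I14080All.part hf

theorem index_le (h : Rels s) (htop : Subgroup.closure (Set.range s) = ⊤) :
    (Hl s LB).index ≠ 0 ∧ (Hl s LB).index ≤ 14080 := by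
  rw [← Hl_LA] at htop
  exact Level.index_le' _ lab9_diag h.cox h.all LA LB I14080Data.C I14080Data.rels I14080Data.subw 14080 rfl
    (fun _ => rfl) chk_rels chk_sub chk_hyp I14080All.part htop

end Cfsg.Agent.Fischer.Index14080
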