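import Cfsg.Agent.Fischer.Bound322
import Cfsg.Agent.Fischer.Index14080

/-!
Without an `E₇` relation: in a group with elements `b, …, i` satisfying the Coxeter relations of `Y₂₃₂` and the
spider relation, `(bcdefgh)^9 = (cdefghi)^9` is central of order at most two.  Hence `|⟨b, …, i⟩| ≤ 2·4585351680`,
and `|⟨a, …, i⟩| ≤ 2·64561751654400` if also `(abcdefh)^9 = 1`.
-/

set_option autoImplicit false

namespace Cfsg.Agent.Fischer.Central

open Cfsg.Agent.Fischer.Derived Cfsg.Agent.Fischer.Y322 Cfsg.Agent.Fischer.Bound322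

variable {G : Type*} [Group G] {s : Fin 8 → G}

/-- The translation by three times a minuscule weight. -/
def T48 : List (Fin 8) :=
  [7, 6, 2, 3, 4, 1, 2, 3, 6, 2, 7, 6, 1, 0, 2, 1, 3, 2, 6, 7, 4, 3, 2, 6, 1, 2, 0, 1, 3, 4, 2, 3, 6, 2, 1, 0, 7,
    6, 2, 1, 3, 2, 4, 3, 6, 2, 1, 0]

/-- The reflection in the highest root of the `E₇` diagram `c, d, e, f, g, h, i`. -/
def s8 : List (Fin 8) :=
  [7, 6, 2, 1, 3, 2, 4, 3, 5, 4, 6, 2, 1, 3, 2, 6, 7, 6, 2, 3, 1, 2, 6, 4, 5, 3, 4, 2, 3, 1, 2, 6, 7]

/-- A word conjugating the spider. -/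
def w2 : List (Fin 8) := [1, 2, 6, 3, 1, 2, 1]

theorem chk_T : chk (rep 10 spider.reverse ++ w2 ++ rep 10 spider.reverse ++ w2.reverse) T48 = true := by
  decide +kernel
theorem chk_Ts : chk (T48 ++ s7 ++ T48.reverse) Central.s8 = true := by decide +kernel
theorem chk_z2 : chk (rep 9 [1, 2, 3, 4, 5, 6, 7]) (u6 ++ Central.s8) = true := by decide +kernel
theorem chk_sq : chk (rep 18 e7w) [] = true := by decide +kernel
theorem chk_c1 : ∀ k : Fin 8, k ≠ 7 → chk (rep 9 e7w ++ [k]) ([k] ++ rep 9 e7w) = true := by decide +kernel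
theorem chk_c2 : chk (rep 9 [1, 2, 3, 4, 5, 6, 7] ++ [7]) ([7] ++ rep 9 [1, 2, 3, 4, 5, 6, 7]) = true := by
  decide +kernel

/-- The translation by three times a minuscule weight is trivial. -/
theorem T48_eq (hs : M8.IsLiftable s) (hsp : ev s spider ^ 10 = 1) : ev s T48 = 1 := by
  have h := ev_eq_ev hs chk_T
  rw [ev_append, ev_append, ev_append, ev_rep, ev_reverse hs, ev_reverse hs, inv_pow, hsp, inv_one, one_mul,
    mul_one, mul_inv_cancel] at h
  exact h.symm

/-- The two `E₇` centres coincide. -/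
theorem z_eq (hs : M8.IsLiftable s) (hsp : ev s spider ^ 10 = 1) :
    ev s e7w ^ 9 = ev s [1, 2, 3, 4, 5, 6, 7] ^ 9 := by
  have h1 := ev_eq_ev hs chk_C2
  have h2 := ev_eq_ev hs chk_Ts
  have h3 := ev_eq_ev hs chk_z2
  rw [ev_append, ev_append, ev_reverse hs, T48_eq hs hsp, one_mul, inv_one, mul_one] at h2
  rw [ev_rep, ev_append] at h1 h3
  rw [h3, ← h2, ← h1]
  rfl

/-- The element `(bcdefgh)^9` commutes with all generators. -/
theorem central (hs : M8.IsLiftable s) (hsp : ev s spider ^ 10 = 1) (k : Fin 8) :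
    ev s e7w ^ 9 * s k = s k * ev s e7w ^ 9 := by
  have e1 : ∀ k : Fin 8, ev s [k] = s k := fun k => by rw [ev_cons, ev_nil, mul_one]
  by_cases hk : k = 7
  · subst hk
    have h := ev_eq_ev hs chk_c2
    rw [ev_append, ev_append, ev_rep, e1, ← z_eq hs hsp] at h
    exact h
  · have h := ev_eq_ev hs (chk_c1 k hk)
    rw [ev_append, ev_append, ev_rep, e1] at h
    exact h

theorem z_sq (hs : M8.IsLiftable s) : (ev s e7w ^ 9) ^ 2 = 1 := by
  have h := ev_eq_ev hs chk_sq
  rw [ev_rep, ev_nil] at h
  rw [← pow_mul]; exact h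

section Bound

variable {K : Type*} [Group K] {x : Fin 8 → K}

/-- The bound when the elements generate. -/
theorem bound_top (hs : M8.IsLiftable x) (hsp : ev x spider ^ 10 = 1)
    (htop : Subgroup.closure (Set.range x) = ⊤) : Finite K ∧ Nat.card K ≤ 2 * 4585351680 := by
  set z : K := ev x e7w ^ 9 with hz
  have hcen : z ∈ Subgroup.center K := by
    rw [Subgroup.mem_center_iff]
    intro g
    have hg : g ∈ Subgroup.closure (Set.range x) := htop ▸ Subgroup.mem_top g
    induction hg using Subgroup.closure_induction with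
    | mem y hy => obtain ⟨k, rfl⟩ := hy; exact (central hs hsp k).symm
    | one => simp
    | mul a b _ _ ha hb => rw [mul_assoc, hb, ← mul_assoc, ha, mul_assoc]
    | inv a _ ha =>
      calc a⁻¹ * z = a⁻¹ * (z * a) * a⁻¹ := by group
        _ = a⁻¹ * (a * z) * a⁻¹ := by rw [ha]
        _ = z * a⁻¹ := by group
  have hnorm : (Subgroup.zpowers z).Normal := by
    refine ⟨fun n hn g => ?_⟩
    have hn' : n ∈ Subgroup.center K := (Subgroup.zpowers_le.2 hcen) hn
    rw [Subgroup.mem_center_iff] at hn'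
    rw [hn' g, mul_assoc, mul_inv_cancel, mul_one]
    exact hn
  let π := QuotientGroup.mk' (Subgroup.zpowers z)
  have hl : M8.IsLiftable (fun k => π (x k)) := by
    intro i j
    show (π (x i) * π (x j)) ^ M8 i j = 1
    rw [← map_mul, ← map_pow, hs i j, map_one]
  have hsp' : ev (fun k => π (x k)) spider ^ 10 = 1 := by
    rw [← map_ev, ← map_pow, hsp, map_one]
  have he : ev (fun k => π (x k)) e7w ^ 9 = 1 := by
    rw [← map_ev, ← map_pow]
    exact (QuotientGroup.eq_one_iff _).2 (Subgroup.mem_zpowers z)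
  have hb := card_closure_range_le hl hsp' he
  have htop' : Subgroup.closure (Set.range fun k => π (x k)) = ⊤ := by
    have h1 : Set.range (fun k => π (x k)) = π '' Set.range x := by
      rw [← Set.range_comp]; rfl
    rw [h1, ← MonoidHom.map_closure, htop, ← MonoidHom.range_eq_map, MonoidHom.range_eq_top]
    exact QuotientGroup.mk'_surjective _
  rw [htop'] at hb
  have hfin : Finite (K ⧸ Subgroup.zpowers z) := Subgroup.topEquiv.toEquiv.finite_iff.1 hb.1
  have hcard : Nat.card (K ⧸ Subgroup.zpowers z) ≤ 4585351680 := by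
    have := hb.2
    rwa [Nat.card_congr Subgroup.topEquiv.toEquiv] at this
  have hzz : z ^ 2 = 1 := z_sq hs
  have hzf : IsOfFinOrder z := isOfFinOrder_iff_pow_eq_one.2 ⟨2, by norm_num, hzz⟩
  have hfz : Finite (Subgroup.zpowers z) := by
    have := hzf.finite_zpowers
    exact this
  have hcz : Nat.card (Subgroup.zpowers z) ≤ 2 := by
    rw [Nat.card_zpowers]
    exact Nat.le_of_dvd (by norm_num) (orderOf_dvd_of_pow_eq_one hzz)
  have hK : Finite K := Finite.of_equiv _ (Subgroup.groupEquivQuotientProdSubgroup (s := Subgroup.zpowers z)).symm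
  refine ⟨hK, ?_⟩
  rw [Subgroup.card_eq_card_quotient_mul_card_subgroup (Subgroup.zpowers z), mul_comm]
  exact Nat.mul_le_mul hcz hcard

end Bound

/-- `|⟨b, …, i⟩| ≤ 2·4585351680` from the Coxeter and spider relations alone. -/
theorem card_closure_range_le_two (hs : M8.IsLiftable s) (hsp : ev s spider ^ 10 = 1) :
    Finite (Subgroup.closure (Set.range s)) ∧ Nat.card (Subgroup.closure (Set.range s)) ≤ 2 * 4585351680 := by
  let x : Fin 8 → Subgroup.closure (Set.range s) := fun k => ⟨s k, Subgroup.subset_closure ⟨k, rfl⟩⟩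
  have hxs : ∀ k, (x k : G) = s k := fun k => rfl
  have hl : M8.IsLiftable x := by
    intro i j
    apply Subtype.ext
    have := hs i j
    simpa using this
  have hsp' : ev x spider ^ 10 = 1 := by
    apply Subtype.ext
    have h1 : ((ev x spider : Subgroup.closure (Set.range s)) : G) = ev s spider :=
      map_ev (Subgroup.closure (Set.range s)).subtype x spider
    rw [Subgroup.coe_pow, h1, hsp, Subgroup.coe_one]
  have htop : Subgroup.closure (Set.range x) = ⊤ := by
    have h1 : Subgroup.map (Subgroup.closure (Set.range s)).subtype (Subgroup.closure (Set.range x)) =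
        Subgroup.map (Subgroup.closure (Set.range s)).subtype ⊤ := by
      rw [MonoidHom.map_closure, ← Set.range_comp, ← MonoidHom.range_eq_map, Subgroup.range_subtype]
      rfl
    exact Subgroup.map_injective (Subgroup.subtype_injective _) h1
  exact bound_top hl hsp' htop

/-! ### `⟨a, …, i⟩` -/

open Cfsg.Agent.Fischer.Index14080 in
/-- `|⟨a, …, i⟩| ≤ 2·64561751654400` from the Coxeter, spider and one `E₇` relation. -/
theorem card_closure_a {y : Fin 9 → G} (h : Rels y) :
    Finite (Subgroup.closure (Set.range y)) ∧ Nat.card (Subgroup.closure (Set.range y)) ≤ 129123503308800 := by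
  have hl : M8.IsLiftable (fun k : Fin 8 => y k.succ) := by
    intro i j
    have h1 := h.cox i.succ j.succ
    have h2 : ∀ i j : Fin 8, lab9 i.succ j.succ = lab i j := by decide
    rw [h2] at h1
    exact h1
  have hb := card_closure_range_le_two hl h.spider
  have h3 : Level.Hl y LB = Subgroup.closure (Set.range fun k : Fin 8 => y k.succ) := by
    rw [Level.Hl]
    congr 1
    ext g
    constructor
    · rintro ⟨k, hk, rfl⟩
      have hk' : k ∈ LB := hk
      have hk0 : k ≠ 0 := by rintro rfl; exact absurd hk' (by decide)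
      obtain ⟨j, rfl⟩ := Fin.exists_succ_eq.2 hk0
      exact ⟨j, rfl⟩
    · rintro ⟨k, rfl⟩
      refine ⟨k.succ, ?_, rfl⟩
      show k.succ ∈ LB
      revert k; decide
  rw [← h3] at hb
  have h4 := Index14080.card_le h hb.1
  refine ⟨h4.1, h4.2.trans ?_⟩
  calc 14080 * Nat.card (Level.Hl y LB) ≤ 14080 * (2 * 4585351680) := Nat.mul_le_mul_left _ hb.2
    _ = 129123503308800 := by norm_num

end Cfsg.Agent.Fischer.Central
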