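import Mathlib

/-!
# Static certificates for coset tables with involutory generators

All functions below are written with recursors so that the kernel evaluates them quickly.
-/

set_option autoImplicit false

namespace Cfsg.Agent.Fischer.Cert

/-- `p k` for all `k < n` -/
noncomputable def allBelow (n : ℕ) (p : ℕ → Bool) : Bool :=
  Nat.rec true (fun k ih => Bool.rec false ih (p k)) n

theorem allBelow_spec {n : ℕ} {p : ℕ → Bool} (h : allBelow n p = true) : ∀ k < n, p k = true := by
  induction n with
  | zero => intro k hk; omega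
  | succ n ih =>
    have h' : (Bool.rec false (allBelow n p) (p n) : Bool) = true := h
    cases hp : p n with
    | false => rw [hp] at h'; exact absurd h' (by simp)
    | true =>
      rw [hp] at h'
      intro k hk
      rcases Nat.lt_succ_iff_lt_or_eq.1 hk with hk | rfl
      · exact ih h' k hk
      · exact hp

/-- kernel-friendly conjunction -/
noncomputable def band (a b : Bool) : Bool := Bool.rec false b a

theorem band_eq {a b : Bool} : band a b = true ↔ a = true ∧ b = true := by
  cases a <;> cases b <;> simp [band]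

/-- kernel-friendly if-then-else -/
noncomputable def bite (c a b : Bool) : Bool := Bool.rec b a c

/-- `p k` for all `k < m * n`, as two nested loops (small recursion depth in the kernel) -/
noncomputable def allGrid (m n : ℕ) (p : ℕ → Bool) : Bool :=
  allBelow m (fun i => allBelow n (fun j => p (Nat.add (Nat.mul n i) j)))

theorem allGrid_spec {m n : ℕ} {p : ℕ → Bool} (h : allGrid m n p = true) :
    ∀ k < m * n, p k = true := by
  intro k hk
  have hn : 0 < n := by
    rcases Nat.eq_zero_or_pos n with h0 | h0
    · subst h0; omega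
    · exact h0
  have h1 := allBelow_spec (allBelow_spec h (k / n) (Nat.div_lt_of_lt_mul (by rwa [Nat.mul_comm])))
    (k % n) (Nat.mod_lt _ hn)
  have e : Nat.add (Nat.mul n (k / n)) (k % n) = k := Nat.div_add_mod k n
  rw [e] at h1
  exact h1

theorem allBelow_of_allGrid {m n N : ℕ} {p : ℕ → Bool} (h : allGrid m n p = true)
    (hN : N ≤ m * n) : ∀ k < N, p k = true :=
  fun k hk => allGrid_spec h k (lt_of_lt_of_le hk hN)

/-- `p` for all members of a list -/
noncomputable def allList {α : Type} (L : List α) (p : α → Bool) : Bool :=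
  List.rec true (fun a _ ih => Bool.rec false ih (p a)) L

theorem allList_spec {α : Type} {L : List α} {p : α → Bool} (h : allList L p = true) :
    ∀ a ∈ L, p a = true := by
  induction L with
  | nil => intro a ha; exact absurd ha (by simp)
  | cons a L ih =>
    have h' : (Bool.rec false (allList L p) (p a) : Bool) = true := h
    cases hp : p a with
    | false => rw [hp] at h'; exact absurd h' (by simp)
    | true =>
      rw [hp] at h'
      intro b hb
      rcases List.mem_cons.1 hb with rfl | hb
      · exact hp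
      · exact ih h' b hb

section Walk

variable {Gen : Type} (nx tm : Gen → ℕ → ℕ)

/-- follow a word -/
noncomputable def walk (L : List Gen) : ℕ → ℕ :=
  List.rec (motive := fun _ => ℕ → ℕ) (fun x => x) (fun s _ ih x => ih (nx s x)) L

@[simp] theorem walk_nil (x : ℕ) : walk nx [] x = x := rfl
@[simp] theorem walk_cons (s : Gen) (L : List Gen) (x : ℕ) :
    walk nx (s :: L) x = walk nx L (nx s x) := rfl

/-- follow a word through edges of time `< t0`, ending at `z` -/
noncomputable def walkOK (t0 z : ℕ) (L : List Gen) : ℕ → Bool :=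
  List.rec (motive := fun _ => ℕ → Bool) (fun x => Nat.beq x z)
    (fun s _ ih x => Bool.rec (ih (nx s x)) false (Nat.ble t0 (tm s x))) L

theorem walkOK_nil (t0 z x : ℕ) : walkOK nx tm t0 z [] x = Nat.beq x z := rfl

theorem walkOK_cons {t0 z : ℕ} {s : Gen} {L : List Gen} {x : ℕ}
    (h : walkOK nx tm t0 z (s :: L) x = true) :
    tm s x < t0 ∧ walkOK nx tm t0 z L (nx s x) = true := by
  have h' : (Bool.rec (walkOK nx tm t0 z L (nx s x)) false (Nat.ble t0 (tm s x)) : Bool) = true := h
  cases hb : Nat.ble t0 (tm s x) with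
  | true => rw [hb] at h'; exact absurd h' (by simp)
  | false =>
    rw [hb] at h'
    refine ⟨?_, h'⟩
    by_contra hc
    have := Nat.ble_eq_true_of_le (not_lt.1 hc)
    rw [this] at hb
    exact absurd hb (by simp)

/-- apply `p` to the `i`-th member of a list (false if there is none) -/
noncomputable def anyAt {α : Type} (L : List α) (i : ℕ) (p : α → Bool) : Bool :=
  List.rec (motive := fun _ => ℕ → Bool) (fun _ => false)
    (fun w _ ih i => Nat.rec (p w) (fun j _ => ih j) i) L i

theorem anyAt_spec {α : Type} {L : List α} {i : ℕ} {p : α → Bool} (h : anyAt L i p = true) :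
    ∃ w ∈ L, p w = true := by
  induction L generalizing i with
  | nil => exact absurd h (by simp [anyAt])
  | cons w L ih =>
    cases i with
    | zero => exact ⟨w, List.mem_cons_self, h⟩
    | succ j =>
      obtain ⟨w', hw', h'⟩ := ih (i := j) h
      exact ⟨w', List.mem_cons_of_mem _ hw', h'⟩

end Walk

/-- a word acts trivially on all points below `m * n` -/
noncomputable def relCheck {Gen : Type} (nx : Gen → ℕ → ℕ) (m n : ℕ) (r : List Gen) : Bool :=
  allGrid m n (fun x => Nat.beq (walk nx r x) x)

theorem relCheck_spec {Gen : Type} {nx : Gen → ℕ → ℕ} {m n : ℕ} {r : List Gen}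
    (h : relCheck nx m n r = true) : ∀ x < m * n, walk nx r x = x :=
  fun x hx => Nat.eq_of_beq_eq_true (allGrid_spec h x hx)

/-- A static certificate. -/
structure Data (Gen : Type) where
  /-- number of points -/
  n : ℕ
  /-- the table -/
  nx : Gen → ℕ → ℕ
  /-- time stamps -/
  tm : Gen → ℕ → ℕ
  /-- rule indices: `2 * i + flag` -/
  ri : Gen → ℕ → ℕ
  /-- parent in the spanning tree -/
  par : ℕ → ℕ
  /-- generator in the spanning tree -/
  ps : ℕ → Gen
  /-- generators fixing the base point -/
  isH : Gen → Bool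
  /-- numbering of the generators -/
  code : Gen → ℕ
  /-- `w ∈ rules s` means that `s = w` is a relation -/
  rules : Gen → List (List Gen)

namespace Data

variable {Gen : Type} (D : Data Gen)

/-- check of one edge, with all data as explicit arguments -/
noncomputable def _root_.Cfsg.Agent.Fischer.Cert.edgeCheck {Gen : Type} (n : ℕ)
    (nx tm ri : Gen → ℕ → ℕ) (par : ℕ → ℕ) (ps : ℕ → Gen) (isH : Gen → Bool) (code : Gen → ℕ)
    (rules : Gen → List (List Gen)) (s : Gen) (x : ℕ) : Bool :=
  (fun z => band (Nat.ble (Nat.succ z) n) <| band (Nat.beq (nx s z) x) <|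
    band (Nat.beq (tm s z) (tm s x)) <|
    bite (Nat.ble (Nat.succ z) x) true <|
    bite (Nat.beq (tm s x) 0)
      (bite (Nat.beq z 0) (isH s) (band (Nat.beq (par z) x) (Nat.beq (code (ps z)) (code s))))
      (anyAt (rules s) (Nat.shiftRight (ri s x) 1)
        (fun w => bite (Nat.beq (Nat.land (ri s x) 1) 0)
          (walkOK nx tm (tm s x) z w x) (walkOK nx tm (tm s x) x w z)))) (nx s x)

/-- check of one tree edge, with all data as explicit arguments -/
noncomputable def _root_.Cfsg.Agent.Fischer.Cert.treeCheck {Gen : Type} (nx : Gen → ℕ → ℕ)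
    (par : ℕ → ℕ) (ps : ℕ → Gen) (i : ℕ) : Bool :=
  (fun z => band (Nat.ble (Nat.succ (par z)) z) (Nat.beq (nx (ps z) (par z)) z)) (Nat.succ i)

/-- check of one edge -/
noncomputable def edgeOK (s : Gen) (x : ℕ) : Bool :=
  edgeCheck D.n D.nx D.tm D.ri D.par D.ps D.isH D.code D.rules s x

/-- check of one tree edge -/
noncomputable def treeOK (i : ℕ) : Bool := treeCheck D.nx D.par D.ps i

/-- soundness hypotheses -/
structure Checked : Prop where
  edge : ∀ s, ∀ x < D.n, D.edgeOK s x = true
  tree : ∀ i < Nat.pred D.n, D.treeOK i = true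
  code_inj : ∀ s s', D.code s = D.code s' → s = s'

variable {D}

theorem edge_lt (h : D.Checked) (s : Gen) {x : ℕ} (hx : x < D.n) : D.nx s x < D.n := by
  have h1 := h.edge s x hx
  have h2 := (band_eq.1 h1).1
  exact Nat.le_of_ble_eq_true h2

theorem edge_invol (h : D.Checked) (s : Gen) {x : ℕ} (hx : x < D.n) : D.nx s (D.nx s x) = x := by
  have h1 := h.edge s x hx
  have h2 := (band_eq.1 (band_eq.1 h1).2).1
  exact Nat.eq_of_beq_eq_true h2

theorem edge_tm (h : D.Checked) (s : Gen) {x : ℕ} (hx : x < D.n) :
    D.tm s (D.nx s x) = D.tm s x := by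
  have h1 := h.edge s x hx
  have h2 := (band_eq.1 (band_eq.1 (band_eq.1 h1).2).2).1
  exact Nat.eq_of_beq_eq_true h2

theorem edge_main (h : D.Checked) (s : Gen) {x : ℕ} (hx : x < D.n) (hz : x ≤ D.nx s x) :
    (D.tm s x = 0 ∧ ((D.nx s x = 0 ∧ D.isH s = true) ∨
      (D.nx s x ≠ 0 ∧ D.par (D.nx s x) = x ∧ D.ps (D.nx s x) = s))) ∨
    (∃ w ∈ D.rules s, walkOK D.nx D.tm (D.tm s x) (D.nx s x) w x = true ∨
      walkOK D.nx D.tm (D.tm s x) x w (D.nx s x) = true) := by
  have h1 := h.edge s x hx
  have h2 := (band_eq.1 (band_eq.1 (band_eq.1 h1).2).2).2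
  have h3 : Nat.ble (Nat.succ (D.nx s x)) x = false := by
    rw [← Bool.not_eq_true]
    intro hc
    have := Nat.le_of_ble_eq_true hc
    omega
  rw [h3] at h2
  have h4 : bite (Nat.beq (D.tm s x) 0)
      (bite (Nat.beq (D.nx s x) 0) (D.isH s) (band (Nat.beq (D.par (D.nx s x)) x)
        (Nat.beq (D.code (D.ps (D.nx s x))) (D.code s))))
      (anyAt (D.rules s) (Nat.shiftRight (D.ri s x) 1)
        (fun w => bite (Nat.beq (Nat.land (D.ri s x) 1) 0)
          (walkOK D.nx D.tm (D.tm s x) (D.nx s x) w x)
          (walkOK D.nx D.tm (D.tm s x) x w (D.nx s x)))) = true := h2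
  cases h5 : Nat.beq (D.tm s x) 0 with
  | true =>
    left
    refine ⟨Nat.eq_of_beq_eq_true h5, ?_⟩
    rw [h5] at h4
    have h6 : bite (Nat.beq (D.nx s x) 0) (D.isH s) (band (Nat.beq (D.par (D.nx s x)) x)
        (Nat.beq (D.code (D.ps (D.nx s x))) (D.code s))) = true := h4
    cases h7 : Nat.beq (D.nx s x) 0 with
    | true =>
      rw [h7] at h6
      exact Or.inl ⟨Nat.eq_of_beq_eq_true h7, h6⟩
    | false =>
      rw [h7] at h6
      have h8 := band_eq.1 h6
      right
      refine ⟨fun hc => ?_, Nat.eq_of_beq_eq_true h8.1, ?_⟩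
      · rw [hc] at h7; exact absurd h7 (by decide)
      · exact h.code_inj _ _ (Nat.eq_of_beq_eq_true h8.2)
  | false =>
    right
    rw [h5] at h4
    obtain ⟨w, hw, h6⟩ := anyAt_spec h4
    refine ⟨w, hw, ?_⟩
    cases h7 : Nat.beq (Nat.land (D.ri s x) 1) 0 with
    | true => rw [h7] at h6; exact Or.inl h6
    | false => rw [h7] at h6; exact Or.inr h6

theorem tree_spec (h : D.Checked) {z : ℕ} (hz : z < D.n) (hz0 : z ≠ 0) :
    D.par z < z ∧ D.nx (D.ps z) (D.par z) = z := by
  have h1 := h.tree (z - 1) (by rw [Nat.pred_eq_sub_one]; omega)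
  have h2 : D.treeOK (z - 1) = band (Nat.ble (Nat.succ (D.par z)) z)
      (Nat.beq (D.nx (D.ps z) (D.par z)) z) := by
    have e : Nat.succ (z - 1) = z := by omega
    unfold treeOK treeCheck
    rw [e]
  rw [h2] at h1
  have h3 := band_eq.1 h1
  exact ⟨Nat.le_of_ble_eq_true h3.1, Nat.eq_of_beq_eq_true h3.2⟩

/-- existence of a function defined along the tree -/
theorem exists_tree_fun {Y : Type*} (act : Gen → Y → Y) (y0 : Y) (h : D.Checked) :
    ∃ f : ℕ → Y, f 0 = y0 ∧ ∀ z, z < D.n → z ≠ 0 → f z = act (D.ps z) (f (D.par z)) := by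
  let F : (z : ℕ) → ((m : ℕ) → m < z → Y) → Y := fun z ih =>
    if hz : D.par z < z then act (D.ps z) (ih (D.par z) hz) else y0
  let f : ℕ → Y := WellFounded.fix (C := fun _ => Y) Nat.lt_wfRel.wf F
  have hf : ∀ z, f z = F z (fun m _ => f m) := by
    intro z
    show WellFounded.fix (C := fun _ => Y) Nat.lt_wfRel.wf F z = _
    rw [WellFounded.fix_eq]
  refine ⟨f, ?_, ?_⟩
  · rw [hf]
    show (if hz : D.par 0 < 0 then _ else y0) = y0
    rw [dif_neg (Nat.not_lt_zero _)]
  · intro z hz hz0
    rw [hf]
    show (if hz : D.par z < z then act (D.ps z) (f (D.par z)) else y0) = _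
    rw [dif_pos (tree_spec h hz hz0).1]

/-- walking in `Y` -/
def walkY {Y : Type*} (act : Gen → Y → Y) (L : List Gen) (y : Y) : Y :=
  L.foldl (fun y s => act s y) y

@[simp] theorem walkY_nil {Y : Type*} (act : Gen → Y → Y) (y : Y) : walkY act [] y = y := rfl
@[simp] theorem walkY_cons {Y : Type*} (act : Gen → Y → Y) (s : Gen) (L : List Gen) (y : Y) :
    walkY act (s :: L) y = walkY act L (act s y) := rfl

/-- Main theorem. -/
theorem exists_equivariant {Y : Type*} (act : Gen → Y → Y) (y0 : Y) (h : D.Checked)
    (hinv : ∀ s y, act s (act s y) = y)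
    (hH : ∀ s, D.isH s = true → act s y0 = y0)
    (hrules : ∀ s, ∀ w ∈ D.rules s, ∀ y, walkY act w y = act s y) :
    ∃ f : ℕ → Y, f 0 = y0 ∧ ∀ x < D.n, ∀ s, f (D.nx s x) = act s (f x) := by
  obtain ⟨f, hf0, hf⟩ := exists_tree_fun act y0 h
  refine ⟨f, hf0, ?_⟩
  have key : ∀ t : ℕ, ∀ x < D.n, ∀ s, D.tm s x = t → f (D.nx s x) = act s (f x) := by
    intro t
    induction t using Nat.strong_induction_on with
    | _ t ih =>
    -- walking through good edges
    have hwalk : ∀ (w : List Gen) (x z : ℕ), x < D.n → walkOK D.nx D.tm t z w x = true →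
        f z = walkY act w (f x) := by
      intro w
      induction w with
      | nil =>
        intro x z hx hw
        rw [walkOK_nil] at hw
        rw [Nat.eq_of_beq_eq_true hw]
        rfl
      | cons s w ihw =>
        intro x z hx hw
        obtain ⟨h1, h2⟩ := walkOK_cons _ _ hw
        rw [ihw (D.nx s x) z (edge_lt h s hx) h2, walkY_cons]
        rw [ih (D.tm s x) h1 x hx s rfl]
    -- the case x ≤ nx s x
    have hmain : ∀ x < D.n, ∀ s, D.tm s x = t → x ≤ D.nx s x → f (D.nx s x) = act s (f x) := by
      intro x hx s ht hz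
      rcases edge_main h s hx hz with ⟨_, ⟨h0, hh⟩ | ⟨h0, hp, hs⟩⟩ | ⟨w, hw, hw' | hw'⟩
      · have hx0 : x = 0 := by omega
        rw [h0, hx0, hf0, hH s hh]
      · have := hf (D.nx s x) (edge_lt h s hx) h0
        rw [hp, hs] at this
        exact this
      · rw [ht] at hw'
        rw [hwalk w x _ hx hw', hrules s w hw]
      · rw [ht] at hw'
        have h1 := hwalk w _ _ (edge_lt h s hx) hw'
        rw [hrules s w hw] at h1
        rw [h1, hinv]
    intro x hx s ht
    by_cases hz : x ≤ D.nx s x
    · exact hmain x hx s ht hz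
    · have h1 := hmain (D.nx s x) (edge_lt h s hx) s (by rw [edge_tm h s hx, ht])
        (by rw [edge_invol h s hx]; omega)
      rw [edge_invol h s hx] at h1
      rw [h1, hinv]
  intro x hx s
  exact key _ x hx s rfl

end Data

/-! ### Relators -/

section Relators

variable {Gen : Type} {G : Type*} [Group G] (g : Gen → G)

/-- the word is a relator -/
def IsRel (r : List Gen) : Prop := (r.map g).prod = 1

theorem isRel_def (r : List Gen) : IsRel g r ↔ (r.map g).prod = 1 := Iff.rfl

theorem isRel_append_comm {u v : List Gen} (h : IsRel g (u ++ v)) : IsRel g (v ++ u) := by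
  unfold IsRel at h ⊢
  rw [List.map_append, List.prod_append] at h ⊢
  exact mul_eq_one_comm.1 h

theorem isRel_rotate {r : List Gen} (h : IsRel g r) (k : ℕ) : IsRel g (r.rotate k) := by
  induction k generalizing r with
  | zero => simpa using h
  | succ k ih =>
    cases r with
    | nil => simpa using h
    | cons a l =>
      rw [List.rotate_cons_succ]
      apply ih
      exact isRel_append_comm g (u := [a]) (v := l) h

theorem prod_reverse (hg : ∀ s, g s * g s = 1) (r : List Gen) :
    (r.reverse.map g).prod = ((r.map g).prod)⁻¹ := by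
  induction r with
  | nil => simp
  | cons a l ih =>
    have h1 : g a = (g a)⁻¹ := eq_inv_of_mul_eq_one_left (hg a)
    rw [List.reverse_cons, List.map_append, List.prod_append, ih]
    show _ * (g a * 1) = (g a * (l.map g).prod)⁻¹
    rw [mul_inv_rev, ← h1, mul_one]

theorem isRel_reverse (hg : ∀ s, g s * g s = 1) {r : List Gen} (h : IsRel g r) :
    IsRel g r.reverse := by
  unfold IsRel at h ⊢
  rw [prod_reverse g hg, h, inv_one]

theorem walkY_smul {Y : Type*} [MulAction G Y] (r : List Gen) (y : Y) :
    Data.walkY (fun s y => g s • y) r y = (r.reverse.map g).prod • y := by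
  induction r generalizing y with
  | nil => simp
  | cons a l ih =>
    rw [Data.walkY_cons, ih, List.reverse_cons, List.map_append, List.prod_append, mul_smul]
    simp

/-- a rule obtained from a relator -/
theorem rule_of_isRel {Y : Type*} [MulAction G Y] (hg : ∀ s, g s * g s = 1) {s : Gen}
    {w : List Gen} (h : IsRel g (s :: w)) (y : Y) :
    Data.walkY (fun s y => g s • y) w y = g s • y := by
  rw [walkY_smul, prod_reverse g hg]
  have h1 : g s * (w.map g).prod = 1 := by
    have := h
    unfold IsRel at this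
    rwa [List.map_cons, List.prod_cons] at this
  rw [← eq_inv_of_mul_eq_one_left h1]

/-- a rule word made from a base relator: index, rotation, reversal flag -/
def mkRule (base : List (List Gen)) (c : ℕ × ℕ × Bool) : List Gen :=
  if c.2.2 then ((base.getD c.1 []).reverse).rotate c.2.1 else (base.getD c.1 []).rotate c.2.1

theorem isRel_mkRule (hg : ∀ s, g s * g s = 1) (base : List (List Gen))
    (hbase : ∀ r ∈ base, IsRel g r) (c : ℕ × ℕ × Bool) : IsRel g (mkRule base c) := by
  have h0 : IsRel g (base.getD c.1 []) := by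
    rw [List.getD_eq_getElem?_getD]
    cases h : base[c.1]? with
    | none => simp [IsRel]
    | some r =>
      simp only [Option.getD_some]
      exact hbase r (List.mem_of_getElem? h)
  unfold mkRule
  split_ifs
  · exact isRel_rotate g (isRel_reverse g hg h0) _
  · exact isRel_rotate g h0 _

end Relators

end Cfsg.Agent.Fischer.Cert
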