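import Cfsg.Agent.SporadicRecognition.CosetCertHyp

/-!
Order bounds for chains of parabolic-type subgroups from coset certificates.
-/

set_option autoImplicit false

namespace Cfsg.Agent.Fischer.CertStep

open Cfsg.Agent.SporadicRecognition.CosetCert Cfsg.Agent.SporadicRecognition.CosetCertHyp

variable {G : Type*} [Group G]

/-- the letters of the certificate: position `n` of the list `l` -/
def pick (x : ℕ → G) (l : List ℕ) (n : ℕ) : G := if n < l.length then x (l.getD n 0) else 1

/-- the subgroup generated by the elements `x m`, `m ∈ l` -/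
def S (x : ℕ → G) (l : List ℕ) : Subgroup G := Subgroup.closure {y | ∃ m ∈ l, y = x m}

theorem S_nil (x : ℕ → G) : S x [] = ⊥ := by
  rw [S, Subgroup.closure_eq_bot_iff]
  rintro y ⟨m, hm, _⟩
  exact absurd hm (List.not_mem_nil)

theorem S_mono (x : ℕ → G) {l l' : List ℕ} (h : ∀ m ∈ l, m ∈ l') : S x l ≤ S x l' := by
  apply Subgroup.closure_mono
  rintro y ⟨m, hm, rfl⟩
  exact ⟨m, h m hm, rfl⟩

theorem mem_S (x : ℕ → G) {l : List ℕ} {m : ℕ} (h : m ∈ l) : x m ∈ S x l :=
  Subgroup.subset_closure ⟨m, h, rfl⟩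

theorem closure_pick (x : ℕ → G) (l : List ℕ) :
    Subgroup.closure (pick x l '' {n | n < l.length}) = S x l := by
  rw [S]
  congr 1
  ext y
  constructor
  · rintro ⟨n, hn, rfl⟩
    rw [Set.mem_ofPred_eq] at hn
    refine ⟨l.getD n 0, ?_, ?_⟩
    · rw [List.getD_eq_getElem l 0 hn]
      exact List.getElem_mem hn
    · rw [pick, if_pos hn]
  · rintro ⟨m, hm, rfl⟩
    obtain ⟨n, hn, rfl⟩ := List.getElem_of_mem hm
    refine ⟨n, hn, ?_⟩
    rw [pick, if_pos hn, List.getD_eq_getElem l 0 hn]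

/-- `m`-fold repetition -/
def rep (m : ℕ) (w : List ℕ) : List ℕ := (List.replicate m w).flatten

theorem ev_rep (g : ℕ → G) (m : ℕ) (w : List ℕ) : ev g (rep m w) = ev g w ^ m := by
  induction m with
  | zero => simp [rep, ev_nil]
  | succ m ih =>
    rw [rep, List.replicate_succ, List.flatten_cons, ev_append, ← rep, ih, pow_succ']

/-- the relators of a certificate are Coxeter relators or powers of the extra words -/
def relChk (lab : ℕ → ℕ → ℕ) (l : List ℕ) (ex : List (ℕ × List ℕ)) (rels : List (List ℕ)) : Bool :=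
  rels.all fun r =>
    ((List.range l.length).any fun i => (List.range l.length).any fun j =>
      r == rep (lab (l.getD i 0) (l.getD j 0)) [i, j]) ||
    ex.any fun p => (r.all fun n => decide (n < l.length)) &&
      (r.map fun n => l.getD n 0) == rep p.1 p.2

theorem ev_pick (x : ℕ → G) (l : List ℕ) (r : List ℕ) (h : ∀ n ∈ r, n < l.length) :
    ev (pick x l) r = ev x (r.map fun n => l.getD n 0) := by
  rw [ev, ev, List.map_map]
  congr 1
  apply List.map_congr_left
  intro n hn
  rw [pick, if_pos (h n hn)]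
  rfl

theorem hrel_of (lab : ℕ → ℕ → ℕ) (x : ℕ → G) (l : List ℕ) (ex : List (ℕ × List ℕ))
    (rels : List (List ℕ))
    (hcox : ∀ i ∈ l, ∀ j ∈ l, (x i * x j) ^ lab i j = 1)
    (hex : ∀ p ∈ ex, ev x p.2 ^ p.1 = 1)
    (hchk : relChk lab l ex rels = true) : ∀ r ∈ rels, ev (pick x l) r = 1 := by
  intro r hr
  have h := List.all_eq_true.mp hchk r hr
  rw [Bool.or_eq_true] at h
  rcases h with h | h
  · obtain ⟨i, hi, h⟩ := List.any_eq_true.mp h
    obtain ⟨j, hj, h⟩ := List.any_eq_true.mp h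
    rw [List.mem_range] at hi hj
    rw [beq_iff_eq] at h
    have e : ev (pick x l) [i, j] = x (l.getD i 0) * x (l.getD j 0) := by
      rw [ev_cons, ev_cons, ev_nil, mul_one, pick, pick, if_pos hi, if_pos hj]
    rw [h, ev_rep, e]
    apply hcox
    · rw [List.getD_eq_getElem l 0 hi]; exact List.getElem_mem hi
    · rw [List.getD_eq_getElem l 0 hj]; exact List.getElem_mem hj
  · obtain ⟨p, hp, h⟩ := List.any_eq_true.mp h
    rw [Bool.and_eq_true, beq_iff_eq] at h
    obtain ⟨h1, h2⟩ := h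
    have h1' : ∀ n ∈ r, n < l.length := by
      intro n hn
      have := List.all_eq_true.mp h1 n hn
      simpa using this
    rw [ev_pick x l r h1', h2, ev_rep]
    exact hex p hp

/-- the subgroup words of a certificate are letters of `l'` -/
def subChk (l l' : List ℕ) (subw : List (List ℕ)) : Bool :=
  subw.all fun s => (List.range l.length).any fun i => s == [i] && l'.contains (l.getD i 0)

theorem hsub_of (x : ℕ → G) (l l' : List ℕ) (subw : List (List ℕ))
    (h : subChk l l' subw = true) : ∀ s ∈ subw, ev (pick x l) s ∈ S x l' := by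
  intro s hs
  have h := List.all_eq_true.mp h s hs
  obtain ⟨i, hi, h⟩ := List.any_eq_true.mp h
  rw [List.mem_range] at hi
  rw [Bool.and_eq_true, beq_iff_eq] at h
  obtain ⟨rfl, h2⟩ := h
  rw [ev_cons, ev_nil, mul_one, pick, if_pos hi]
  exact mem_S x (by simpa using h2)

theorem hyp_of (C : Cert) (x : ℕ → G) (lab : ℕ → ℕ → ℕ) (l l' : List ℕ)
    (ex : List (ℕ × List ℕ)) (rels subw : List (List ℕ))
    (hk : C.k = l.length) (hinv : ∀ n, C.inv n = n)
    (hlab : ∀ i, lab i i = 1)
    (hcox : ∀ i ∈ l, ∀ j ∈ l, (x i * x j) ^ lab i j = 1)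
    (hex : ∀ p ∈ ex, ev x p.2 ^ p.1 = 1)
    (h1 : relChk lab l ex rels = true) (h2 : subChk l l' subw = true)
    (h3 : checkHyp C rels subw = true) : Hyp C (S x l') (pick x l) := by
  refine hyp_of_checks _ _ C rels subw ?_ ?_ (hrel_of lab x l ex rels hcox hex h1)
    (hsub_of x l l' subw h2) h3
  · rw [hk, pick, if_neg (lt_irrefl _)]
  · intro n hn
    rw [hinv]
    refine ⟨hn, ?_⟩
    rw [hk] at hn
    rw [pick, if_pos hn]
    have hm : l.getD n 0 ∈ l := by
      rw [List.getD_eq_getElem l 0 hn]; exact List.getElem_mem hn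
    have := hcox _ hm _ hm
    rwa [hlab, pow_one] at this

/-- one step of the chain -/
theorem step (C : Cert) (x : ℕ → G) (lab : ℕ → ℕ → ℕ) (l l' : List ℕ)
    (ex : List (ℕ × List ℕ)) (rels subw : List (List ℕ)) {n : ℕ} (hP : Part C 0 C.N n)
    (hk : C.k = l.length) (hinv : ∀ n, C.inv n = n)
    (hlab : ∀ i, lab i i = 1)
    (hcox : ∀ i ∈ l, ∀ j ∈ l, (x i * x j) ^ lab i j = 1)
    (hex : ∀ p ∈ ex, ev x p.2 ^ p.1 = 1)
    (h1 : relChk lab l ex rels = true) (h2 : subChk l l' subw = true)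
    (h3 : checkHyp C rels subw = true) {m : ℕ}
    (hfin : Finite (S x l') ∧ Nat.card (S x l') ≤ m) :
    Finite (S x l) ∧ Nat.card (S x l) ≤ n * m := by
  have := hfin.1
  have h := card_closure_le C (S x l') (pick x l)
    (hyp_of C x lab l l' ex rels subw hk hinv hlab hcox hex h1 h2 h3) hP
  rw [hk, closure_pick] at h
  exact ⟨h.1, h.2.trans (Nat.mul_le_mul_left _ hfin.2)⟩

theorem start (x : ℕ → G) : Finite (S x []) ∧ Nat.card (S x []) ≤ 1 := by
  rw [S_nil]
  refine ⟨inferInstance, ?_⟩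
  simp

/-- a subgroup generated by one involution -/
theorem start_one (x : ℕ → G) (m : ℕ) (h : x m * x m = 1) :
    Finite (S x [m]) ∧ Nat.card (S x [m]) ≤ 2 := by
  have e : S x [m] = Subgroup.zpowers (x m) := by
    rw [S, Subgroup.zpowers_eq_closure]
    congr 1
    ext y
    simp
  rw [e]
  have ho : orderOf (x m) ∣ 2 := orderOf_dvd_of_pow_eq_one (by rw [pow_two]; exact h)
  have hf : IsOfFinOrder (x m) := isOfFinOrder_iff_pow_eq_one.2 ⟨2, by norm_num, by rw [pow_two]; exact h⟩
  refine ⟨?_, ?_⟩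
  · exact hf.finite_zpowers.to_subtype
  · rw [Nat.card_zpowers]
    exact Nat.le_of_dvd (by norm_num) ho

end Cfsg.Agent.Fischer.CertStep
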