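import Cfsg.Agent.Fischer.Data22

/-!
# Kernel checks for Fi22: the edges h, i, l
-/

set_option autoImplicit false
set_option Elab.async false

namespace Cfsg.Agent.Fischer.Check22E3

open Cfsg.Agent.Fischer.Cert Cfsg.Agent.Fischer.Data22 Cfsg.Agent.Fischer.Data22.Gen

theorem edge_h : allGrid (nat_lit 54) (nat_lit 65) (edgeCheck (nat_lit 3510) nx tm ri par ps isH code rules h) = true := by
  decide +kernel

theorem edge_i : allGrid (nat_lit 54) (nat_lit 65) (edgeCheck (nat_lit 3510) nx tm ri par ps isH code rules i) = true := by
  decide +kernel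

theorem edge_l : allGrid (nat_lit 54) (nat_lit 65) (edgeCheck (nat_lit 3510) nx tm ri par ps isH code rules l) = true := by
  decide +kernel

end Cfsg.Agent.Fischer.Check22E3
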