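import Cfsg.Agent.Fischer.Check22E1
import Cfsg.Agent.Fischer.Check22E2
import Cfsg.Agent.Fischer.Check22E3

/-!
# The action of the Fischer group Fi22 on 3510 points: kernel checks of the certificate
-/

set_option autoImplicit false
set_option Elab.async false

namespace Cfsg.Agent.Fischer.Check22

open Cfsg.Agent.Fischer.Cert Cfsg.Agent.Fischer.Data22 Cfsg.Agent.Fischer.Data22.Gen

theorem edge_a : allGrid (nat_lit 54) (nat_lit 65) (edgeCheck (nat_lit 3510) nx tm ri par ps isH code rules a) = true :=
  Cfsg.Agent.Fischer.Check22E1.edge_a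

theorem edge_b : allGrid (nat_lit 54) (nat_lit 65) (edgeCheck (nat_lit 3510) nx tm ri par ps isH code rules b) = true :=
  Cfsg.Agent.Fischer.Check22E1.edge_b

theorem edge_c : allGrid (nat_lit 54) (nat_lit 65) (edgeCheck (nat_lit 3510) nx tm ri par ps isH code rules c) = true :=
  Cfsg.Agent.Fischer.Check22E1.edge_c

theorem edge_d : allGrid (nat_lit 54) (nat_lit 65) (edgeCheck (nat_lit 3510) nx tm ri par ps isH code rules d) = true :=
  Cfsg.Agent.Fischer.Check22E1.edge_d

theorem edge_e : allGrid (nat_lit 54) (nat_lit 65) (edgeCheck (nat_lit 3510) nx tm ri par ps isH code rules e) = true :=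
  Cfsg.Agent.Fischer.Check22E2.edge_e

theorem edge_f : allGrid (nat_lit 54) (nat_lit 65) (edgeCheck (nat_lit 3510) nx tm ri par ps isH code rules f) = true :=
  Cfsg.Agent.Fischer.Check22E2.edge_f

theorem edge_g : allGrid (nat_lit 54) (nat_lit 65) (edgeCheck (nat_lit 3510) nx tm ri par ps isH code rules g) = true :=
  Cfsg.Agent.Fischer.Check22E2.edge_g

theorem edge_h : allGrid (nat_lit 54) (nat_lit 65) (edgeCheck (nat_lit 3510) nx tm ri par ps isH code rules h) = true :=
  Cfsg.Agent.Fischer.Check22E3.edge_h

theorem edge_i : allGrid (nat_lit 54) (nat_lit 65) (edgeCheck (nat_lit 3510) nx tm ri par ps isH code rules i) = true :=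
  Cfsg.Agent.Fischer.Check22E3.edge_i

theorem edge_l : allGrid (nat_lit 54) (nat_lit 65) (edgeCheck (nat_lit 3510) nx tm ri par ps isH code rules l) = true :=
  Cfsg.Agent.Fischer.Check22E3.edge_l

theorem tree : allGrid (nat_lit 29) (nat_lit 121) (treeCheck nx par ps) = true := by
  decide +kernel

theorem relS1 : allList baseS1 (relCheck nx (nat_lit 54) (nat_lit 65)) = true := by
  decide +kernel

theorem relS2 : allList baseS2 (relCheck nx (nat_lit 54) (nat_lit 65)) = true := by
  decide +kernel

theorem relS3 : allList baseS3 (relCheck nx (nat_lit 54) (nat_lit 65)) = true := by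
  decide +kernel

theorem rel1_ok : relCheck nx (nat_lit 54) (nat_lit 65) rel1 = true := by
  decide +kernel

theorem rel2_ok : relCheck nx (nat_lit 54) (nat_lit 65) rel2 = true := by
  decide +kernel

theorem rel3_ok : relCheck nx (nat_lit 54) (nat_lit 65) rel3 = true := by
  decide +kernel

theorem rel4_ok : relCheck nx (nat_lit 54) (nat_lit 65) rel4 = true := by
  decide +kernel

/-- the tree restricted to the orbits of the stabiliser -/
noncomputable def treeHCheck (z : ℕ) : Bool :=
  bite (Nat.beq z (nat_lit 0)) true (bite (Nat.beq z (nat_lit 1)) true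
    (bite (Nat.beq z (nat_lit 2817)) true (band (isH (ps z))
      (bite (Nat.ble z (nat_lit 2816)) (Nat.ble (nat_lit 1) (par z)) (Nat.ble (nat_lit 2817) (par z))))))

theorem treeH : allGrid (nat_lit 54) (nat_lit 65) treeHCheck = true := by
  decide +kernel

/-- separation: the common fixed points of d, e, f, g, h, i, l among the points below 2817 -/
noncomputable def sepCheck (y : ℕ) : Bool :=
  bite (Nat.beq (nx d y) y) (bite (Nat.beq (nx e y) y) (bite (Nat.beq (nx f y) y)
    (bite (Nat.beq (nx g y) y) (bite (Nat.beq (nx h y) y) (bite (Nat.beq (nx i y) y)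
    (bite (Nat.beq (nx l y) y) (Nat.ble y (nat_lit 2)) true) true) true) true) true) true) true

theorem sep : allGrid (nat_lit 9) (nat_lit 313) sepCheck = true := by
  decide +kernel

/-- the points of the generators -/
noncomputable def ptsCheck : Bool :=
  band (Nat.beq (nx a (nx b 0)) 2) (band (Nat.beq (nx b (nx c 2)) 2817)
  (band (Nat.beq (nx c (nx d 2817)) 2819) (band (Nat.beq (nx d (nx e 2819)) 2827)
  (band (Nat.beq (nx d (nx h 2819)) 2830) (band (Nat.beq (nx e (nx f 2827)) 2854)
  (band (Nat.beq (nx f (nx g 2854)) 2922) (band (Nat.beq (nx h (nx i 2830)) 2863)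
  (band (Nat.beq (nx f (nx l 2854)) 2924) (band (Nat.beq (nx b 0) 1) (Nat.beq (nx a 1) 2))))))))))

theorem pts : ptsCheck = true := by
  decide +kernel

theorem rules_eq_a : rules_a.map (fun w => a :: w) = wits_a.map (mkRule base) := by
  decide +kernel

theorem rules_eq_b : rules_b.map (fun w => b :: w) = wits_b.map (mkRule base) := by
  decide +kernel

theorem rules_eq_c : rules_c.map (fun w => c :: w) = wits_c.map (mkRule base) := by
  decide +kernel

theorem rules_eq_d : rules_d.map (fun w => d :: w) = wits_d.map (mkRule base) := by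
  decide +kernel

theorem rules_eq_e : rules_e.map (fun w => e :: w) = wits_e.map (mkRule base) := by
  decide +kernel

theorem rules_eq_f : rules_f.map (fun w => f :: w) = wits_f.map (mkRule base) := by
  decide +kernel

theorem rules_eq_g : rules_g.map (fun w => g :: w) = wits_g.map (mkRule base) := by
  decide +kernel

theorem rules_eq_h : rules_h.map (fun w => h :: w) = wits_h.map (mkRule base) := by
  decide +kernel

theorem rules_eq_i : rules_i.map (fun w => i :: w) = wits_i.map (mkRule base) := by
  decide +kernel

theorem rules_eq_l : rules_l.map (fun w => l :: w) = wits_l.map (mkRule base) := by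
  decide +kernel

end Cfsg.Agent.Fischer.Check22
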