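import Cfsg.Agent.ChevalleyStructure.CoxeterWordCheck

/-!
Consequences of the relations of the Fischer presentations, for an arbitrary group `G` with elements
`s 0, …, s 7` (printed `b, c, d, e, f, g, h, i`) satisfying the Coxeter relations of the diagram `Y₂₃₂`
(centre `d = s 2`; arms `c – b = s 1 – s 0`, `e – f – g = s 3 – s 4 – s 5`, `h – i = s 6 – s 7`).

* `ev_eq_ev`: equality of two words is decided on the root lattice (kernel computation).
* `R1`: the spider relation `(dcbdefdhi)^10 = 1` gives `(Θ i)^3 = 1`, `Θ` the reflection in the highest root of the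
  `E₆` diagram `b, c, d, e, f, h`.
* `R2`: the spider relation and `(bcdefgh)^9 = 1` give `(cdefghi)^9 = 1`.
-/

set_option autoImplicit false

namespace Cfsg.Agent.Fischer.Derived

open Cfsg.Agent.ChevalleyStructure.CoxeterGeom Cfsg.Agent.ChevalleyStructure.CoxeterWordCheck

/-- Adjacency in the diagram `Y₂₃₂` on `b, c, d, e, f, g, h, i = 0, …, 7`. -/
def adj (i j : Fin 8) : Bool :=
  ([(0, 1), (1, 2), (2, 3), (2, 6), (3, 4), (4, 5), (6, 7)] : List (Fin 8 × Fin 8)).any
    fun e => (e.1 == i && e.2 == j) || (e.1 == j && e.2 == i)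

/-- The labels. -/
def lab (i j : Fin 8) : ℕ := if i = j then 1 else if adj i j then 3 else 2

theorem lab_symm : ∀ i j : Fin 8, lab j i = lab i j := by decide

theorem lab_diag : ∀ i : Fin 8, lab i i = 1 := by decide

theorem lab_off : ∀ i j : Fin 8, i ≠ j → lab i j ≠ 1 := by decide

/-- The Coxeter matrix of `Y₂₃₂`. -/
def M8 : CoxeterMatrix (Fin 8) where
  M := Matrix.of lab
  isSymm := Matrix.IsSymm.ext fun i j => lab_symm i j
  diagonal := lab_diag
  off_diagonal := lab_off

theorem M8_apply (i j : Fin 8) : M8 i j = lab i j := rfl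

/-- The Cartan matrix of `Y₂₃₂`. -/
def A8 (i j : Fin 8) : ℤ := if i = j then 2 else if adj i j then -1 else 0

theorem A8_diag : ∀ i : Fin 8, A8 i i = 2 := by decide

theorem A8_rel : ∀ i j : Fin 8, i ≠ j → (lab i j = 2 ∧ A8 i j = 0 ∧ A8 j i = 0) ∨
    (lab i j = 3 ∧ A8 i j = -1 ∧ A8 j i = -1) := by decide

theorem isCartan : IsCartan M8 A8 where
  diag := A8_diag
  rel i j hij := by
    rcases A8_rel i j hij with h | h
    · exact Or.inl h
    · exact Or.inr (Or.inl h)

variable {G : Type*} [Group G]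

/-- Value of a word. -/
def ev (s : Fin 8 → G) (w : List (Fin 8)) : G := (w.map s).prod

theorem ev_append (s : Fin 8 → G) (v w : List (Fin 8)) : ev s (v ++ w) = ev s v * ev s w := by
  rw [ev, ev, ev, List.map_append, List.prod_append]

theorem ev_nil (s : Fin 8 → G) : ev s [] = 1 := rfl

theorem ev_cons (s : Fin 8 → G) (i : Fin 8) (w : List (Fin 8)) : ev s (i :: w) = s i * ev s w := by
  rw [ev, ev, List.map_cons, List.prod_cons]

/-- `k`-fold repetition of a word. -/
def rep (k : ℕ) (w : List (Fin 8)) : List (Fin 8) := (List.replicate k w).flatten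

theorem ev_rep (s : Fin 8 → G) (k : ℕ) (w : List (Fin 8)) : ev s (rep k w) = ev s w ^ k := by
  induction k with
  | zero => simp [rep, ev_nil]
  | succ k ih =>
    rw [rep, List.replicate_succ, List.flatten_cons, ev_append, ← rep, ih, pow_succ']

variable {s : Fin 8 → G}

theorem sq (hs : M8.IsLiftable s) (i : Fin 8) : s i * s i = 1 := by
  have := hs i i
  rwa [M8.diagonal, pow_one] at this

theorem ev_reverse (hs : M8.IsLiftable s) (w : List (Fin 8)) : ev s w.reverse = (ev s w)⁻¹ := by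
  induction w with
  | nil => simp [ev_nil]
  | cons i w ih =>
    rw [List.reverse_cons, ev_append, ih, ev_cons, ev_cons, ev_nil, mul_one, mul_inv_rev,
      inv_eq_of_mul_eq_one_left (sq hs i)]

/-- The homomorphism from the Coxeter group. -/
theorem ev_eq_lift (hs : M8.IsLiftable s) (w : List (Fin 8)) :
    ev s w = M8.toCoxeterSystem.lift ⟨s, hs⟩ (M8.toCoxeterSystem.wordProd w) := by
  rw [CoxeterSystem.wordProd, map_list_prod, ev, List.map_map]
  congr 1
  refine List.map_congr_left fun i _ => ?_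
  rw [Function.comp_apply, CoxeterSystem.lift_apply_simple]

/-- The kernel check for the equality of two words in the Coxeter group `Y₂₃₂`. -/
def chk (w w' : List (Fin 8)) : Bool :=
  (List.range 8).all (fun i => actList (rows A8) (w.map (·.val)) (unit 8 i) ==
      actList (rows A8) (w'.map (·.val)) (unit 8 i))

theorem ev_eq_ev (hs : M8.IsLiftable s) {w w' : List (Fin 8)} (h : chk w w' = true) : ev s w = ev s w' := by
  rw [ev_eq_lift hs, ev_eq_lift hs,
    wordProd_eq_wordProd M8.toCoxeterSystem isCartan w w' h]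

/-- The spider word `d c b d e f d h i`. -/
def spider : List (Fin 8) := [2, 1, 0, 2, 3, 4, 2, 6, 7]

/-- The element `w` of `⟨c, d, e, f, h⟩` carrying `b` to the highest root of `E₆`. -/
def wTh : List (Fin 8) := [6, 2, 3, 1, 2, 6, 4, 3, 2, 1]

/-- The reflection in the highest root of `E₆` (nodes `b, c, d, e, f, h`). -/
def Th : List (Fin 8) := [6, 2, 3, 1, 2, 6, 4, 3, 2, 1, 0, 1, 2, 3, 4, 6, 2, 1, 3, 2, 6]

/-- The longest element of the `D₆` diagram `c, d, e, f, g, h`. -/
def u6 : List (Fin 8) :=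
  [6, 2, 3, 1, 2, 6, 4, 5, 3, 4, 2, 3, 1, 2, 6, 1, 2, 3, 4, 5, 1, 2, 3, 4, 1, 2, 3, 1, 2, 1]

/-- The reflection in the highest root of the `E₇` diagram `b, c, d, e, f, g, h`. -/
def s7 : List (Fin 8) :=
  [0, 1, 2, 3, 4, 5, 6, 2, 1, 0, 3, 2, 1, 4, 3, 2, 6, 2, 3, 4, 1, 2, 3, 0, 1, 2, 6, 5, 4, 3, 2, 1, 0]

/-- The reflection in `b + δ`. -/
def T8 : List (Fin 8) := [0, 1, 2, 3, 4, 6, 2, 1, 3, 2, 6, 7, 6, 2, 3, 1, 2, 6, 4, 3, 2, 1, 0]

theorem chk_C1 : chk (rep 9 [0, 1, 2, 3, 4, 5, 6]) (rep 3 (u6 ++ [0])) = true := by decide +kernel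
theorem chk_C2 : chk (rep 9 [0, 1, 2, 3, 4, 5, 6]) (u6 ++ s7) = true := by decide +kernel
theorem chk_C3 : chk (rep 9 [1, 2, 3, 4, 5, 6, 7]) (rep 3 (u6 ++ [7])) = true := by decide +kernel
theorem chk_C5 : chk (wTh ++ u6) (u6 ++ wTh) = true := by decide +kernel
theorem chk_C6 : chk (T8 ++ s7) (s7 ++ T8) = true := by decide +kernel
theorem chk_C7 : chk (rep 3 (Th ++ [7])) (rep 10 spider ++ [7] ++ rep 10 spider.reverse ++ [7]) = true := by
  decide +kernel
theorem chk_C8 : chk (wTh ++ T8 ++ [0] ++ T8 ++ wTh.reverse) (Th ++ [7] ++ Th ++ [7] ++ Th) = true := by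
  decide +kernel
theorem chk_C9 : chk (T8 ++ T8) [] = true := by decide +kernel

/-- From the spider relation: `(Θ i)^3 = 1`. -/
theorem R1 (hs : M8.IsLiftable s) (hsp : ev s spider ^ 10 = 1) : (ev s Th * s 7) ^ 3 = 1 := by
  have h := ev_eq_ev hs chk_C7
  rw [ev_rep, ev_append, ev_append, ev_append, ev_append, ev_rep, ev_rep, ev_reverse hs, inv_pow, hsp, inv_one,
    ev_cons, ev_nil, mul_one, one_mul, mul_one, sq hs] at h
  exact h

/-- From the spider relation and the `E₇` relation on `b, …, h`: the `E₇` relation on `c, …, i`. -/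
theorem R2 (hs : M8.IsLiftable s) (hsp : ev s spider ^ 10 = 1)
    (hz : ev s [0, 1, 2, 3, 4, 5, 6] ^ 9 = 1) : ev s [1, 2, 3, 4, 5, 6, 7] ^ 9 = 1 := by
  have h1 := ev_eq_ev hs chk_C1
  have h2 := ev_eq_ev hs chk_C2
  have h3 := ev_eq_ev hs chk_C3
  have h5 := ev_eq_ev hs chk_C5
  have h6 := ev_eq_ev hs chk_C6
  have h8 := ev_eq_ev hs chk_C8
  have h9 := ev_eq_ev hs chk_C9
  have hR := R1 hs hsp
  have e0 : ev s [0] = s 0 := by rw [ev_cons, ev_nil, mul_one]
  have e7 : ev s [7] = s 7 := by rw [ev_cons, ev_nil, mul_one]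
  simp only [ev_rep, ev_append, ev_reverse hs, e0, e7, ev_nil] at h1 h2 h3 h5 h6 h8 h9
  set u := ev s u6 with hu
  set w := ev s wTh with hw
  set T := ev s T8 with hT
  set r := ev s s7 with hr
  set Θ := ev s Th with hΘ
  -- `u = r⁻¹`, so `T` commutes with `u`
  rw [hz] at h1 h2
  have hur : u = r⁻¹ := eq_inv_of_mul_eq_one_left h2.symm
  have hTu : T * u = u * T := by
    rw [hur]
    have : T * r = r * T := h6
    calc T * r⁻¹ = r⁻¹ * (r * T) * r⁻¹ := by group
      _ = r⁻¹ * (T * r) * r⁻¹ := by rw [this]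
      _ = r⁻¹ * T := by group
  have hTi : T⁻¹ = T := inv_eq_of_mul_eq_one_left h9
  -- the conjugate of `b` is `i`
  have hi : w * T * s 0 * T * w⁻¹ = s 7 := by
    rw [h8]
    have h10 : (Θ * s 7 * Θ * s 7 * Θ) * s 7 = 1 := by
      rw [← hR]; simp only [pow_succ, pow_zero, one_mul, mul_assoc]
    rw [← inv_inv (Θ * s 7 * Θ * s 7 * Θ), inv_eq_of_mul_eq_one_right h10]
    exact inv_eq_of_mul_eq_one_left (sq hs 7)
  have hX : u * s 7 = (w * T) * (u * s 0) * (w * T)⁻¹ := by
    have hwT : (w * T) * u = u * (w * T) := by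
      rw [mul_assoc, hTu, ← mul_assoc, h5, mul_assoc]
    rw [← mul_assoc, hwT, mul_inv_rev, hTi, ← hi]
    simp only [mul_assoc]
  rw [h3, hX, conj_pow, ← h1, mul_one, mul_inv_cancel]

end Cfsg.Agent.Fischer.Derived
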