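import Cfsg.Agent.Fischer.ZCentral
import Cfsg.Agent.Lib.PermNetOrbit
import Cfsg.Prelude.Def_Spor_Fi22
import Cfsg.Prelude.Def_SporadicB

/-!
A group generated by elements `x a, …, x i` satisfying the Coxeter relations of `Y₃₃₂`, the spider relation, the
relation `(abcdefh)^9 = 1`, and in which `z = (bcdefgh)^9 ≠ 1`, is a non-split double cover of the presented Fischer
group `Fi22`, provided the latter is simple.
-/

set_option autoImplicit false

namespace Cfsg.Agent.Fischer.DoubleFi22

open Cfsg Cfsg.Spor Cfsg.Agent.Fischer.Derived Cfsg.Agent.Fischer.ZCentral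

/-- The hypotheses. -/
structure Hyp {K : Type*} [Group K] (x : Fi22.Gen → K) : Prop where
  gen : Subgroup.closure (Set.range x) = ⊤
  cox : ∀ p q : Fi22.Gen, (x p * x q) ^ coxLabel Fi22.edges p q = 1
  spider : (x .d * x .c * x .b * x .d * x .e * x .f * x .d * x .h * x .i) ^ 10 = 1
  e7 : (x .a * x .b * x .c * x .d * x .e * x .f * x .h) ^ 9 = 1
  ne : (x .b * x .c * x .d * x .e * x .f * x .g * x .h) ^ 9 ≠ 1

/-- The numbering of `b, …, i`. -/
def nm : Fin 8 → Fi22.Gen := ![.b, .c, .d, .e, .f, .g, .h, .i]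

theorem lab_nm : ∀ i j : Fin 8, coxLabel Fi22.edges (nm i) (nm j) = lab i j := by decide

variable {K : Type*} [Group K] {x : Fi22.Gen → K}

/-- The element `z = (bcdefgh)^9`. -/
def z (x : Fi22.Gen → K) : K := (x .b * x .c * x .d * x .e * x .f * x .g * x .h) ^ 9

theorem liftable (h : Hyp x) : M8.IsLiftable (fun i => x (nm i)) := by
  intro i j
  rw [M8_apply, ← lab_nm]
  exact h.cox _ _

theorem ev_wz : ev (fun i => x (nm i)) wz ^ 9 = z x := by
  simp only [wz, ev_cons, ev_nil, mul_one, nm, z]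
  simp [mul_assoc]

theorem ev_spider (h : Hyp x) : ev (fun i => x (nm i)) Derived.spider ^ 10 = 1 := by
  rw [← h.spider]
  simp only [Derived.spider, ev_cons, ev_nil, mul_one, nm]
  simp [mul_assoc]

theorem sq (h : Hyp x) (p : Fi22.Gen) : x p * x p = 1 := by
  have h1 := h.cox p p
  have hl : coxLabel Fi22.edges p p = 1 := by cases p <;> decide
  rwa [hl, pow_one] at h1

theorem comm_of_two {p q : K} (hp : p * p = 1) (hq : q * q = 1) (h : (p * q) ^ 2 = 1) : p * q = q * p := by
  have hp' : p⁻¹ = p := inv_eq_of_mul_eq_one_left hp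
  have hq' : q⁻¹ = q := inv_eq_of_mul_eq_one_left hq
  have h1 : (p * q)⁻¹ = p * q := inv_eq_of_mul_eq_one_left (by rw [← pow_two, h])
  rw [mul_inv_rev, hp', hq'] at h1
  exact h1.symm

theorem z_mul_z (h : Hyp x) : z x * z x = 1 := by
  rw [← ev_wz]; exact z_sq (liftable h)

theorem z_comm_gen (h : Hyp x) (p : Fi22.Gen) : z x * x p = x p * z x := by
  have key : ∀ i : Fin 8, z x * x (nm i) = x (nm i) * z x := by
    intro i
    rw [← ev_wz]
    exact ZCentral.z_comm (liftable h) (ev_spider h) i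
  cases p
  · rw [← ev_wz]
    refine ZCentral.z_comm_of (liftable h) (ev_spider h) ?_
    intro i hi
    have h2 : ∀ i : Fin 8, i ≠ 0 → coxLabel Fi22.edges .a (nm i) = 2 := by decide
    have h3 := h.cox .a (nm i)
    rw [h2 i hi] at h3
    exact comm_of_two (sq h _) (sq h _) h3
  · exact key 0
  · exact key 1
  · exact key 2
  · exact key 3
  · exact key 4
  · exact key 5
  · exact key 6
  · exact key 7

theorem z_mem_center (h : Hyp x) : z x ∈ Subgroup.center K := by
  have h1 : Subgroup.closure (Set.range x) ≤ Subgroup.centralizer {z x} := by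
    rw [Subgroup.closure_le]
    rintro _ ⟨p, rfl⟩
    rw [SetLike.mem_coe, Subgroup.mem_centralizer_iff]
    intro y hy
    rw [Set.mem_singleton_iff.1 hy]
    exact z_comm_gen h p
  rw [h.gen] at h1
  rw [Subgroup.mem_center_iff]
  intro g
  have h2 := h1 (Subgroup.mem_top g)
  rw [Subgroup.mem_centralizer_iff] at h2
  exact (h2 _ rfl).symm

theorem orderOf_z (h : Hyp x) : orderOf (z x) = 2 :=
  orderOf_eq_prime (by rw [pow_two, z_mul_z h]) h.ne

/-- In a commutative group satisfying the relations everything is trivial. -/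
theorem comm_trivial {A : Type*} [CommGroup A] (y : Fi22.Gen → A)
    (hcox : ∀ p q : Fi22.Gen, (y p * y q) ^ coxLabel Fi22.edges p q = 1)
    (h9 : (y .a * y .b * y .c * y .d * y .e * y .f * y .h) ^ 9 = 1) (p : Fi22.Gen) : y p = 1 := by
  have hsq : ∀ p, y p * y p = 1 := by
    intro p
    have h1 := hcox p p
    have hl : coxLabel Fi22.edges p p = 1 := by cases p <;> decide
    rwa [hl, pow_one] at h1
  have hadj : ∀ p q : Fi22.Gen, coxLabel Fi22.edges p q = 3 → y p = y q := by
    intro p q hpq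
    have h := hcox p q
    rw [hpq, mul_pow] at h
    have h1 : y p ^ 3 = y p := by rw [pow_succ, pow_two, hsq, one_mul]
    have h2 : y q ^ 3 = y q := by rw [pow_succ, pow_two, hsq, one_mul]
    rw [h1, h2] at h
    rw [eq_inv_of_mul_eq_one_left h]
    exact inv_eq_of_mul_eq_one_left (hsq q)
  have hab := hadj .a .b (by decide)
  have hbc := hadj .b .c (by decide)
  have hcd := hadj .c .d (by decide)
  have hde := hadj .d .e (by decide)
  have hef := hadj .e .f (by decide)
  have hfg := hadj .f .g (by decide)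
  have hdh := hadj .d .h (by decide)
  have hhi := hadj .h .i (by decide)
  have hall : ∀ p, y p = y .d := by
    intro p
    cases p
    · rw [hab, hbc, hcd]
    · rw [hbc, hcd]
    · rw [hcd]
    · rfl
    · rw [hde]
    · rw [hde, hef]
    · rw [hde, hef, hfg]
    · rw [hdh]
    · rw [hdh, hhi]
  rw [hall p]
  have h7 : y .a * y .b * y .c * y .d * y .e * y .f * y .h = y .d ^ 7 := by
    rw [hall .a, hall .b, hall .c, hall .e, hall .f, hall .h]
    simp only [pow_succ, pow_zero, one_mul]
  rw [h7, ← pow_mul] at h9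
  have h63 : y .d ^ (7 * 9) = y .d := by
    have h2 : y .d ^ 2 = 1 := by rw [pow_two]; exact hsq _
    have : (7 * 9 : ℕ) = 2 * 31 + 1 := by norm_num
    rw [this, pow_succ, pow_mul, h2, one_pow, one_mul]
  rw [← h63]; exact h9

theorem commutator_eq_top (h : Hyp x) : commutator K = ⊤ := by
  rw [← Abelianization.ker_of, eq_top_iff, ← h.gen, Subgroup.closure_le]
  rintro _ ⟨p, rfl⟩
  show Abelianization.of (x p) = 1
  refine comm_trivial (fun p => Abelianization.of (x p)) ?_ ?_ p
  · intro p q
    show (Abelianization.of (x p) * Abelianization.of (x q)) ^ _ = 1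
    rw [← map_mul, ← map_pow, h.cox, map_one]
  · show (Abelianization.of (x .a) * Abelianization.of (x .b) * Abelianization.of (x .c) *
      Abelianization.of (x .d) * Abelianization.of (x .e) * Abelianization.of (x .f) *
      Abelianization.of (x .h)) ^ 9 = 1
    simp only [← map_mul, ← map_pow]
    rw [h.e7, map_one]

/-- A perfect group all of whose elements are central is trivial. -/
theorem center_ne_top (h : Hyp x) : Subgroup.center K ≠ ⊤ := by
  intro hc
  have h1 : commutator K ≤ ⊥ := by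
    rw [commutator_def, Subgroup.commutator_le]
    intro g _ k _
    have hg : g ∈ Subgroup.center K := by rw [hc]; exact Subgroup.mem_top _
    rw [Subgroup.mem_bot, commutatorElement_eq_one_iff_mul_comm]
    exact (Subgroup.mem_center_iff.1 hg k).symm
  rw [commutator_eq_top h] at h1
  exact h.ne (Subgroup.mem_bot.1 (h1 (Subgroup.mem_top (z x))))

section Quotient

variable (N : Subgroup K) [hN : N.Normal]

/-- The images in the quotient by `N` lift to `Fi22`. -/
theorem lift_rel (h : Hyp x) (hz : z x ∈ N) : ∀ r ∈ coxRelators Fi22.edges ∪ {r | r ∈ Fi22.extra},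
    FreeGroup.lift (fun p => (QuotientGroup.mk' N) (x p)) r = 1 := by
  refine Cfsg.Agent.Lib.PermNetOrbit.cox_lift_eq_one _ _ _ (fun p _ q _ => ?_) ?_
  · rw [← map_mul, ← map_pow, h.cox, map_one]
  · intro r hr
    simp only [Fi22.extra, List.mem_cons, List.not_mem_nil, or_false] at hr
    rcases hr with rfl | rfl | rfl
    · simp only [map_pow, map_mul, FreeGroup.lift_apply_of]
      simp only [← map_mul, ← map_pow]
      rw [h.spider, map_one]
    · simp only [map_pow, map_mul, FreeGroup.lift_apply_of]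
      simp only [← map_mul, ← map_pow]
      rw [h.e7, map_one]
    · simp only [map_pow, map_mul, FreeGroup.lift_apply_of]
      simp only [← map_mul, ← map_pow]
      exact (QuotientGroup.eq_one_iff _).2 hz

/-- The homomorphism from the presented `Fi22` to the quotient by `N`. -/
noncomputable def theta (h : Hyp x) (hz : z x ∈ N) : Fi22 →* K ⧸ N :=
  PresentedGroup.toGroup (f := fun p => (QuotientGroup.mk' N) (x p)) (lift_rel N h hz)

theorem theta_of (h : Hyp x) (hz : z x ∈ N) (p : Fi22.Gen) :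
    theta N h hz (PresentedGroup.of p) = (QuotientGroup.mk' N) (x p) :=
  PresentedGroup.toGroup.of (lift_rel N h hz)

theorem theta_surjective (h : Hyp x) (hz : z x ∈ N) : Function.Surjective (theta N h hz) := by
  rw [← MonoidHom.range_eq_top, eq_top_iff]
  have h1 : (⊤ : Subgroup (K ⧸ N)) =
      (Subgroup.closure (Set.range x)).map (QuotientGroup.mk' N) := by
    rw [h.gen, ← MonoidHom.range_eq_map, MonoidHom.range_eq_top.2 (QuotientGroup.mk'_surjective _)]
  rw [h1, MonoidHom.map_closure, Subgroup.closure_le]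
  rintro _ ⟨_, ⟨p, rfl⟩, rfl⟩
  exact ⟨_, theta_of N h hz p⟩

/-- If `Fi22` is simple, `theta` is injective. -/
theorem theta_injective (h : Hyp x) (hz : z x ∈ N) (hsimple : IsSimpleGroup Fi22) (hne : N ≠ ⊤) :
    Function.Injective (theta N h hz) := by
  rw [← MonoidHom.ker_eq_bot_iff]
  rcases hsimple.eq_bot_or_eq_top_of_normal (theta N h hz).ker inferInstance with h1 | h1
  · exact h1
  · exfalso
    apply hne
    rw [eq_top_iff]
    intro k _
    obtain ⟨g, hg⟩ := theta_surjective N h hz (QuotientGroup.mk' N k)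
    have h2 : g ∈ (theta N h hz).ker := by rw [h1]; exact Subgroup.mem_top _
    rw [MonoidHom.mem_ker.1 h2] at hg
    exact (QuotientGroup.eq_one_iff k).1 hg.symm

/-- The isomorphism. -/
noncomputable def thetaEquiv (h : Hyp x) (hz : z x ∈ N) (hsimple : IsSimpleGroup Fi22) (hne : N ≠ ⊤) :
    Fi22 ≃* K ⧸ N :=
  MulEquiv.ofBijective (theta N h hz) ⟨theta_injective N h hz hsimple hne, theta_surjective N h hz⟩

end Quotient

theorem center_eq (h : Hyp x) (hsimple : IsSimpleGroup Fi22) :
    Subgroup.center K = Subgroup.zpowers (z x) := by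
  have hle : Subgroup.zpowers (z x) ≤ Subgroup.center K := by
    rw [Subgroup.zpowers_le]; exact z_mem_center h
  have hN : (Subgroup.zpowers (z x)).Normal := ⟨by
    intro n hn g
    have h1 := Subgroup.mem_center_iff.1 (hle hn) g
    rw [h1, mul_inv_cancel_right]
    exact hn⟩
  have hne : Subgroup.zpowers (z x) ≠ ⊤ := by
    intro ht
    rw [ht] at hle
    exact center_ne_top h (top_le_iff.1 hle)
  have hz : z x ∈ Subgroup.zpowers (z x) := Subgroup.mem_zpowers _
  have hS : IsSimpleGroup (K ⧸ Subgroup.zpowers (z x)) := by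
    have e := thetaEquiv (Subgroup.zpowers (z x)) h hz hsimple hne
    exact (MulEquiv.isSimpleGroup_congr e).1 hsimple
  apply le_antisymm _ hle
  have hmn : ((Subgroup.center K).map (QuotientGroup.mk' (Subgroup.zpowers (z x)))).Normal :=
    Subgroup.Normal.map inferInstance _ (QuotientGroup.mk'_surjective _)
  rcases hS.eq_bot_or_eq_top_of_normal _ hmn with h1 | h1
  · intro k hk
    have h2 : QuotientGroup.mk' (Subgroup.zpowers (z x)) k ∈
        (Subgroup.center K).map (QuotientGroup.mk' (Subgroup.zpowers (z x))) := ⟨k, hk, rfl⟩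
    rw [h1] at h2
    exact (QuotientGroup.eq_one_iff k).1 (Subgroup.mem_bot.1 h2)
  · exfalso
    apply center_ne_top h
    rw [eq_top_iff]
    intro k _
    have h2 : QuotientGroup.mk' (Subgroup.zpowers (z x)) k ∈
        (Subgroup.center K).map (QuotientGroup.mk' (Subgroup.zpowers (z x))) := by
      rw [h1]; exact Subgroup.mem_top _
    obtain ⟨c, hc, hck⟩ := h2
    have h3 : c⁻¹ * k ∈ Subgroup.zpowers (z x) := QuotientGroup.eq.1 hck
    have h4 := (Subgroup.center K).mul_mem hc (hle h3)
    rwa [mul_inv_cancel_left] at h4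

theorem card_center (h : Hyp x) (hsimple : IsSimpleGroup Fi22) : Nat.card (Subgroup.center K) = 2 := by
  rw [center_eq h hsimple, Nat.card_zpowers, orderOf_z h]

/-- **Non-split double cover.** -/
theorem isNonsplitDoubleCover (h : Hyp x) (hsimple : IsSimpleGroup Fi22) :
    Cfsg.IsNonsplitDoubleCover K Fi22 := by
  refine ⟨card_center h hsimple, ?_, ?_⟩
  · exact ⟨(thetaEquiv (Subgroup.center K) h (z_mem_center h) hsimple (center_ne_top h)).symm⟩
  · intro L hL
    have hcomm : commutator K ≤ L := by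
      rw [commutator_def, Subgroup.commutator_le]
      intro g _ k _
      obtain ⟨⟨⟨z1, hz1⟩, ⟨l1, hl1⟩⟩, h1⟩ := hL.2 g
      obtain ⟨⟨⟨z2, hz2⟩, ⟨l2, hl2⟩⟩, h2⟩ := hL.2 k
      simp only at h1 h2
      subst h1 h2
      have c1 := Subgroup.mem_center_iff.1 hz1
      have c2 := Subgroup.mem_center_iff.1 hz2
      have d1 : ∀ t : K, t * z1⁻¹ = z1⁻¹ * t :=
        Subgroup.mem_center_iff.1 ((Subgroup.center K).inv_mem hz1)
      have d2 : ∀ t : K, t * z2⁻¹ = z2⁻¹ * t :=
        Subgroup.mem_center_iff.1 ((Subgroup.center K).inv_mem hz2)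
      have e : z1 * l1 * (z2 * l2) * (z1 * l1)⁻¹ * (z2 * l2)⁻¹ = l1 * l2 * l1⁻¹ * l2⁻¹ := by
        rw [mul_inv_rev, mul_inv_rev]
        calc z1 * l1 * (z2 * l2) * (l1⁻¹ * z1⁻¹) * (l2⁻¹ * z2⁻¹)
            = z1 * (l1 * z2) * l2 * (l1⁻¹ * z1⁻¹) * (l2⁻¹ * z2⁻¹) := by simp only [mul_assoc]
          _ = z1 * (z2 * l1) * l2 * (z1⁻¹ * l1⁻¹) * (z2⁻¹ * l2⁻¹) := by rw [c2 l1, d1, d2]
          _ = z1 * (z2 * l1 * l2 * z1⁻¹) * (l1⁻¹ * z2⁻¹) * l2⁻¹ := by simp only [mul_assoc]
          _ = z1 * (z1⁻¹ * (z2 * l1 * l2)) * (z2⁻¹ * l1⁻¹) * l2⁻¹ := by rw [d1, d2]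
          _ = (z2 * (l1 * l2) * z2⁻¹) * l1⁻¹ * l2⁻¹ := by
            rw [mul_inv_cancel_left]; simp only [mul_assoc]
          _ = l1 * l2 * l1⁻¹ * l2⁻¹ := by
            rw [d2, ← mul_assoc, inv_mul_cancel, one_mul]
      show z1 * l1 * (z2 * l2) * (z1 * l1)⁻¹ * (z2 * l2)⁻¹ ∈ L
      rw [e]
      exact L.mul_mem (L.mul_mem (L.mul_mem hl1 hl2) (L.inv_mem hl1)) (L.inv_mem hl2)
    rw [commutator_eq_top h, top_le_iff] at hcomm
    subst hcomm
    have hd := hL.disjoint
    rw [disjoint_top] at hd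
    have hc := card_center h hsimple
    rw [hd] at hc
    simp at hc

end Cfsg.Agent.Fischer.DoubleFi22
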