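import Cfsg.Agent.Fischer.Rank22

/-!
# Fi22: the base transposition is a product of six transpositions commuting with it; simplicity
-/

set_option autoImplicit false

namespace Cfsg.Agent.Fischer.Even22

open Cfsg Cfsg.Agent.Fischer.Cert Cfsg.Agent.Fischer.Data22 Cfsg.Agent.Fischer.Check22
  Cfsg.Agent.Fischer.Abstract Cfsg.Agent.Fischer.Group22 Cfsg.Agent.Fischer.Rank22

open Gen in
/-- a relator -/
def rel5 : List Gen := [a, b, a, c, b, d, c, e, d, h, d, e, c, d, b, c, a, b, c, d, c, e, d, h,
  d, e, c, d, e, h, l]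

theorem rel5_ok : relCheck nx (nat_lit 54) (nat_lit 65) rel5 = true := by
  decide +kernel

theorem isRel5 : IsRel g rel5 := by
  have h := isRel_perm_of_check rel5_ok
  rw [isRel_def] at h ⊢
  apply Subtype.ext
  rw [← Subgroup.coe_subtype, map_list_prod, List.map_map]
  exact h

open Gen in
/-- check of the two auxiliary points -/
noncomputable def auxCheck : Bool :=
  band (Nat.beq (nx d (nx c (nx e (nx d 2830)))) 2835)
    (band (Nat.beq (nx b (nx a (nx c (nx b 2835)))) 2963)
      (band (Nat.beq (nx a 2835) 2835) (Nat.beq (nx a 2963) 2963)))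

theorem aux : auxCheck = true := by
  decide +kernel

theorem aux_spec : nx .d (nx .c (nx .e (nx .d 2830))) = 2835 ∧
    nx .b (nx .a (nx .c (nx .b 2835))) = 2963 ∧ nx .a 2835 = 2835 ∧ nx .a 2963 = 2963 := by
  have h := aux
  unfold auxCheck at h
  simp only [band_eq] at h
  obtain ⟨h1, h2, h3, h4⟩ := h
  exact ⟨Nat.eq_of_beq_eq_true h1, Nat.eq_of_beq_eq_true h2, Nat.eq_of_beq_eq_true h3,
    Nat.eq_of_beq_eq_true h4⟩

/-- first auxiliary point -/
def p1 : X := pt 2835 (by decide)
/-- second auxiliary point -/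
def p2 : X := pt 2963 (by decide)

theorem p1_eq : p1 = (g .d * g .c * g .e * g .d) • pg .h := by
  apply Fin.ext
  rw [mul_smul, mul_smul, mul_smul, g_smul, g_smul, g_smul, g_smul]
  exact aux_spec.1.symm

theorem p2_eq : p2 = (g .b * g .a * g .c * g .b) • p1 := by
  apply Fin.ext
  rw [mul_smul, mul_smul, mul_smul, g_smul, g_smul, g_smul, g_smul]
  exact aux_spec.2.1.symm

theorem t_p1 : t p1 = g .d * g .c * g .e * g .d * g .h * g .d * g .e * g .c * g .d := by
  rw [p1_eq, t_smul, t_pg]
  simp only [mul_inv_rev, g_inv, mul_assoc]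

theorem t_p2 : t p2 = g .b * g .a * g .c * g .b * (g .d * g .c * g .e * g .d * g .h * g .d * g .e *
    g .c * g .d) * g .b * g .c * g .a * g .b := by
  rw [p2_eq, t_smul, t_p1]
  simp only [mul_inv_rev, g_inv, mul_assoc]

/-- the six points -/
def six : List X := [p2, pg .c, p1, pg .e, pg .h, pg .l]

theorem prod_six : R.t R.x0 = (six.map R.t).prod := by
  have h := isRel5
  rw [isRel_def] at h
  unfold rel5 at h
  simp only [List.map_cons, List.map_nil, List.prod_cons, List.prod_nil, mul_one] at h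
  have h2 := eq_inv_of_mul_eq_one_right h
  rw [g_inv] at h2
  rw [R_x0, R_t, t_x0]
  show g .a = ([t p2, t (pg .c), t p1, t (pg .e), t (pg .h), t (pg .l)]).prod
  simp only [List.prod_cons, List.prod_nil, mul_one, t_p1, t_p2, t_pg, mul_assoc]
  exact h2.symm

theorem even_six : Even six.length := ⟨3, rfl⟩

theorem com_six : ∀ x ∈ six, R.Com R.x0 x ∧ x ≠ R.x0 := by
  have hne : ∀ x : X, x.1 ≠ 0 → x ≠ R.x0 := by
    intro x hx h
    rw [R_x0] at h
    apply hx
    rw [h, x0_val]
  have hcom : ∀ x : X, nx .a x = x → R.Com R.x0 x := by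
    intro x hx
    rw [← R.t_smul_eq_iff, R_t, R_x0, t_x0]
    exact Fin.ext hx
  intro x hx
  unfold six at hx
  simp only [List.mem_cons, List.not_mem_nil, or_false] at hx
  rcases hx with rfl | rfl | rfl | rfl | rfl | rfl
  · exact ⟨hcom _ aux_spec.2.2.2, hne _ (by decide)⟩
  · exact ⟨com_x0_pg rfl, hne _ (by decide)⟩
  · exact ⟨hcom _ aux_spec.2.2.1, hne _ (by decide)⟩
  · exact ⟨com_x0_pg rfl, hne _ (by decide)⟩
  · exact ⟨com_x0_pg rfl, hne _ (by decide)⟩
  · exact ⟨com_x0_pg rfl, hne _ (by decide)⟩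

instance faithful : FaithfulSMul G X := ⟨by
  intro g1 g2 h
  apply Subtype.ext
  ext x
  exact congrArg Fin.val (h x)⟩

theorem isSimpleGroup : IsSimpleGroup G :=
  Simple.isSimpleGroup R R_z1 R_z2 six even_six prod_six

theorem isThreeTranspositionClass : IsThreeTranspositionClass (Set.range R.t) :=
  R.isThreeTranspositionClass

theorem card_D : Nat.card (Set.range R.t) = 3510 := by
  rw [R.card_range]
  simp

theorem card_G : Nat.card G = 3510 * Nat.card (Centralizer.C R) := by
  rw [Centralizer.card_eq R]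
  simp

end Cfsg.Agent.Fischer.Even22
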