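import Cfsg.Prelude.Def_Spor_Fi22
import Cfsg.Agent.Lib.PermNetOrbit
import Cfsg.Agent.Fischer.Fi22Nets3510

/-!
The permutation representation of the presented Fischer group `Fi22` on the 3510 cosets of
`H = ⟨a, c, d, e, f, g, h, i, (abcdeh)^5⟩` (point `0` is `H`).
-/

set_option autoImplicit false
set_option maxRecDepth 100000

namespace Cfsg.Agent.Fischer.Fi22Perm

open Cfsg Cfsg.Agent.Lib.PermNet Cfsg.Agent.Lib.PermNetOrbit Cfsg.Agent.Fischer.Fi22Nets3510

/-- The networks of the generators. -/
noncomputable def net : Spor.Fi22.Gen → Net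
  | .a => aN
  | .b => bN
  | .c => cN
  | .d => dN
  | .e => eN
  | .f => fN
  | .g => gN
  | .h => hN
  | .i => iN

theorem ok_a : aN.ok (2 ^ 12) = true := by decide +kernel
theorem ok_b : bN.ok (2 ^ 12) = true := by decide +kernel
theorem ok_c : cN.ok (2 ^ 12) = true := by decide +kernel
theorem ok_d : dN.ok (2 ^ 12) = true := by decide +kernel
theorem ok_e : eN.ok (2 ^ 12) = true := by decide +kernel
theorem ok_f : fN.ok (2 ^ 12) = true := by decide +kernel
theorem ok_g : gN.ok (2 ^ 12) = true := by decide +kernel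
theorem ok_h : hN.ok (2 ^ 12) = true := by decide +kernel
theorem ok_i : iN.ok (2 ^ 12) = true := by decide +kernel
theorem ok_u : uN.ok (2 ^ 12) = true := by decide +kernel

theorem net_ok (x : Spor.Fi22.Gen) : (net x).ok (2 ^ 12) = true := by
  cases x
  · exact ok_a
  · exact ok_b
  · exact ok_c
  · exact ok_d
  · exact ok_e
  · exact ok_f
  · exact ok_g
  · exact ok_h
  · exact ok_i

theorem wok (w : List Spor.Fi22.Gen) : WOk (2 ^ 12) (w.map net) := by
  intro L hL
  obtain ⟨x, _, rfl⟩ := List.mem_map.1 hL
  exact net_ok x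

/-- The permutation of a word. -/
noncomputable def wp (w : List Spor.Fi22.Gen) : Equiv.Perm ℕ := wperm (w.map net)

/-- The kernel check of the equality of two words. -/
noncomputable def ceq (v w : List Spor.Fi22.Gen) : Bool := checkEq 12 (v.map net) (w.map net)

theorem wp_eq {v w : List Spor.Fi22.Gen} (h : ceq v w = true) : wp v = wp w :=
  prod_eq_of_checkEq (wok v) (wok w) h

theorem sq_a : ceq [.a, .a] [] = true := by decide +kernel
theorem sq_b : ceq [.b, .b] [] = true := by decide +kernel
theorem sq_c : ceq [.c, .c] [] = true := by decide +kernel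
theorem sq_d : ceq [.d, .d] [] = true := by decide +kernel
theorem sq_e : ceq [.e, .e] [] = true := by decide +kernel
theorem sq_f : ceq [.f, .f] [] = true := by decide +kernel
theorem sq_g : ceq [.g, .g] [] = true := by decide +kernel
theorem sq_h : ceq [.h, .h] [] = true := by decide +kernel
theorem sq_i : ceq [.i, .i] [] = true := by decide +kernel
theorem p_ab : ceq [.a, .b, .a] [.b, .a, .b] = true := by decide +kernel
theorem p_ac : ceq [.a, .c] [.c, .a] = true := by decide +kernel
theorem p_ad : ceq [.a, .d] [.d, .a] = true := by decide +kernel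
theorem p_ae : ceq [.a, .e] [.e, .a] = true := by decide +kernel
theorem p_af : ceq [.a, .f] [.f, .a] = true := by decide +kernel
theorem p_ag : ceq [.a, .g] [.g, .a] = true := by decide +kernel
theorem p_ah : ceq [.a, .h] [.h, .a] = true := by decide +kernel
theorem p_ai : ceq [.a, .i] [.i, .a] = true := by decide +kernel
theorem p_bc : ceq [.b, .c, .b] [.c, .b, .c] = true := by decide +kernel
theorem p_bd : ceq [.b, .d] [.d, .b] = true := by decide +kernel
theorem p_be : ceq [.b, .e] [.e, .b] = true := by decide +kernel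
theorem p_bf : ceq [.b, .f] [.f, .b] = true := by decide +kernel
theorem p_bg : ceq [.b, .g] [.g, .b] = true := by decide +kernel
theorem p_bh : ceq [.b, .h] [.h, .b] = true := by decide +kernel
theorem p_bi : ceq [.b, .i] [.i, .b] = true := by decide +kernel
theorem p_cd : ceq [.c, .d, .c] [.d, .c, .d] = true := by decide +kernel
theorem p_ce : ceq [.c, .e] [.e, .c] = true := by decide +kernel
theorem p_cf : ceq [.c, .f] [.f, .c] = true := by decide +kernel
theorem p_cg : ceq [.c, .g] [.g, .c] = true := by decide +kernel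
theorem p_ch : ceq [.c, .h] [.h, .c] = true := by decide +kernel
theorem p_ci : ceq [.c, .i] [.i, .c] = true := by decide +kernel
theorem p_de : ceq [.d, .e, .d] [.e, .d, .e] = true := by decide +kernel
theorem p_df : ceq [.d, .f] [.f, .d] = true := by decide +kernel
theorem p_dg : ceq [.d, .g] [.g, .d] = true := by decide +kernel
theorem p_dh : ceq [.d, .h, .d] [.h, .d, .h] = true := by decide +kernel
theorem p_di : ceq [.d, .i] [.i, .d] = true := by decide +kernel
theorem p_ef : ceq [.e, .f, .e] [.f, .e, .f] = true := by decide +kernel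
theorem p_eg : ceq [.e, .g] [.g, .e] = true := by decide +kernel
theorem p_eh : ceq [.e, .h] [.h, .e] = true := by decide +kernel
theorem p_ei : ceq [.e, .i] [.i, .e] = true := by decide +kernel
theorem p_fg : ceq [.f, .g, .f] [.g, .f, .g] = true := by decide +kernel
theorem p_fh : ceq [.f, .h] [.h, .f] = true := by decide +kernel
theorem p_fi : ceq [.f, .i] [.i, .f] = true := by decide +kernel
theorem p_gh : ceq [.g, .h] [.h, .g] = true := by decide +kernel
theorem p_gi : ceq [.g, .i] [.i, .g] = true := by decide +kernel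
theorem p_hi : ceq [.h, .i, .h] [.i, .h, .i] = true := by decide +kernel

/-- The spider word `dcbdefdhi`. -/
def spider : List Spor.Fi22.Gen := [.d, .c, .b, .d, .e, .f, .d, .h, .i]

/-- The word `abcdefh`. -/
def w7 : List Spor.Fi22.Gen := [.a, .b, .c, .d, .e, .f, .h]

/-- The word `bcdefgh`. -/
def w7' : List Spor.Fi22.Gen := [.b, .c, .d, .e, .f, .g, .h]

/-- The word `abcdeh`. -/
def w6 : List Spor.Fi22.Gen := [.a, .b, .c, .d, .e, .h]

/-- The power of a word. -/
def rep (w : List Spor.Fi22.Gen) (n : ℕ) : List Spor.Fi22.Gen :=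
  Nat.rec (motive := fun _ => List Spor.Fi22.Gen) [] (fun _ ih => w ++ ih) n

theorem x_spider : ceq (rep spider 10) [] = true := by decide +kernel

theorem x_w7 : ceq (rep w7 9) [] = true := by decide +kernel

theorem x_w7' : ceq (rep w7' 9) [] = true := by decide +kernel

/-- `uN` is the network of `(abcdeh)^5`. -/
theorem x_u : checkEq 12 [uN] ((rep w6 5).map net) = true := by decide +kernel

/-- The permutations of the generators. -/
noncomputable def f (x : Spor.Fi22.Gen) : Equiv.Perm ℕ := (net x).perm

theorem wp_nil : wp [] = 1 := rfl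

theorem wp_cons (x : Spor.Fi22.Gen) (w : List Spor.Fi22.Gen) : wp (x :: w) = f x * wp w := by
  simp [wp, f]

theorem wp_append (v w : List Spor.Fi22.Gen) : wp (v ++ w) = wp v * wp w := by
  simp [wp, wperm_append]

theorem wp_rep (w : List Spor.Fi22.Gen) (n : ℕ) : wp (rep w n) = wp w ^ n := by
  induction n with
  | zero => rfl
  | succ n ih =>
    show wp (w ++ rep w n) = _
    rw [wp_append, ih, pow_succ']

theorem u_perm : uN.perm = wp w6 ^ 5 := by
  rw [← wp_rep]
  have h := prod_eq_of_checkEq (WOk.cons ok_u (WOk.nil _)) (wok (rep w6 5)) x_u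
  have h1 : wperm [uN] = wp (rep w6 5) := h
  rwa [wperm_cons, wperm_nil, mul_one] at h1

theorem f_sq (x : Spor.Fi22.Gen) : f x * f x = 1 := by
  have h : wp [x, x] = wp [] := by
    apply wp_eq
    cases x
    · exact sq_a
    · exact sq_b
    · exact sq_c
    · exact sq_d
    · exact sq_e
    · exact sq_f
    · exact sq_g
    · exact sq_h
    · exact sq_i
  simpa [wp_cons, wp_nil] using h

theorem two {P : Type*} [Group P] {p q : P} (hp : p * p = 1) (hq : q * q = 1) (h : p * q = q * p) :
    (p * q) ^ 2 = 1 := by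
  rw [pow_two]
  calc p * q * (p * q) = p * (q * p) * q := by simp only [mul_assoc]
    _ = p * (p * q) * q := by rw [h]
    _ = (p * p) * (q * q) := by simp only [mul_assoc]
    _ = 1 := by rw [hp, hq, one_mul]

theorem three {P : Type*} [Group P] {p q : P} (hp : p * p = 1) (hq : q * q = 1)
    (h : p * q * p = q * p * q) : (p * q) ^ 3 = 1 := by
  rw [pow_succ, pow_two]
  calc p * q * (p * q) * (p * q) = (p * q * p) * (q * p * q) := by simp only [mul_assoc]
    _ = (q * p * q) * (q * p * q) := by rw [h]
    _ = q * p * (q * q) * p * q := by simp only [mul_assoc]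
    _ = q * (p * p) * q := by rw [hq]; simp only [mul_assoc, mul_one]
    _ = 1 := by rw [hp, mul_one, hq]

theorem f_two {x y : Spor.Fi22.Gen} (h : ceq [x, y] [y, x] = true) : (f x * f y) ^ 2 = 1 := by
  have := wp_eq h
  simp only [wp_cons, wp_nil, mul_one] at this
  exact two (f_sq x) (f_sq y) this

theorem f_three {x y : Spor.Fi22.Gen} (h : ceq [x, y, x] [y, x, y] = true) : (f x * f y) ^ 3 = 1 := by
  have := wp_eq h
  simp only [wp_cons, wp_nil, mul_one, ← mul_assoc] at this
  exact three (f_sq x) (f_sq y) this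

theorem f_two' {x y : Spor.Fi22.Gen} (h : ceq [x, y] [y, x] = true) : (f y * f x) ^ 2 = 1 := by
  have := wp_eq h
  simp only [wp_cons, wp_nil, mul_one] at this
  exact two (f_sq y) (f_sq x) this.symm

theorem f_three' {x y : Spor.Fi22.Gen} (h : ceq [x, y, x] [y, x, y] = true) : (f y * f x) ^ 3 = 1 := by
  have := wp_eq h
  simp only [wp_cons, wp_nil, mul_one, ← mul_assoc] at this
  exact three (f_sq y) (f_sq x) this.symm

theorem cox_a (y : Spor.Fi22.Gen) : (f .a * f y) ^ Spor.coxLabel Spor.Fi22.edges .a y = 1 := by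
  cases y
  · exact (pow_one _).trans (f_sq _)
  · exact f_three p_ab
  · exact f_two p_ac
  · exact f_two p_ad
  · exact f_two p_ae
  · exact f_two p_af
  · exact f_two p_ag
  · exact f_two p_ah
  · exact f_two p_ai

theorem cox_b (y : Spor.Fi22.Gen) : (f .b * f y) ^ Spor.coxLabel Spor.Fi22.edges .b y = 1 := by
  cases y
  · exact f_three' p_ab
  · exact (pow_one _).trans (f_sq _)
  · exact f_three p_bc
  · exact f_two p_bd
  · exact f_two p_be
  · exact f_two p_bf
  · exact f_two p_bg
  · exact f_two p_bh
  · exact f_two p_bi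

theorem cox_c (y : Spor.Fi22.Gen) : (f .c * f y) ^ Spor.coxLabel Spor.Fi22.edges .c y = 1 := by
  cases y
  · exact f_two' p_ac
  · exact f_three' p_bc
  · exact (pow_one _).trans (f_sq _)
  · exact f_three p_cd
  · exact f_two p_ce
  · exact f_two p_cf
  · exact f_two p_cg
  · exact f_two p_ch
  · exact f_two p_ci

theorem cox_d (y : Spor.Fi22.Gen) : (f .d * f y) ^ Spor.coxLabel Spor.Fi22.edges .d y = 1 := by
  cases y
  · exact f_two' p_ad
  · exact f_two' p_bd
  · exact f_three' p_cd
  · exact (pow_one _).trans (f_sq _)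
  · exact f_three p_de
  · exact f_two p_df
  · exact f_two p_dg
  · exact f_three p_dh
  · exact f_two p_di

theorem cox_e (y : Spor.Fi22.Gen) : (f .e * f y) ^ Spor.coxLabel Spor.Fi22.edges .e y = 1 := by
  cases y
  · exact f_two' p_ae
  · exact f_two' p_be
  · exact f_two' p_ce
  · exact f_three' p_de
  · exact (pow_one _).trans (f_sq _)
  · exact f_three p_ef
  · exact f_two p_eg
  · exact f_two p_eh
  · exact f_two p_ei

theorem cox_f (y : Spor.Fi22.Gen) : (f .f * f y) ^ Spor.coxLabel Spor.Fi22.edges .f y = 1 := by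
  cases y
  · exact f_two' p_af
  · exact f_two' p_bf
  · exact f_two' p_cf
  · exact f_two' p_df
  · exact f_three' p_ef
  · exact (pow_one _).trans (f_sq _)
  · exact f_three p_fg
  · exact f_two p_fh
  · exact f_two p_fi

theorem cox_g (y : Spor.Fi22.Gen) : (f .g * f y) ^ Spor.coxLabel Spor.Fi22.edges .g y = 1 := by
  cases y
  · exact f_two' p_ag
  · exact f_two' p_bg
  · exact f_two' p_cg
  · exact f_two' p_dg
  · exact f_two' p_eg
  · exact f_three' p_fg
  · exact (pow_one _).trans (f_sq _)
  · exact f_two p_gh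
  · exact f_two p_gi

theorem cox_h (y : Spor.Fi22.Gen) : (f .h * f y) ^ Spor.coxLabel Spor.Fi22.edges .h y = 1 := by
  cases y
  · exact f_two' p_ah
  · exact f_two' p_bh
  · exact f_two' p_ch
  · exact f_three' p_dh
  · exact f_two' p_eh
  · exact f_two' p_fh
  · exact f_two' p_gh
  · exact (pow_one _).trans (f_sq _)
  · exact f_three p_hi

theorem cox_i (y : Spor.Fi22.Gen) : (f .i * f y) ^ Spor.coxLabel Spor.Fi22.edges .i y = 1 := by
  cases y
  · exact f_two' p_ai
  · exact f_two' p_bi
  · exact f_two' p_ci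
  · exact f_two' p_di
  · exact f_two' p_ei
  · exact f_two' p_fi
  · exact f_two' p_gi
  · exact f_three' p_hi
  · exact (pow_one _).trans (f_sq _)

theorem cox (x y : Spor.Fi22.Gen) : (f x * f y) ^ Spor.coxLabel Spor.Fi22.edges x y = 1 := by
  cases x
  · exact cox_a y
  · exact cox_b y
  · exact cox_c y
  · exact cox_d y
  · exact cox_e y
  · exact cox_f y
  · exact cox_g y
  · exact cox_h y
  · exact cox_i y

theorem rel_lift : ∀ r ∈ Spor.coxRelators Spor.Fi22.edges ∪ {r | r ∈ Spor.Fi22.extra}, FreeGroup.lift f r = 1 := by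
  refine cox_lift_eq_one f _ _ (fun x _ y _ => cox x y) ?_
  have h1 : wp spider ^ 10 = 1 := by rw [← wp_rep]; exact wp_eq x_spider
  have h2 : wp w7 ^ 9 = 1 := by rw [← wp_rep]; exact wp_eq x_w7
  have h3 : wp w7' ^ 9 = 1 := by rw [← wp_rep]; exact wp_eq x_w7'
  intro r hr
  simp only [Spor.Fi22.extra, List.mem_cons, List.not_mem_nil, or_false] at hr
  rcases hr with rfl | rfl | rfl
  · simpa only [map_pow, map_mul, FreeGroup.lift_apply_of, spider, wp_cons, wp_nil, mul_one, mul_assoc] using h1
  · simpa only [map_pow, map_mul, FreeGroup.lift_apply_of, w7, wp_cons, wp_nil, mul_one, mul_assoc] using h2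
  · simpa only [map_pow, map_mul, FreeGroup.lift_apply_of, w7', wp_cons, wp_nil, mul_one, mul_assoc] using h3

/-- The permutation representation of `Fi22` on 3510 points. -/
noncomputable def φ : Spor.Fi22 →* Equiv.Perm ℕ := PresentedGroup.toGroup (f := f) rel_lift

theorem φ_of (x : Spor.Fi22.Gen) : φ (PresentedGroup.of x) = (net x).perm :=
  PresentedGroup.toGroup.of rel_lift

end Cfsg.Agent.Fischer.Fi22Perm
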