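import Cfsg.Prelude.Def_Spor_Fi22
import Cfsg.Agent.SporadicRecognition.CoxPres

/-!
The presented Fischer group `Fi22`: numbering of the generators (`a, …, i = 0, …, 8`) and the relator words,
in the form used by `CosetCert`.
-/

set_option autoImplicit false
set_option maxRecDepth 100000

namespace Cfsg.Agent.Fischer.Fi22Rel

open Cfsg.Agent.SporadicRecognition.CosetCert Cfsg.Agent.SporadicRecognition.CosetCertHyp
  Cfsg.Agent.SporadicRecognition.CosetChain Cfsg.Agent.SporadicRecognition.CoxPres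

/-- numbering of the generators -/
def gn : Nat → Spor.Fi22.Gen
  | 0 => .a
  | 1 => .b
  | 2 => .c
  | 3 => .d
  | 4 => .e
  | 5 => .f
  | 6 => .g
  | 7 => .h
  | _ => .i

/-- the generators in the presented group -/
def sg (n : Nat) : Spor.Fi22 := PresentedGroup.of (gn n)

/-- squares, edges and commuting pairs -/
def cox : List (Nat × Nat × Nat) :=
  [(0,0,1),(1,1,1),(2,2,1),(3,3,1),(4,4,1),(5,5,1),(6,6,1),(7,7,1),(8,8,1),
   (0,1,3),(1,2,3),(2,3,3),(3,4,3),(4,5,3),(5,6,3),(3,7,3),(7,8,3),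
   (0,2,2),(0,3,2),(0,4,2),(0,5,2),(0,6,2),(0,7,2),(0,8,2),
   (1,3,2),(1,4,2),(1,5,2),(1,6,2),(1,7,2),(1,8,2),
   (2,4,2),(2,5,2),(2,6,2),(2,7,2),(2,8,2),
   (3,5,2),(3,6,2),(3,8,2),
   (4,6,2),(4,7,2),(4,8,2),
   (5,7,2),(5,8,2),(6,7,2),(6,8,2)]

/-- the spider relator and the two `E₇` relators -/
def extras : List Ex :=
  [.p (.m (.m (.m (.m (.m (.m (.m (.m (.g 3) (.g 2)) (.g 1)) (.g 3)) (.g 4)) (.g 5)) (.g 3)) (.g 7)) (.g 8)) 10,
   .p (.m (.m (.m (.m (.m (.m (.g 0) (.g 1)) (.g 2)) (.g 3)) (.g 4)) (.g 5)) (.g 7)) 9,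
   .p (.m (.m (.m (.m (.m (.m (.g 1) (.g 2)) (.g 3)) (.g 4)) (.g 5)) (.g 6)) (.g 7)) 9]

def exs : List Ex := coxEx cox ++ extras

theorem exs_rel : ∀ e ∈ exs, e.val sg = 1 := by
  intro e he
  rcases List.mem_append.mp he with h | h
  · exact coxEx_rel gn cox (by decide) e h
  · refine extra_rel gn e ?_
    simp only [extras, List.mem_cons, List.not_mem_nil, or_false] at h
    rcases h with rfl | rfl | rfl
    · exact .head _
    · exact .tail _ (.head _)
    · exact .tail _ (.tail _ (.head _))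

theorem sq (x : Nat) (hx : x < 9) : sg x * sg x = 1 := by
  have h : ∀ x < 9, Ex.p (Ex.m (.g x) (.g x)) 1 ∈ exs := by
    intro x hx
    interval_cases x <;> simp [exs, coxEx, cox]
  have := exs_rel _ (h x hx)
  simpa [Ex.val] using this

/-- the relator words -/
def rels : List (List Nat) := exs.map (Ex.word fun x => x)

theorem lt_g (x k : Nat) : (Ex.g x).lt k ↔ x < k := Iff.rfl

theorem lt_m (a b : Ex) (k : Nat) : (Ex.m a b).lt k ↔ a.lt k ∧ b.lt k := Iff.rfl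

theorem lt_p (a : Ex) (n k : Nat) : (Ex.p a n).lt k ↔ a.lt k := Iff.rfl

theorem exs_lt : ∀ e ∈ exs, e.lt 9 := by
  simp [exs, coxEx, cox, extras, lt_g, lt_m, lt_p]

theorem rels_ev : ∀ r ∈ rels, ev sg r = 1 := by
  intro r hr
  obtain ⟨e, he, rfl⟩ := List.mem_map.mp hr
  rw [Ex.ev_word (k := 9) (fun x hx => ⟨hx, sq x hx⟩) e (exs_lt e he)]
  exact exs_rel e he

theorem closure_top : Subgroup.closure (sg '' {x | x < 9}) = ⊤ := by
  rw [eq_top_iff, ← PresentedGroup.closure_range_of]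
  apply Subgroup.closure_mono
  rintro _ ⟨x, rfl⟩
  have : ∃ n < 9, gn n = x := by
    cases x
    · exact ⟨0, by decide, rfl⟩
    · exact ⟨1, by decide, rfl⟩
    · exact ⟨2, by decide, rfl⟩
    · exact ⟨3, by decide, rfl⟩
    · exact ⟨4, by decide, rfl⟩
    · exact ⟨5, by decide, rfl⟩
    · exact ⟨6, by decide, rfl⟩
    · exact ⟨7, by decide, rfl⟩
    · exact ⟨8, by decide, rfl⟩
  obtain ⟨n, hn, rfl⟩ := this
  exact ⟨n, hn, rfl⟩

end Cfsg.Agent.Fischer.Fi22Rel
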