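import Cfsg.Prelude.Def_Spor_Fi22
import Cfsg.Agent.Lib.PermNetOrbit
import Cfsg.Agent.Fischer.Fi22Nets

/-!
The permutation representation of the presented `Fi₂₂` on 14080 points (cosets of `⟨b, …, i⟩`, point `0`).
-/

set_option autoImplicit false
set_option maxRecDepth 100000

namespace Cfsg.Agent.Fischer.Fi22Rep

open Cfsg.Spor Cfsg.Agent.Lib.PermNet Cfsg.Agent.Lib.PermNetOrbit Cfsg.Agent.Fischer.Fi22Nets

/-- The network of a generator. -/
noncomputable def net : Fi22.Gen → Net
  | .a => gaN
  | .b => gbN
  | .c => gcN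
  | .d => gdN
  | .e => geN
  | .f => gfN
  | .g => ggN
  | .h => ghN
  | .i => giN

theorem net_ok (x : Fi22.Gen) : (net x).ok (2 ^ 14) = true := by
  cases x <;> decide +kernel

/-- The generators. -/
def gens : List Fi22.Gen := [.a, .b, .c, .d, .e, .f, .g, .h, .i]

theorem mem_gens (x : Fi22.Gen) : x ∈ gens := by cases x <;> decide

/-- One Coxeter relator. -/
noncomputable def pairB (x y : Fi22.Gen) : Bool :=
  checkEq 14 (wpow [net x, net y] (coxLabel Fi22.edges x y)) []

/-- The Coxeter relators of a row. -/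
noncomputable def rowB (x : Fi22.Gen) : Bool := gens.all fun y => pairB x y

theorem row_a : rowB .a = true := by decide +kernel
theorem row_b : rowB .b = true := by decide +kernel
theorem row_c : rowB .c = true := by decide +kernel
theorem row_d : rowB .d = true := by decide +kernel
theorem row_e : rowB .e = true := by decide +kernel
theorem row_f : rowB .f = true := by decide +kernel
theorem row_g : rowB .g = true := by decide +kernel
theorem row_h : rowB .h = true := by decide +kernel
theorem row_i : rowB .i = true := by decide +kernel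

theorem row (x : Fi22.Gen) : rowB x = true := by
  cases x
  · exact row_a
  · exact row_b
  · exact row_c
  · exact row_d
  · exact row_e
  · exact row_f
  · exact row_g
  · exact row_h
  · exact row_i

/-- The word of networks. -/
noncomputable def nw (w : List Fi22.Gen) : List Net := w.map net

theorem nw_ok (w : List Fi22.Gen) : WOk (2 ^ 14) (nw w) := by
  intro L hL
  obtain ⟨x, _, rfl⟩ := List.mem_map.1 hL
  exact net_ok x

/-- The permutation of a generator. -/
noncomputable def f (x : Fi22.Gen) : Equiv.Perm ℕ := (net x).perm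

theorem wperm_nw (w : List Fi22.Gen) : wperm (nw w) = (w.map f).prod := by
  rw [wperm, nw, List.map_map]; rfl

theorem pair_rel (x y : Fi22.Gen) : (f x * f y) ^ coxLabel Fi22.edges x y = 1 := by
  have h := List.all_eq_true.1 (row x) y (mem_gens y)
  have h1 := wperm_eq_of_checkEq (k := 14) (w' := [])
    (Cfsg.Agent.Lib.PermNetOrbit.WOk.wpow (nw_ok [x, y]) _) (WOk.nil _) h
  rw [wperm_nil, wperm_wpow] at h1
  change (wperm (nw [x, y])) ^ coxLabel Fi22.edges x y = 1 at h1
  rw [wperm_nw] at h1
  simpa using h1

theorem chk_spider : checkEq 14 (wpow (nw [.d, .c, .b, .d, .e, .f, .d, .h, .i]) 10) [] = true := by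
  decide +kernel

theorem chk_e7a : checkEq 14 (wpow (nw [.a, .b, .c, .d, .e, .f, .h]) 9) [] = true := by
  decide +kernel

theorem chk_e7b : checkEq 14 (wpow (nw [.b, .c, .d, .e, .f, .g, .h]) 9) [] = true := by
  decide +kernel

theorem extra_rel : ∀ r ∈ Fi22.extra, FreeGroup.lift f r = 1 := by
  intro r hr
  have key : ∀ (w : List Fi22.Gen) (m : ℕ), checkEq 14 (wpow (nw w) m) [] = true →
      (w.map f).prod ^ m = 1 := by
    intro w m h
    have h1 := wperm_eq_of_checkEq (k := 14) (w' := [])
      (Cfsg.Agent.Lib.PermNetOrbit.WOk.wpow (nw_ok w) m) (WOk.nil _) h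
    rwa [wperm_nil, wperm_wpow, wperm_nw] at h1
  rw [Fi22.extra, List.mem_cons, List.mem_cons, List.mem_cons] at hr
  rcases hr with rfl | rfl | rfl | hr
  · have := key _ _ chk_spider
    simpa [mul_assoc] using this
  · have := key _ _ chk_e7a
    simpa [mul_assoc] using this
  · have := key _ _ chk_e7b
    simpa [mul_assoc] using this
  · exact absurd hr (by simp)

/-- The permutation representation. -/
noncomputable def φ : Fi22 →* Equiv.Perm ℕ :=
  PresentedGroup.toGroup (f := f) (cox_lift_eq_one f Fi22.edges Fi22.extra (fun x _ y _ => pair_rel x y) extra_rel)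

theorem φ_of (x : Fi22.Gen) : φ (PresentedGroup.of x) = (net x).perm := PresentedGroup.toGroup.of _

/-- The words of the generators. -/
noncomputable def ws : List (List Net) := gens.map fun x => [net x]

theorem ws_ok : WsOk (2 ^ 14) ws := by
  intro w hw
  obtain ⟨x, _, rfl⟩ := List.mem_map.1 hw
  exact WOk.cons (net_ok x) (WOk.nil _)

theorem sat_all : Nat.beq (sat ws 30 (2 ^ 0)) (2 ^ 14080 - 1) = true := by decide +kernel

theorem transitive (p : ℕ) (hp : p < 14080) : ∃ g, φ g 0 = p := by
  have h : (sat ws 30 (2 ^ 0)).testBit p = true := by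
    rw [Nat.eq_of_beq_eq_true sat_all, Nat.testBit_two_pow_sub_one]
    simpa using hp
  obtain ⟨g, hg, h1⟩ := sat_point_spec (K := φ.range) ws_ok (by
    intro w hw
    obtain ⟨x, _, rfl⟩ := List.mem_map.1 hw
    refine ⟨PresentedGroup.of x, ?_⟩
    rw [φ_of]; simp) 30 h
  obtain ⟨x, rfl⟩ := hg
  exact ⟨x, h1⟩

theorem fix0 : (gens.tail.all fun x => Nat.beq ((net x).pt 0) 0) = true := by decide +kernel

theorem net_fix0 (x : Fi22.Gen) (hx : x ∈ gens.tail) : (net x).perm 0 = 0 := by
  rw [← Net.pt_eq (net_ok x)]
  exact Nat.eq_of_beq_eq_true (List.all_eq_true.1 fix0 x hx)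

end Cfsg.Agent.Fischer.Fi22Rep
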