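import Cfsg.Agent.Fischer.Fi22Rep
import Cfsg.Agent.Fischer.Index14080

/-!
The subgroup `⟨b, …, i⟩` of the presented `Fi₂₂`: index 14080, stabiliser of the point `0`.
-/

set_option autoImplicit false

namespace Cfsg.Agent.Fischer.Fi22Sub

open Cfsg.Spor Cfsg.Agent.Fischer.Fi22Rep Cfsg.Agent.Fischer.Index14080

/-- The generators by number. -/
def gen9 (k : Fin 9) : Fi22.Gen := gens.getD k.val .a

/-- The generators of the presented group by number. -/
def s9 (k : Fin 9) : Fi22 := PresentedGroup.of (gen9 k)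

/-- The subgroup `⟨b, …, i⟩`, as in the statements. -/
def H : Subgroup Fi22 := ((Subgroup.closure ({Fi22.b, Fi22.c, Fi22.d, Fi22.e, Fi22.f, Fi22.g, Fi22.h, Fi22.i} :
  Set (FreeGroup Fi22.Gen))).map (PresentedGroup.mk (coxRelators Fi22.edges ∪ {r | r ∈ Fi22.extra})))

theorem H_eq : H = Level.Hl s9 LB := by
  rw [H, MonoidHom.map_closure, Level.Hl]
  congr 1
  ext x
  constructor
  · rintro ⟨r, hr, rfl⟩
    simp only [Set.mem_insert_iff, Set.mem_singleton_iff] at hr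
    rcases hr with rfl | rfl | rfl | rfl | rfl | rfl | rfl | rfl
    · exact ⟨1, by show (1 : Fin 9) ∈ LB; decide, rfl⟩
    · exact ⟨2, by show (2 : Fin 9) ∈ LB; decide, rfl⟩
    · exact ⟨3, by show (3 : Fin 9) ∈ LB; decide, rfl⟩
    · exact ⟨4, by show (4 : Fin 9) ∈ LB; decide, rfl⟩
    · exact ⟨5, by show (5 : Fin 9) ∈ LB; decide, rfl⟩
    · exact ⟨6, by show (6 : Fin 9) ∈ LB; decide, rfl⟩
    · exact ⟨7, by show (7 : Fin 9) ∈ LB; decide, rfl⟩
    · exact ⟨8, by show (8 : Fin 9) ∈ LB; decide, rfl⟩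
  · rintro ⟨k, hk, rfl⟩
    have hk' : k ∈ LB := hk
    fin_cases k
    · exact absurd hk' (by decide)
    · exact ⟨Fi22.b, by simp, rfl⟩
    · exact ⟨Fi22.c, by simp, rfl⟩
    · exact ⟨Fi22.d, by simp, rfl⟩
    · exact ⟨Fi22.e, by simp, rfl⟩
    · exact ⟨Fi22.f, by simp, rfl⟩
    · exact ⟨Fi22.g, by simp, rfl⟩
    · exact ⟨Fi22.h, by simp, rfl⟩
    · exact ⟨Fi22.i, by simp, rfl⟩

theorem gen9_surj (x : Fi22.Gen) : ∃ k, gen9 k = x := by
  cases x
  · exact ⟨0, rfl⟩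
  · exact ⟨1, rfl⟩
  · exact ⟨2, rfl⟩
  · exact ⟨3, rfl⟩
  · exact ⟨4, rfl⟩
  · exact ⟨5, rfl⟩
  · exact ⟨6, rfl⟩
  · exact ⟨7, rfl⟩
  · exact ⟨8, rfl⟩

theorem closure_s9 : Subgroup.closure (Set.range s9) = ⊤ := by
  rw [← PresentedGroup.closure_range_of]
  congr 1
  ext x
  constructor
  · rintro ⟨k, rfl⟩; exact ⟨_, rfl⟩
  · rintro ⟨y, rfl⟩
    obtain ⟨k, rfl⟩ := gen9_surj y
    exact ⟨k, rfl⟩

theorem lab_eq : ∀ i j : Fin 9, coxLabel Fi22.edges (gen9 i) (gen9 j) = lab9 i j := by decide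

theorem mem_nodes (x : Fi22.Gen) : x ∈ coxNodes Fi22.edges := by cases x <;> decide

theorem relator_eq_one {r : FreeGroup Fi22.Gen} (h : r ∈ coxRelators Fi22.edges ∪ {r | r ∈ Fi22.extra}) :
    PresentedGroup.mk (coxRelators Fi22.edges ∪ {r | r ∈ Fi22.extra}) r = 1 :=
  PresentedGroup.one_of_mem h

theorem rels : Rels s9 where
  cox i j := by
    have h := relator_eq_one (Or.inl ⟨gen9 i, mem_nodes _, gen9 j, mem_nodes _, rfl⟩)
    rw [lab_eq, map_pow, map_mul] at h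
    exact h
  spider := by
    have h := relator_eq_one (r := (Fi22.d * Fi22.c * Fi22.b * Fi22.d * Fi22.e * Fi22.f * Fi22.d * Fi22.h *
      Fi22.i) ^ 10) (Or.inr (by simp [Fi22.extra]))
    rw [map_pow] at h
    simp only [map_mul] at h
    rw [spider9]
    simp only [Level.ev_cons, Level.ev_nil, mul_one]
    simp only [mul_assoc] at h
    exact h
  e7a := by
    have h := relator_eq_one (r := (Fi22.a * Fi22.b * Fi22.c * Fi22.d * Fi22.e * Fi22.f * Fi22.h) ^ 9)
      (Or.inr (by simp [Fi22.extra]))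
    rw [map_pow] at h
    simp only [map_mul] at h
    rw [Index14080.e7a]
    simp only [Level.ev_cons, Level.ev_nil, mul_one]
    simp only [mul_assoc] at h
    exact h

theorem index_bound : H.index ≠ 0 ∧ H.index ≤ 14080 := by
  rw [H_eq]; exact index_le rels closure_s9

theorem φ_fix (x : Fi22) (hx : x ∈ H) : φ x 0 = 0 := by
  rw [H_eq, Level.Hl] at hx
  induction hx using Subgroup.closure_induction with
  | mem x hx =>
    obtain ⟨k, hk, rfl⟩ := hx
    rw [s9, φ_of]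
    apply net_fix0
    have hk' : k ∈ LB := hk
    revert k
    decide
  | one => simp
  | mul x y _ _ hx hy => rw [map_mul, Equiv.Perm.mul_apply, hy, hx]
  | inv x _ hx =>
    rw [map_inv, Equiv.Perm.inv_eq_iff_eq]; exact hx.symm

theorem main : H.index = 14080 ∧ (∀ g, φ g 0 = 0 ↔ g ∈ H) ∧ (∀ g, φ g 0 < 14080) :=
  Cfsg.Agent.Lib.PermNetOrbit.index_eq_of_action H φ 14080 φ_fix transitive index_bound.2 index_bound.1

end Cfsg.Agent.Fischer.Fi22Sub
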