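import Cfsg.Agent.Fischer.Fi22Rel
import Cfsg.Agent.SporadicRecognition.FiAAll

/-!
The subgroup `H = ⟨a, c, d, e, f, g, h, i, (abcdeh)^5⟩` of the presented group `Fi22` has index at most 3510.
-/

set_option autoImplicit false
set_option maxRecDepth 100000

namespace Cfsg.Agent.Fischer.Fi22Upper3510

open Cfsg.Agent.SporadicRecognition Cfsg.Agent.SporadicRecognition.CosetCert
  Cfsg.Agent.SporadicRecognition.CosetCertHyp
  Cfsg.Agent.SporadicRecognition.CosetChain Cfsg.Agent.SporadicRecognition.CoxPres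
  Cfsg.Agent.Fischer.Fi22Rel

/-- the word `(abcdeh)^5` -/
def uw : List Nat :=
  [0,1,2,3,4,7,0,1,2,3,4,7,0,1,2,3,4,7,0,1,2,3,4,7,0,1,2,3,4,7]

/-- the words generating the subgroup -/
def subw : List (List Nat) := [[0],[2],[3],[4],[5],[6],[7],[8],uw]

theorem index_le (H : Subgroup Spor.Fi22) (hsub : ∀ s ∈ subw, ev sg s ∈ H) :
    H.index ≠ 0 ∧ H.index ≤ 3510 :=
  CosetCert.index_le FiAData.C _ (cut sg 9)
    (hyp_restr FiAData.C sg rels subw H
      (fun x hx => ⟨hx, sq x hx⟩) (fun r hr _ => rels_ev r hr)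
      (fun s hs _ => hsub s hs)
      (by decide +kernel)) FiAAll.part (by
        have : cut sg 9 '' {x | x < FiAData.C.k} = sg '' {x | x < 9} := image_cut sg 9
        rw [this, closure_top])

end Cfsg.Agent.Fischer.Fi22Upper3510
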