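import Cfsg.Agent.Fischer.Fi22Perm
import Cfsg.Agent.Fischer.Fi22Upper3510

/-!
The subgroup `H = ⟨a, c, d, e, f, g, h, i, (abcdeh)^5⟩` of the presented group `Fi22` has index 3510, it is the
stabiliser of the point `0` of the representation `φ` of `Fi22Perm`, and its orbits on the other cosets have sizes
693 and 2816.
-/

set_option autoImplicit false
set_option maxRecDepth 100000

namespace Cfsg.Agent.Fischer.Fi22Sub3510

open Cfsg Cfsg.Agent.Lib.PermNet Cfsg.Agent.Lib.PermNetOrbit Cfsg.Agent.Fischer.Fi22Nets3510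
  Cfsg.Agent.Fischer.Fi22Perm

/-- The generating words of the subgroup. -/
abbrev S : Set (FreeGroup Spor.Fi22.Gen) :=
  {Cfsg.Spor.Fi22.a, Cfsg.Spor.Fi22.c, Cfsg.Spor.Fi22.d, Cfsg.Spor.Fi22.e, Cfsg.Spor.Fi22.f, Cfsg.Spor.Fi22.g,
    Cfsg.Spor.Fi22.h, Cfsg.Spor.Fi22.i, (Cfsg.Spor.Fi22.a * Cfsg.Spor.Fi22.b * Cfsg.Spor.Fi22.c *
      Cfsg.Spor.Fi22.d * Cfsg.Spor.Fi22.e * Cfsg.Spor.Fi22.h) ^ 5}

/-- The quotient map. -/
noncomputable abbrev q : FreeGroup Spor.Fi22.Gen →* Spor.Fi22 :=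
  PresentedGroup.mk (Cfsg.Spor.coxRelators Cfsg.Spor.Fi22.edges ∪ {r | r ∈ Cfsg.Spor.Fi22.extra})

/-- The subgroup. -/
noncomputable abbrev H : Subgroup Spor.Fi22 := (Subgroup.closure S).map q

theorem H_eq : H = Subgroup.closure (q '' S) := MonoidHom.map_closure q S

theorem φ_q_of (x : Spor.Fi22.Gen) : φ (q (FreeGroup.of x)) = f x := φ_of x

theorem φ_q_u : φ (q ((Cfsg.Spor.Fi22.a * Cfsg.Spor.Fi22.b * Cfsg.Spor.Fi22.c *
      Cfsg.Spor.Fi22.d * Cfsg.Spor.Fi22.e * Cfsg.Spor.Fi22.h) ^ 5)) = uN.perm := by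
  rw [u_perm, map_pow, map_pow]
  simp only [map_mul, φ_q_of, w6, wp_cons, wp_nil, mul_one, mul_assoc]

/-- The words of the generators of `H`. -/
noncomputable def wsH : List (List Net) := [[aN], [cN], [dN], [eN], [fN], [gN], [hN], [iN], [uN]]

/-- The words of all generators. -/
noncomputable def wsG : List (List Net) := [[aN], [bN], [cN], [dN], [eN], [fN], [gN], [hN], [iN]]

theorem wsH_ok : WsOk (2 ^ 12) wsH := by
  intro w hw
  simp only [wsH, List.mem_cons, List.not_mem_nil, or_false] at hw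
  rcases hw with rfl | rfl | rfl | rfl | rfl | rfl | rfl | rfl | rfl
  · exact WOk.cons ok_a (WOk.nil _)
  · exact WOk.cons ok_c (WOk.nil _)
  · exact WOk.cons ok_d (WOk.nil _)
  · exact WOk.cons ok_e (WOk.nil _)
  · exact WOk.cons ok_f (WOk.nil _)
  · exact WOk.cons ok_g (WOk.nil _)
  · exact WOk.cons ok_h (WOk.nil _)
  · exact WOk.cons ok_i (WOk.nil _)
  · exact WOk.cons ok_u (WOk.nil _)

theorem wsG_ok : WsOk (2 ^ 12) wsG := by
  intro w hw
  simp only [wsG, List.mem_cons, List.not_mem_nil, or_false] at hw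
  rcases hw with rfl | rfl | rfl | rfl | rfl | rfl | rfl | rfl | rfl
  · exact WOk.cons ok_a (WOk.nil _)
  · exact WOk.cons ok_b (WOk.nil _)
  · exact WOk.cons ok_c (WOk.nil _)
  · exact WOk.cons ok_d (WOk.nil _)
  · exact WOk.cons ok_e (WOk.nil _)
  · exact WOk.cons ok_f (WOk.nil _)
  · exact WOk.cons ok_g (WOk.nil _)
  · exact WOk.cons ok_h (WOk.nil _)
  · exact WOk.cons ok_i (WOk.nil _)

theorem wperm_one (L : Net) : wperm [L] = L.perm := by rw [wperm_cons, wperm_nil, mul_one]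

/-- Every generator of `H` acts as a word of `wsH`. -/
theorem S_wsH : ∀ g ∈ q '' S, ∃ w ∈ wsH, wperm w = φ g := by
  rintro _ ⟨x, hx, rfl⟩
  simp only [S, Set.mem_insert_iff, Set.mem_singleton_iff] at hx
  rcases hx with rfl | rfl | rfl | rfl | rfl | rfl | rfl | rfl | rfl
  · exact ⟨[aN], .head _, by rw [φ_q_of, wperm_one]; rfl⟩
  · exact ⟨[cN], .tail _ (.head _), by rw [φ_q_of, wperm_one]; rfl⟩
  · exact ⟨[dN], .tail _ (.tail _ (.head _)), by rw [φ_q_of, wperm_one]; rfl⟩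
  · exact ⟨[eN], .tail _ (.tail _ (.tail _ (.head _))), by rw [φ_q_of, wperm_one]; rfl⟩
  · exact ⟨[fN], .tail _ (.tail _ (.tail _ (.tail _ (.head _)))), by rw [φ_q_of, wperm_one]; rfl⟩
  · exact ⟨[gN], .tail _ (.tail _ (.tail _ (.tail _ (.tail _ (.head _))))), by rw [φ_q_of, wperm_one]; rfl⟩
  · exact ⟨[hN], .tail _ (.tail _ (.tail _ (.tail _ (.tail _ (.tail _ (.head _)))))), by
      rw [φ_q_of, wperm_one]; rfl⟩
  · exact ⟨[iN], .tail _ (.tail _ (.tail _ (.tail _ (.tail _ (.tail _ (.tail _ (.head _))))))), by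
      rw [φ_q_of, wperm_one]; rfl⟩
  · exact ⟨[uN], .tail _ (.tail _ (.tail _ (.tail _ (.tail _ (.tail _ (.tail _ (.tail _ (.head _)))))))), by
      rw [φ_q_u, wperm_one]⟩

theorem mem_q (x : FreeGroup Spor.Fi22.Gen) (hx : x ∈ S) : q x ∈ q '' S := ⟨x, hx, rfl⟩

/-- Every word of `wsH` comes from a generator of `H`. -/
theorem wsH_S : ∀ w ∈ wsH, ∃ g ∈ q '' S, wperm w = φ g := by
  intro w hw
  simp only [wsH, List.mem_cons, List.not_mem_nil, or_false] at hw
  rcases hw with rfl | rfl | rfl | rfl | rfl | rfl | rfl | rfl | rfl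
  · exact ⟨q Spor.Fi22.a, mem_q _ (by simp [S]), by rw [φ_q_of, wperm_one]; rfl⟩
  · exact ⟨q Spor.Fi22.c, mem_q _ (by simp [S]), by rw [φ_q_of, wperm_one]; rfl⟩
  · exact ⟨q Spor.Fi22.d, mem_q _ (by simp [S]), by rw [φ_q_of, wperm_one]; rfl⟩
  · exact ⟨q Spor.Fi22.e, mem_q _ (by simp [S]), by rw [φ_q_of, wperm_one]; rfl⟩
  · exact ⟨q Spor.Fi22.f, mem_q _ (by simp [S]), by rw [φ_q_of, wperm_one]; rfl⟩
  · exact ⟨q Spor.Fi22.g, mem_q _ (by simp [S]), by rw [φ_q_of, wperm_one]; rfl⟩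
  · exact ⟨q Spor.Fi22.h, mem_q _ (by simp [S]), by rw [φ_q_of, wperm_one]; rfl⟩
  · exact ⟨q Spor.Fi22.i, mem_q _ (by simp [S]), by rw [φ_q_of, wperm_one]; rfl⟩
  · exact ⟨q ((Cfsg.Spor.Fi22.a * Cfsg.Spor.Fi22.b * Cfsg.Spor.Fi22.c *
      Cfsg.Spor.Fi22.d * Cfsg.Spor.Fi22.e * Cfsg.Spor.Fi22.h) ^ 5), mem_q _ (by simp [S]), by
      rw [φ_q_u, wperm_one]⟩

theorem fix0 : fixB wsH 0 = true := by decide +kernel

theorem H_fix (h : Spor.Fi22) (hh : h ∈ H) : φ h 0 = 0 := by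
  rw [H_eq] at hh
  induction hh using Subgroup.closure_induction with
  | mem x hx =>
    obtain ⟨w, hw, h⟩ := S_wsH x hx
    rw [← h]
    exact fixB_spec wsH_ok fix0 w hw
  | one => simp
  | mul x y _ _ hx hy => rw [map_mul, Equiv.Perm.mul_apply, hy, hx]
  | inv x _ hx => rw [map_inv, Equiv.Perm.inv_eq_iff_eq, hx]

theorem sat_all : Nat.beq (sat wsG 6 (2 ^ 0)) (2 ^ 3510 - 1) = true := by decide +kernel

theorem transitive (p : ℕ) (hp : p < 3510) : ∃ g, φ g 0 = p := by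
  have h : (sat wsG 6 (2 ^ 0)).testBit p = true := by
    rw [Nat.eq_of_beq_eq_true sat_all, Nat.testBit_two_pow_sub_one]
    simpa using hp
  obtain ⟨g, hg, h1⟩ := sat_point_spec (K := φ.range) wsG_ok (by
    intro w hw
    simp only [wsG, List.mem_cons, List.not_mem_nil, or_false] at hw
    rcases hw with rfl | rfl | rfl | rfl | rfl | rfl | rfl | rfl | rfl <;> rw [wperm_one]
    · exact ⟨_, φ_of .a⟩
    · exact ⟨_, φ_of .b⟩
    · exact ⟨_, φ_of .c⟩
    · exact ⟨_, φ_of .d⟩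
    · exact ⟨_, φ_of .e⟩
    · exact ⟨_, φ_of .f⟩
    · exact ⟨_, φ_of .g⟩
    · exact ⟨_, φ_of .h⟩
    · exact ⟨_, φ_of .i⟩) 6 h
  obtain ⟨x, rfl⟩ := hg
  exact ⟨x, h1⟩

open Cfsg.Agent.SporadicRecognition.CosetCert Cfsg.Agent.Fischer.Fi22Rel in
theorem sub_mem : ∀ s ∈ Fi22Upper3510.subw, ev sg s ∈ H := by
  have h1 : ∀ x : Spor.Fi22.Gen, FreeGroup.of x ∈ S → (PresentedGroup.of x : Spor.Fi22) ∈ H :=
    fun x hx => ⟨_, Subgroup.subset_closure hx, rfl⟩
  intro s hs
  simp only [Fi22Upper3510.subw, List.mem_cons, List.not_mem_nil, or_false] at hs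
  rcases hs with rfl | rfl | rfl | rfl | rfl | rfl | rfl | rfl | rfl
  · rw [ev_cons, ev_nil, mul_one]; exact h1 .a (by simp [S])
  · rw [ev_cons, ev_nil, mul_one]; exact h1 .c (by simp [S])
  · rw [ev_cons, ev_nil, mul_one]; exact h1 .d (by simp [S])
  · rw [ev_cons, ev_nil, mul_one]; exact h1 .e (by simp [S])
  · rw [ev_cons, ev_nil, mul_one]; exact h1 .f (by simp [S])
  · rw [ev_cons, ev_nil, mul_one]; exact h1 .g (by simp [S])
  · rw [ev_cons, ev_nil, mul_one]; exact h1 .h (by simp [S])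
  · rw [ev_cons, ev_nil, mul_one]; exact h1 .i (by simp [S])
  · have h : ev sg Fi22Upper3510.uw = q ((Cfsg.Spor.Fi22.a * Cfsg.Spor.Fi22.b * Cfsg.Spor.Fi22.c *
      Cfsg.Spor.Fi22.d * Cfsg.Spor.Fi22.e * Cfsg.Spor.Fi22.h) ^ 5) := by
      simp only [Fi22Upper3510.uw, ev_cons, ev_nil, mul_one, map_mul, pow_succ, pow_zero, one_mul,
        mul_assoc]
      rfl
    rw [h]
    exact ⟨_, Subgroup.subset_closure (by simp [S]), rfl⟩

theorem main : H.index = 3510 ∧ (∀ g, φ g 0 = 0 ↔ g ∈ H) ∧ (∀ g, φ g 0 < 3510) :=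
  index_eq_of_action H φ 3510 H_fix transitive (Fi22Upper3510.index_le H sub_mem).2
    (Fi22Upper3510.index_le H sub_mem).1

/-- The suborbit of size 693. -/
noncomputable def U1 : ℕ := 0x180000000000000000000000000000900c000000000000200000000000009000000000000009000e000000000000000000050000000000000004b0000000000000026000380000000000000000000120068000000000000001cd80000000000201b0003000000000000009000000003401e1000000000000003bc00000000203c00100000000000000000d800000007803c170000000000000fc00000303c002000000000200000180003e000001e01e83e0000010000f800060f000000020000007000003c0007c0003c0fc03e00018047801c7800000000380000807c0003c01e00787e003c00e09e0670000000000004780008183c00f03c0e7f0021e06271b800000000000000000303c00c00f03c0e38efc0871973600000002180000000000001c0781e071c739be31cdef0000000020718800000000000fc1c71ce6df9bbf8000000010020e3994000000001fc739b7fbff00000000030003c736e0000000fcdbffff8000000014007e6ff000003efffff0000000f803efe0000ffff800001f00ff8003ffc0001d81fc00fe000760f8078007d0703003f430403ff42007fc801ff007c070440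

/-- The suborbit of size 2816. -/
noncomputable def U2 : ℕ := 2 ^ 3510 - 2 - U1

theorem sat1 : Nat.beq (sat wsH 4 (2 ^ 6)) U1 = true := by decide +kernel
theorem sat2 : Nat.beq (sat wsH 5 (2 ^ 1)) U2 = true := by decide +kernel
theorem closed1 : closedB wsH U1 = true := by decide +kernel
theorem closed2 : closedB wsH U2 = true := by decide +kernel
theorem tb1 : tb U1 6 = true := by decide +kernel
theorem tb2 : tb U2 1 = true := by decide +kernel
theorem small1 : Nat.beq (Nat.shiftRight U1 (Nat.pow 2 12)) 0 = true := by decide +kernel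
theorem small2 : Nat.beq (Nat.shiftRight U2 (Nat.pow 2 12)) 0 = true := by decide +kernel
theorem pc1 : Nat.beq (pc 12 U1) 693 = true := by decide +kernel
theorem pc2 : Nat.beq (pc 12 U2) 2816 = true := by decide +kernel

theorem pt_b : (bN).pt 0 = 1 := by decide +kernel
theorem pt_bcab : ptWord [bN, cN, aN, bN] 0 = 6 := by decide +kernel

theorem φ_b : φ (PresentedGroup.of .b) 0 = 1 := by
  rw [φ_of, ← pt_b, Net.pt_eq ok_b]; rfl

/-- The element `bcab`. -/
noncomputable def g1 : Spor.Fi22 :=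
  PresentedGroup.of .b * (PresentedGroup.of .c * (PresentedGroup.of .a * PresentedGroup.of .b))

theorem φ_g1 : φ g1 0 = 6 := by
  have h := ptWord_eq (wok [.b, .c, .a, .b]) 0
  have h2 : ptWord (([.b, .c, .a, .b] : List Spor.Fi22.Gen).map net) 0 = 6 := pt_bcab
  rw [h2] at h
  rw [h, g1, map_mul, map_mul, map_mul, φ_of, φ_of, φ_of]
  simp only [List.map_cons, List.map_nil, wperm_cons, wperm_nil, mul_one]

theorem orbit1 : {p : ℕ | ∃ x ∈ H, φ x 6 = p} = {p | U1.testBit p = true} := by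
  rw [H_eq]
  exact orbit_closure_eq φ (q '' S) wsH_ok S_wsH wsH_S sat1 closed1 tb1

theorem orbit2 : {p : ℕ | ∃ x ∈ H, φ x 1 = p} = {p | U2.testBit p = true} := by
  rw [H_eq]
  exact orbit_closure_eq φ (q '' S) wsH_ok S_wsH wsH_S sat2 closed2 tb2

theorem ncard1 : (MulAction.orbit H ((g1 : Spor.Fi22) : Spor.Fi22 ⧸ H)).ncard = 693 := by
  rw [ncard_orbit_quotient H H φ main.2.1, φ_g1, orbit1]
  exact ncard_testBit small1 pc1

theorem ncard2 : (MulAction.orbit H (((PresentedGroup.of .b : Spor.Fi22)) : Spor.Fi22 ⧸ H)).ncard = 2816 := by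
  rw [ncard_orbit_quotient H H φ main.2.1, φ_b, orbit2]
  exact ncard_testBit small2 pc2

end Cfsg.Agent.Fischer.Fi22Sub3510
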