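import Cfsg.Agent.Fischer.Fi22U3Data

set_option autoImplicit false
set_option maxRecDepth 100000

namespace Cfsg.Agent.Fischer.Fi22U3Chk0

open Cfsg.Agent.SporadicRecognition.CosetCert Cfsg.Agent.Fischer.Fi22U3Data

theorem c0 : Part C 0 28 28 := runChunk_sound C 28 (by decide +kernel : runChunk C 10 1023 0x402009836ce135cc02006830080204c0310e9338c0190cb328c43006830cc2300803005a364d836ce135cc02008010080218c5310c01a0c3308c1300883008019cc73008530091300923006233cc43006830cc2304c0320c02006731cc63008d330c0200402008a320c02006731cc6314cd330c02006432cc0294d5350c0258c0198cd330c02006432cca38cd1340c020040200a3344d030080188cf3005a364d8300a130080168d9360c0200973009f378dd370e030040168d9360db384d730095350d3358c010080244d0348c01008f334cc338c01008b328c8324c010087318c5310c010083308c1300c55008450d42505405 1 1 0 0 28 = 29)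

theorem all : Part C 0 28 28 := c0

end Cfsg.Agent.Fischer.Fi22U3Chk0
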