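import Cfsg.Agent.SporadicRecognition.CosetCert

set_option autoImplicit false
set_option maxRecDepth 100000

namespace Cfsg.Agent.Fischer.Fi22U3Data

open Cfsg.Agent.SporadicRecognition.CosetCert

noncomputable def tree : Tr := (.N 16 (.L 0xfffb541ee6ccd6b834c1a20eb24fffb23d8dee925f632bdbe2c4d3fffae396dcb4e6d8af39618bae1fffab3555acf0525abb551ac2f3fffa8b14189ec607a5a965c9cb2fffa52d2168eb536a2a52569ac2fff9ea111486a42526310548096fff9b18f127693a4a32ce4e7ea6fff9f28d1066832418a0d505e60fff9414b4e5872b3971ce125476fff9ba498c4a6243139888a6081fff949c80a3e52128e108cc3c52fff8d106483641518e946082e43fff898c5061c2162090c4462034fff86881c21e30c105882841225fff83042040a10408184082021f) (.L 0xfffdc5f0357b8c3ddf72ef975c6fffe16ac6f6fbc4e5b66d3767b5fffe0eeff961aabbd7eabb55ba3fffd4e68eb559a8cdaee9ed4b95fffce5287179ca0c51627f13d86fffdcf2cb72d4acd4dd666f3174fffca5a3a52b693b495a9b32335fffc6569330f18dacd5e2e51354fffcee21292f786a40c61690742fffbfcdea10137e9becdf272165fffbc4a3ece6f7993bca2aaed04fffb945c631156c74151c1edd13))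

noncomputable def wtree : WT := (.N 21 (.N 10 (.N 5 (.N 2 (.N 1 (.L 0 [5,0,5]) (.L 1 [5,1,5])) (.N 3 (.L 2 [5,2,5]) (.N 4 (.L 3 [5,3,5]) (.L 6 [5,6,5])))) (.N 7 (.N 6 (.L 0 [4,0,4]) (.L 1 [4,1,4])) (.N 8 (.L 2 [4,2,4]) (.N 9 (.L 6 [4,6,4]) (.L 5 [4,5,4,5,4]))))) (.N 15 (.N 12 (.N 11 (.L 0 [3,0,3]) (.L 1 [3,1,3])) (.N 13 (.L 5 [3,5,3]) (.N 14 (.L 6 [3,6,3]) (.L 4 [3,4,3,4,3])))) (.N 18 (.N 16 (.L 0 [2,0,2]) (.N 17 (.L 4 [2,4,2]) (.L 5 [2,5,2]))) (.N 19 (.L 3 [2,3,2,3,2]) (.N 20 (.L 3 [1,3,1]) (.L 4 [1,4,1])))))) (.N 31 (.N 26 (.N 23 (.N 22 (.L 5 [1,5,1]) (.L 2 [1,2,1,2,1])) (.N 24 (.L 0 [6,0,6]) (.N 25 (.L 3 [6,3,6]) (.L 4 [6,4,6])))) (.N 28 (.N 27 (.L 5 [6,5,6]) (.L 2 [6,2,6,2,6])) (.N 29 (.L 2 [0,2,0]) (.N 30 (.L 3 [0,3,0]) (.L 4 [0,4,0]))))) (.N 36 (.N 33 (.N 32 (.L 5 [0,5,0]) (.L 1 [0,1,0,1,0]))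 (.N 34 (.L 1 [6,1,6]) (.N 35 (.L 1 [2,1,2,1,2]) (.L 6 [2,6,2,6,2])))) (.N 39 (.N 37 (.L 2 [3,2,3,2,3]) (.N 38 (.L 6 [1,6,1]) (.L 0 [1,0,1,0,1]))) (.N 40 (.L 3 [4,3,4,3,4]) (.N 41 (.L 4 [5,4,5,4,5]) (.L 5 [4,3,2,1,0,6,5,4,3,2,1,0,6,5,4,3,2,1,0,6,5,4,3,2,1,0,6,5,4,3,2,1,0,6,5,4,3,2,1,0,6,5,4,3,2,1,0,6,5,4,3,2,1,0,6,5,4,3,2,1,0,6])))))))

noncomputable def stree : ST := (.N 3 (.N 1 (.L 0 [] []) (.N 2 (.L 1 [] []) (.L 2 [] []))) (.N 4 (.L 3 [] []) (.N 5 (.L 4 [] []) (.L 6 [] []))))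

noncomputable def C : Cert where
  data := tree
  lm := 15
  rb := 108
  fb := 13
  mask := 8191
  B := 32
  k := 7
  N := 28
  inv := fun x => x
  words := wtree
  subs := stree

def rels : List (List Nat) := [[0,2,0,2], [0,3,0,3], [0,4,0,4], [0,5,0,5], [0,6,0,6], [1,3,1,3], [1,4,1,4], [1,5,1,5], [1,6,1,6], [2,4,2,4], [2,5,2,5], [3,5,3,5], [3,6,3,6], [4,6,4,6], [5,6,5,6], [0,1,0,1,0,1], [1,2,1,2,1,2], [2,3,2,3,2,3], [2,6,2,6,2,6], [3,4,3,4,3,4], [4,5,4,5,4,5], [0,1,2,3,4,5,6,0,1,2,3,4,5,6,0,1,2,3,4,5,6,0,1,2,3,4,5,6,0,1,2,3,4,5,6,0,1,2,3,4,5,6,0,1,2,3,4,5,6,0,1,2,3,4,5,6,0,1,2,3,4,5,6]]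

def subw : List (List Nat) := [[0], [1], [2], [3], [4], [6]]

end Cfsg.Agent.Fischer.Fi22U3Data
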