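import Cfsg.Agent.Fischer.Fi22U4Data

set_option autoImplicit false
set_option maxRecDepth 100000

namespace Cfsg.Agent.Fischer.Fi22U4Chk0

open Cfsg.Agent.SporadicRecognition.CosetCert Cfsg.Agent.Fischer.Fi22U4Data

theorem c0 : Part C 0 27 27 := runChunk_sound C 27 (by decide +kernel : runChunk C 9 511 0x3a601a9d0e6723d180802d361acf069301005468300c0ec6020138c0303b1c4de6020114c8793009cc0303b1c4de6e30124ee601010080493b98054683d1ecc02026180b47b30080804b3198080403e180466230980f8601d1ecc02d361accc6020164c02023194c87930080b0602010040483c1a4ee6010120c0202b1809e6e300c0c040279b8c0401a9d0e672300c0ec71379b8c040200b4d86b30124c040151a0cc6532180802731988c2603010048a35128540a02 1 1 0 0 27 = 28)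

theorem all : Part C 0 27 27 := c0

end Cfsg.Agent.Fischer.Fi22U4Chk0
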