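import Cfsg.Agent.SporadicRecognition.CosetCert

set_option autoImplicit false
set_option maxRecDepth 100000

namespace Cfsg.Agent.Fischer.Fi22U4Data

open Cfsg.Agent.SporadicRecognition.CosetCert

noncomputable def tree : Tr := (.N 16 (.L 0xfffae416decb25982ec15da1fff557ad4151ea6f567a8b03ffe9ce50725ad3dcc114d71fffd25a90c5f8a535156b101fffa1b11da84c446202949e3fff3f59f2931c7494669e2cbffe72a3d59c28d5082c37517ffcb8e6883249dacc526095fff9414cd25a636515a0a90bfff2f491149ce4c7253921d3ffe384203162084c3e61e32fffca504671720d9468a3253fff8e985483051218b105085fff101878c3862640c1088c7ffe1620a104882041a306087ffc14208103081040420e2f) (.L 0x1fffa1dce6a8b741b9fdcf6d3fff35a9ddcb666f533a98d1fffe57327997d48625332592fffc4da3f11d891cc6de2f0bfff82a43de1af1178cc42d57fff1587fb3f5a06cf9480b0fffdda6f5579abdd5e2b0975fffc1ddd28eb47093ed9ce65fff77ab6cdbe6d716e9b950bffed326a93241c68d126789fffd8a2c715e6b64d85ccd23))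

noncomputable def wtree : WT := (.N 15 (.N 7 (.N 3 (.N 1 (.L 2 [0,2,0]) (.N 2 (.L 3 [0,3,0]) (.L 4 [0,4,0]))) (.N 5 (.N 4 (.L 5 [0,5,0]) (.L 3 [1,3,1])) (.N 6 (.L 4 [1,4,1]) (.L 5 [1,5,1])))) (.N 11 (.N 9 (.N 8 (.L 0 [1,0,1,0,1]) (.L 0 [2,0,2])) (.N 10 (.L 4 [2,4,2]) (.L 1 [2,1,2,1,2]))) (.N 13 (.N 12 (.L 0 [3,0,3]) (.L 1 [3,1,3])) (.N 14 (.L 2 [3,2,3,2,3]) (.L 0 [5,0,5]))))) (.N 22 (.N 18 (.N 16 (.L 1 [5,1,5]) (.N 17 (.L 4 [5,4,5]) (.L 2 [5,2,5,2,5]))) (.N 20 (.N 19 (.L 0 [4,0,4]) (.L 1 [4,1,4])) (.N 21 (.L 2 [4,2,4]) (.L 3 [4,3,4,3,4])))) (.N 26 (.N 24 (.N 23 (.L 3 [5,3,5]) (.L 3 [2,3,2,3,2])) (.N 25 (.L 5 [2,5,2,5,2]) (.L 2 [1,2,1,2,1]))) (.N 28 (.N 27 (.L 5 [3,5,3]) (.L 4 [3,4,3,4,3])) (.N 29 (.L 1 [0,1,0,1,0]) (.L 5 [4,5,4]))))))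

noncomputable def stree : ST := (.N 2 (.N 1 (.L 1 [] []) (.L 2 [] [])) (.N 3 (.L 3 [] []) (.N 4 (.L 4 [] []) (.L 5 [] []))))

noncomputable def C : Cert where
  data := tree
  lm := 15
  rb := 95
  fb := 13
  mask := 8191
  B := 32
  k := 6
  N := 27
  inv := fun x => x
  words := wtree
  subs := stree

def rels : List (List Nat) := [[0,2,0,2], [0,3,0,3], [0,4,0,4], [0,5,0,5], [1,3,1,3], [1,4,1,4], [1,5,1,5], [2,4,2,4], [3,5,3,5], [4,5,4,5], [0,1,0,1,0,1], [1,2,1,2,1,2], [2,3,2,3,2,3], [2,5,2,5,2,5], [3,4,3,4,3,4]]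

def subw : List (List Nat) := [[1], [2], [3], [4], [5]]

end Cfsg.Agent.Fischer.Fi22U4Data
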