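import Cfsg.Agent.Fischer.Fi22U5Data

set_option autoImplicit false
set_option maxRecDepth 100000

namespace Cfsg.Agent.Fischer.Fi22U5Chk0

open Cfsg.Agent.SporadicRecognition.CosetCert Cfsg.Agent.Fischer.Fi22U5Data

theorem c0 : Part C 0 16 16 := runChunk_sound C 16 (by decide +kernel : runChunk C 9 511 0x3194e66730090c66f30080802230100806010104e26030148c02935180446138980c04010100a06c300b4d660201009e60171b0c02d359c0d06020080804830100526a33194c04730090c66020080802230980806021a8942a05 1 1 0 0 16 = 17)

theorem all : Part C 0 16 16 := c0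

end Cfsg.Agent.Fischer.Fi22U5Chk0
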