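import Cfsg.Agent.SporadicRecognition.CosetCert

set_option autoImplicit false
set_option maxRecDepth 100000

namespace Cfsg.Agent.Fischer.Fi22U5Data

open Cfsg.Agent.SporadicRecognition.CosetCert

noncomputable def tree : Tr := (.L 0xfff9f09d09b0a1096f0fff94f90f92f8ce9901fff80c8ae88d8ef84e4fff74a7cb86e7ed78d4fff82e72c6aa70c6ec2fff6087ad66b68b64b4fff76d5686cc5e95aa3fff5294a65495ca5073fff62b58a4884264681fff3e73854073c74e93fff3664c92e44483452fff2a53a72632c53262fff2242043062441c30fff1a31832851421e41fff0a11221021630e24fff0c2081061041021f)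

noncomputable def wtree : WT := (.N 10 (.N 5 (.N 2 (.N 1 (.L 0 [4,0,4]) (.L 2 [4,2,4])) (.N 3 (.L 3 [4,3,4]) (.N 4 (.L 3 [1,3,1]) (.L 4 [1,4,1,4,1])))) (.N 7 (.N 6 (.L 3 [0,3,0]) (.L 4 [0,4,0])) (.N 8 (.L 1 [0,1,0,1,0]) (.N 9 (.L 4 [2,4,2]) (.L 1 [2,1,2,1,2]))))) (.N 15 (.N 12 (.N 11 (.L 0 [2,0,2]) (.L 1 [3,1,3])) (.N 13 (.L 4 [3,4,3]) (.N 14 (.L 2 [3,2,3,2,3]) (.L 0 [1,0,1,0,1])))) (.N 17 (.N 16 (.L 2 [1,2,1,2,1]) (.L 0 [3,0,3])) (.N 18 (.L 1 [4,1,4,1,4]) (.N 19 (.L 3 [2,3,2,3,2]) (.L 2 [0,2,0]))))))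

noncomputable def stree : ST := (.N 2 (.N 1 (.L 0 [] []) (.L 1 [] [])) (.N 3 (.L 2 [] []) (.L 3 [] [])))

noncomputable def C : Cert where
  data := tree
  lm := 15
  rb := 76
  fb := 12
  mask := 4095
  B := 32
  k := 5
  N := 16
  inv := fun x => x
  words := wtree
  subs := stree

def rels : List (List Nat) := [[0,2,0,2], [0,3,0,3], [0,4,0,4], [1,3,1,3], [2,4,2,4], [3,4,3,4], [0,1,0,1,0,1], [1,2,1,2,1,2], [1,4,1,4,1,4], [2,3,2,3,2,3]]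

def subw : List (List Nat) := [[0], [1], [2], [3]]

end Cfsg.Agent.Fischer.Fi22U5Data
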