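import Cfsg.Agent.Fischer.Fi22U6Data

set_option autoImplicit false
set_option maxRecDepth 100000

namespace Cfsg.Agent.Fischer.Fi22U6Chk0

open Cfsg.Agent.SporadicRecognition.CosetCert Cfsg.Agent.Fischer.Fi22U6Data

theorem c0 : Part C 0 60 60 := runChunk_sound C 60 (by decide +kernel : runChunk C 8 255 0x830202010263020183022301730201028363020102022301024301020263020173020102530102028302230173430102026323010202010202010202836302010243010253010203010202020263230173020102530102028302230102430102020102030102330273430102020102020102021302630201836323010243010253010203010233027302010202010203010202130202230153010202010233020243010273430102020102030102021302632301530102030102331302020102010233020201020253010203010233130243010201020213020102030202230101023313020102030202010202020205 1 1 0 0 60 = 61)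

theorem all : Part C 0 60 60 := c0

end Cfsg.Agent.Fischer.Fi22U6Chk0
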