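import Cfsg.Agent.SporadicRecognition.CosetCert

set_option autoImplicit false
set_option maxRecDepth 100000

namespace Cfsg.Agent.Fischer.Fi22U6Data

open Cfsg.Agent.SporadicRecognition.CosetCert

noncomputable def tree : Tr := (.N 32 (.N 16 (.L 0xfffd59b475cb902c203fff4f64a8752690d62fffca064e652d83f54ffff4a609c824191971fffc7c542588cc221cffff3e546c53b507862fffcd921810e531a28bfff150cd1231445c93fffcc1126344c32d407fff0f08acf121084c3fffca4e0d0894d1d2cbfff203070b0c142820fffc1c119284470910ffff162410114201832fffc4070e180810b147fff08101430308041f) (.L 0xfffda1499adad594a8ffff93a995f675d8d40fffe3e9839989e604c3fff5f4e2e85c4a3a91fffdee45a462a8879cbfff55421a7596d6113fffdfe5544d44f82987fff503d34e7e95ba12fffd24d7a9130e778cffff768d210667d14d0fffdc214131ce2443cbfff3d2db616a8100e3fffda603c50e8b647c7fff5e754da382985e1fffcdca332575d3548bfff2f216dc32255db3)) (.N 48 (.L 0xfffece6d1df275b0943fffada2be5aa934371fffea67a48f336a790bfffc7d686da39a7e20fffe7a2c3d26e1c6d47fff9aae620c1d2f732fffe49fbcce5e39580ffff907ae7291a635d0fffeb2f8c7625cb8c87fffa8ba15bb5c621c2fffecb0847a8ad81683fff806abaf7d66c701fffdf1c7962aefa6b8bfff755e96e96a9e183fffe76c7489c96a0b47fff7159b159cb1bd92)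 (.L 0xffffbbcedefc3aeae43fffe7e3b3ce9df9360ffff8fae2d7bfcdfd03fffdce77b6dacfafc1ffff9bbd7e3672d5c43fffd4cb4b0e8ef3ef0ffff3b1dde72eee5ec7fffc8b787acac316c0ffff0b4c4b302be0e87fffbfceeeadbe6fab2ffff4f7baa7638b7a03fffcddadb1b49f5b81)))

noncomputable def wtree : WT := (.N 4 (.N 2 (.N 1 (.L 0 [2,0,2]) (.L 0 [3,0,3])) (.N 3 (.L 1 [0,1,0,1,0]) (.L 1 [3,1,3]))) (.N 6 (.N 5 (.L 2 [1,2,1,2,1]) (.L 3 [2,3,2,3,2])) (.N 7 (.L 2 [0,2,0]) (.N 8 (.L 3 [1,3,1]) (.L 3 [0,3,0])))))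

noncomputable def stree : ST := (.L 0 [] [])

noncomputable def C : Cert where
  data := tree
  lm := 15
  rb := 74
  fb := 14
  mask := 16383
  B := 64
  k := 4
  N := 60
  inv := fun x => x
  words := wtree
  subs := stree

def rels : List (List Nat) := [[0,2,0,2], [0,3,0,3], [1,3,1,3], [0,1,0,1,0,1], [1,2,1,2,1,2], [2,3,2,3,2,3]]

def subw : List (List Nat) := [[0]]

end Cfsg.Agent.Fischer.Fi22U6Data
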