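import Cfsg.Agent.Fischer.SuborbitCover
import Cfsg.Agent.Fischer.Fi23Final
import Cfsg.Agent.SporRec.Fi23Index

/-!
The class of the transposition `z0 = (bcdefgh)^9` in the presented group `Fi23` is a rank three class of
31671 3-transpositions, the centraliser of `z0` is `⟨a, …, i⟩`.
-/

set_option autoImplicit false
set_option linter.constructorNameAsVariable false
set_option maxRecDepth 100000

namespace Cfsg.Agent.Fischer.Fi23Class

open Cfsg Cfsg.Agent.Fischer.Abstract Cfsg.Agent.Lib.PermNet Cfsg.Agent.Fischer.Fi23Nets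
  Cfsg.Agent.Fischer.Fi23Rel Cfsg.Agent.Fischer.Fi23Hom Cfsg.Agent.Fischer.Fi23Orb
  Cfsg.Agent.Fischer.Fi23OrbData
  Cfsg.Agent.Fischer.Fi23Z Cfsg.Agent.Fischer.Fi23Final
open Cfsg.Spor Cfsg.Spor.Fi23

/-- The subgroup `⟨a, …, i⟩`. -/
abbrev K : Subgroup Fi23 := Cfsg.Agent.SporRec.Fi23Index.H

theorem gen_mem_K (x : Gen) (hx : x ≠ .j) : gen x ∈ K :=
  Subgroup.subset_closure ⟨x, hx, rfl⟩

theorem comm_z0 [Finite Fi23] (hle : Nat.card Fi23 ≤ 4089470473293004800) :
    ∀ h ∈ K, h * z0 = z0 * h := by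
  intro h hh
  have hgen : ∀ x : Gen, x ≠ .j → gen x * z0 = z0 * gen x := by
    intro x hx
    apply rho_injective hle
    rw [map_mul, map_mul]
    exact (z_comm x hx).symm
  have hK : K ≤ Subgroup.centralizer ({z0} : Set Fi23) := by
    refine (Subgroup.closure_le _).2 ?_
    rintro _ ⟨x, hx, rfl⟩
    rw [SetLike.mem_coe, Subgroup.mem_centralizer_singleton_iff]
    exact hgen x hx
  exact Subgroup.mem_centralizer_singleton_iff.1 (hK hh)

theorem z0_sq [Finite Fi23] (hle : Nat.card Fi23 ≤ 4089470473293004800) : z0 * z0 = 1 := by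
  apply rho_injective hle
  rw [map_mul, map_one]
  exact z_sq

theorem z0_braid [Finite Fi23] (hle : Nat.card Fi23 ≤ 4089470473293004800) :
    z0 * gen .j * z0 = gen .j * z0 * gen .j := by
  apply rho_injective hle
  simp only [map_mul]
  exact z_braid

theorem z0_ncomm : z0 * gen .j ≠ gen .j * z0 := by
  intro h
  have h1 : wperm [nz, nj] 0 = wperm [nj, nz] 0 := by
    have h2 := congrArg rho h
    rw [map_mul, map_mul, rho_z0, rho_gen] at h2
    rw [wperm_cons, wperm_cons, wperm_nil, wperm_cons, wperm_cons, wperm_nil, mul_one, mul_one]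
    exact congrArg (fun p : Equiv.Perm ℕ => p 0) h2
  rw [← ptWord_eq (WOk.cons ok_z (WOk.cons ok_j (WOk.nil _))),
    ← ptWord_eq (WOk.cons ok_j (WOk.cons ok_z (WOk.nil _)))] at h1
  have h4 := znj
  rw [h1, Nat.beq_refl] at h4
  exact Bool.noConfusion h4

/-- The transposition `j` is a conjugate of `z0`. -/
theorem j_eq [Finite Fi23] (hle : Nat.card Fi23 ≤ 4089470473293004800) :
    (z0 * gen .j) * z0 * (z0 * gen .j)⁻¹ = gen .j := by
  have h1 := z0_sq hle
  have h2 : (gen .j : Fi23) * gen .j = 1 := gen_sq .j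
  have e1 : z0⁻¹ = z0 := inv_eq_of_mul_eq_one_left h1
  have e2 : (gen .j : Fi23)⁻¹ = gen .j := inv_eq_of_mul_eq_one_left h2
  rw [mul_inv_rev, e1, e2, z0_braid hle]
  calc gen .j * z0 * gen .j * (gen .j * z0) = gen .j * z0 * (gen .j * gen .j) * z0 := by
        simp only [mul_assoc]
    _ = gen .j := by rw [h2, mul_one, mul_assoc, h1, mul_one]

theorem isConj_gen [Finite Fi23] (hle : Nat.card Fi23 ≤ 4089470473293004800) (x : Gen) :
    IsConj z0 (gen x) := by
  have hj : IsConj z0 (gen .j) := isConj_iff.2 ⟨z0 * gen .j, j_eq hle⟩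
  have step : ∀ x y : Gen, coxLabel edges x y = 3 → IsConj z0 (gen x) → IsConj z0 (gen y) := by
    intro x y hl hx
    have h := gen_rel x y
    rw [hl] at h
    exact hx.trans (isConj_iff.2 ⟨gen x * gen y, (conj_of_edge (gen_sq x) (gen_sq y) h).symm⟩)
  have hg := step .j .g (by decide) hj
  have hf := step .g .f (by decide) hg
  have he := step .f .e (by decide) hf
  have hd := step .e .d (by decide) he
  have hc := step .d .c (by decide) hd
  have hb := step .c .b (by decide) hc
  have ha := step .b .a (by decide) hb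
  have hh := step .d .h (by decide) hd
  have hi := step .h .i (by decide) hh
  cases x <;> assumption

theorem gen_comm (x y : Gen) (h : coxLabel edges x y = 2) : gen x * gen y = gen y * gen x := by
  have h1 := gen_rel x y
  rw [h, pow_two] at h1
  have h2 : gen x * (gen y * gen x) * gen y = 1 := by simpa [mul_assoc] using h1
  have e1 : (gen x : Fi23)⁻¹ = gen x := inv_eq_of_mul_eq_one_left (gen_sq x)
  have e2 : (gen y : Fi23)⁻¹ = gen y := inv_eq_of_mul_eq_one_left (gen_sq y)
  calc gen x * gen y = (gen x)⁻¹ * (gen y)⁻¹ := by rw [e1, e2]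
    _ = (gen x)⁻¹ * 1 * (gen y)⁻¹ := by rw [mul_one]
    _ = (gen x)⁻¹ * (gen x * (gen y * gen x) * gen y) * (gen y)⁻¹ := by rw [h2]
    _ = gen y * gen x := by group

/-- The rank three class of 3-transpositions of `Fi23`. -/
theorem exists_rank3 [Finite Fi23] (hle : Nat.card Fi23 ≤ 4089470473293004800) :
    ∃ R : Rank3 Fi23 (Fi23 ⧸ K), R.t R.x0 = z0 ∧ R.x0 = ((1 : Fi23) : Fi23 ⧸ K) := by
  obtain ⟨q₁, q₂, h1, h2⟩ := Cfsg.Agent.SporRec.Fi23Index.orbits
  obtain ⟨u, hu⟩ := isConj_iff.1 (isConj_gen hle .a)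
  have hz := z0_sq hle
  have ha := comm_z0 hle _ (gen_mem_K .a (by decide))
  have hje := j_eq hle
  obtain ⟨R, hR, hR0, _, _⟩ := SuborbitCover.exists_rank3 K (n := 31671) (a := 3510) (b := 28160)
    Cfsg.Agent.SporRec.Fi23Index.index_H (by norm_num) q₁ q₂ h1 h2 (by norm_num) (by norm_num)
    (by norm_num) z0 u (z0 * gen .j) (comm_z0 hle) hz (by rw [hu]; exact ha.symm)
    (by
      rw [hu]
      intro h
      apply z0_ncomm
      rw [← h]
      exact gen_comm .a .j (by decide))
    (by rw [hje]; exact z0_braid hle) (by rw [hje]; exact z0_ncomm) (normalClosure_z0 hle)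
  exact ⟨R, hR, hR0⟩

end Cfsg.Agent.Fischer.Fi23Class
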