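import Cfsg.Agent.Fischer.SuborbitCover
import Cfsg.Agent.SporRec.Fi23Rel
import Cfsg.Prelude.Def_Spor_Fi24
import Cfsg.Prelude.Def_Spor_He
import Cfsg.Prelude.Def_Sporadic

/-!
Assembly of the 3-transposition realization of `Fi24` from facts about the presented group: rank three data,
`Fi23` inside the centraliser of a transposition, simple subgroups of the commutator subgroup.
-/

set_option autoImplicit false
set_option linter.constructorNameAsVariable false

namespace Cfsg.Agent.Fischer.Fi24Class

open Cfsg Cfsg.Agent.Fischer.Abstract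
open Cfsg.Spor Cfsg.Spor.Fi24

/-- The generators of the presented group. -/
def gen (x : Gen) : Fi24 := PresentedGroup.of x

theorem mem_nodes (x : Gen) : x ∈ coxNodes edges := by
  cases x <;> decide

theorem gen_rel (x y : Gen) : (gen x * gen y) ^ coxLabel edges x y = 1 := by
  have h : (FreeGroup.of x * FreeGroup.of y) ^ coxLabel edges x y ∈ coxRelators edges ∪ {r | r ∈ extra} :=
    Or.inl ⟨x, mem_nodes x, y, mem_nodes y, rfl⟩
  have := PresentedGroup.one_of_mem h
  rw [map_pow, map_mul] at this
  exact this

theorem gen_sq (x : Gen) : gen x * gen x = 1 := by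
  have h := gen_rel x x
  have hl : coxLabel edges x x = 1 := by cases x <;> decide
  rw [hl, pow_one] at h
  exact h

theorem gen_inv (x : Gen) : (gen x)⁻¹ = gen x := inv_eq_of_mul_eq_one_left (gen_sq x)

theorem gens_top : Subgroup.closure (Set.range gen) = ⊤ :=
  PresentedGroup.closure_range_of _

theorem gen_comm (x y : Gen) (h : coxLabel edges x y = 2) : gen x * gen y = gen y * gen x := by
  have h1 := gen_rel x y
  rw [h, pow_two] at h1
  have h2 : gen x * (gen y * gen x) * gen y = 1 := by simpa [mul_assoc] using h1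
  calc gen x * gen y = (gen x)⁻¹ * (gen y)⁻¹ := by rw [gen_inv, gen_inv]
    _ = (gen x)⁻¹ * 1 * (gen y)⁻¹ := by rw [mul_one]
    _ = (gen x)⁻¹ * (gen x * (gen y * gen x) * gen y) * (gen y)⁻¹ := by rw [h2]
    _ = gen y * gen x := by group

theorem gen_braid (x y : Gen) (h : coxLabel edges x y = 3) :
    gen x * gen y * gen x = gen y * gen x * gen y := by
  have h1 := gen_rel x y
  rw [h] at h1
  have h2 : (gen x * gen y * gen x) * (gen y * gen x * gen y) = 1 := by
    rw [← h1]; simp only [pow_succ, pow_zero, one_mul, mul_assoc]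
  have h3 : (gen y * gen x * gen y)⁻¹ = gen y * gen x * gen y := by
    rw [mul_inv_rev, mul_inv_rev, gen_inv, gen_inv, mul_assoc]
  rw [mul_eq_one_iff_eq_inv, h3] at h2
  exact h2

/-- `y` is conjugate to `x` when `x`, `y` are joined. -/
theorem conj_of_edge (x y : Gen) (h : coxLabel edges x y = 3) :
    (gen x * gen y) * gen x * (gen x * gen y)⁻¹ = gen y := by
  have h1 := gen_braid x y h
  rw [mul_inv_rev, gen_inv, gen_inv, h1]
  calc gen y * gen x * gen y * (gen y * gen x) = gen y * gen x * (gen y * gen y) * gen x := by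
        simp only [mul_assoc]
    _ = gen y := by rw [gen_sq, mul_one, mul_assoc, gen_sq, mul_one]

theorem isConj_gen (x : Gen) : IsConj (gen .l) (gen x) := by
  have step : ∀ x y : Gen, coxLabel edges x y = 3 → IsConj (gen .l) (gen x) → IsConj (gen .l) (gen y) := by
    intro x y hl hx
    exact hx.trans (isConj_iff.2 ⟨gen x * gen y, conj_of_edge x y hl⟩)
  have hl : IsConj (gen .l) (gen .l) := IsConj.refl _
  have hk := step .l .k (by decide) hl
  have ha := step .k .a (by decide) hk
  have hb := step .a .b (by decide) ha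
  have hc := step .b .c (by decide) hb
  have hd := step .c .d (by decide) hc
  have he := step .d .e (by decide) hd
  have hf := step .e .f (by decide) he
  have hg := step .f .g (by decide) hf
  have hj := step .g .j (by decide) hg
  have hh := step .d .h (by decide) hd
  have hi := step .h .i (by decide) hh
  cases x <;> assumption

theorem normalClosure_l : Subgroup.normalClosure {gen .l} = (⊤ : Subgroup Fi24) := by
  rw [eq_top_iff, ← gens_top, Subgroup.closure_le]
  rintro _ ⟨x, rfl⟩
  obtain ⟨u, hu⟩ := isConj_iff.1 (isConj_gen x)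
  rw [← hu]
  exact Subgroup.normalClosure_normal.conj_mem _
    (Subgroup.subset_normalClosure (Set.mem_singleton _)) _

theorem e7_eq : (gen .a * gen .b * gen .c * gen .d * gen .e * gen .f * gen .h) ^ 9 = gen .l := by
  have h : Fi24.l * (((Fi24.a * Fi24.b * Fi24.c * Fi24.d * Fi24.e * Fi24.f * Fi24.h) ^ 9)⁻¹) ∈
      coxRelators edges ∪ {r | r ∈ extra} := by
    right
    show _ ∈ extra
    unfold extra
    simp
  have := PresentedGroup.one_of_mem h
  rw [map_mul, map_inv, mul_inv_eq_one] at this
  simp only [map_pow, map_mul] at this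
  exact this.symm

/-- If `l` equals a generator commuting pattern collapses, everything is abelian. -/
theorem eq_l_of_step {x y : Gen} (hx : gen x = gen .l) (hxy : coxLabel edges x y = 3)
    (hy : gen y * gen .l = gen .l * gen y) : gen y = gen .l := by
  have h1 := conj_of_edge x y hxy
  rw [hx] at h1
  rw [← h1]
  rw [mul_inv_rev, gen_inv, gen_inv]
  calc gen .l * gen y * gen .l * (gen y * gen .l) = gen .l * (gen y * gen .l) * (gen y * gen .l) := by
        simp only [mul_assoc]
    _ = gen .l * (gen .l * gen y) * (gen y * gen .l) := by rw [hy]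
    _ = (gen .l * gen .l) * (gen y * gen y) * gen .l := by simp only [mul_assoc]
    _ = gen .l := by rw [gen_sq, gen_sq, one_mul, one_mul]

theorem comm_l (x : Gen) (hx : x ≠ .k) : gen x * gen .l = gen .l * gen x := by
  cases x
  · rfl
  · exact absurd rfl hx
  all_goals exact gen_comm _ _ (by decide)

/-- If all generators are equal to `l` the commutator subgroup is trivial. -/
theorem commutator_bot_of_eq (h : ∀ x, gen x = gen .l) : commutator Fi24 = ⊥ := by
  have hz : ∀ g : Fi24, g ∈ Subgroup.zpowers (gen .l) := by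
    intro g
    have : (⊤ : Subgroup Fi24) ≤ Subgroup.zpowers (gen .l) := by
      rw [← gens_top, Subgroup.closure_le]
      rintro _ ⟨x, rfl⟩
      rw [h x]
      exact Subgroup.mem_zpowers _
    exact this trivial
  rw [commutator_def, Subgroup.commutator_eq_bot_iff_le_centralizer]
  intro g _
  rw [Subgroup.mem_centralizer_iff]
  intro k _
  obtain ⟨m, rfl⟩ := hz g
  obtain ⟨n, rfl⟩ := hz k
  show gen .l ^ n * gen .l ^ m = gen .l ^ m * gen .l ^ n
  rw [← zpow_add, ← zpow_add, add_comm]

theorem all_eq_of_a (ha : gen .a = gen .l) : ∀ x, gen x = gen .l := by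
  have hb := eq_l_of_step ha (y := .b) (by decide) (comm_l _ (by decide))
  have hc := eq_l_of_step hb (y := .c) (by decide) (comm_l _ (by decide))
  have hd := eq_l_of_step hc (y := .d) (by decide) (comm_l _ (by decide))
  have he := eq_l_of_step hd (y := .e) (by decide) (comm_l _ (by decide))
  have hf := eq_l_of_step he (y := .f) (by decide) (comm_l _ (by decide))
  have hg := eq_l_of_step hf (y := .g) (by decide) (comm_l _ (by decide))
  have hj := eq_l_of_step hg (y := .j) (by decide) (comm_l _ (by decide))
  have hh := eq_l_of_step hd (y := .h) (by decide) (comm_l _ (by decide))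
  have hi := eq_l_of_step hh (y := .i) (by decide) (comm_l _ (by decide))
  have hk := eq_l_of_step ha (y := .k) (by decide) (by rw [← hb]; exact gen_comm .k .b (by decide))
  intro x
  cases x <;> first | rfl | assumption

theorem a_ne_l (hcard : Nat.card (commutator Fi24) ≠ 1) : gen .a ≠ gen .l := by
  intro h
  apply hcard
  rw [commutator_bot_of_eq (all_eq_of_a h)]
  exact Subgroup.card_bot

theorem k_ncomm_l (hcard : Nat.card (commutator Fi24) ≠ 1) : gen .l * gen .k ≠ gen .k * gen .l := by
  intro h
  apply hcard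
  have hk := eq_l_of_step (x := .l) rfl (y := .k) (by decide) h.symm
  have hla : coxLabel edges .k .a = 3 := by decide
  have ha := eq_l_of_step hk hla (comm_l _ (by decide))
  rw [commutator_bot_of_eq (all_eq_of_a ha)]
  exact Subgroup.card_bot

/-- The subgroup `⟨a, …, j, l⟩` centralises `l`. -/
theorem comm_of_mem_closure (S : Set Gen) (hS : .k ∉ S) (h : Fi24)
    (hh : h ∈ Subgroup.closure (gen '' S)) : h * gen .l = gen .l * h := by
  have hK : Subgroup.closure (gen '' S) ≤ Subgroup.centralizer ({gen .l} : Set Fi24) := by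
    rw [Subgroup.closure_le]
    rintro _ ⟨x, hx, rfl⟩
    rw [SetLike.mem_coe, Subgroup.mem_centralizer_singleton_iff]
    apply comm_l
    rintro rfl
    exact hS hx
  exact Subgroup.mem_centralizer_singleton_iff.1 (hK hh)

/-- The rank three class of 3-transpositions of `Fi24`. -/
theorem exists_rank3 (hcard : Nat.card (commutator Fi24) ≠ 1) (H : Subgroup Fi24)
    (hH : ∀ h ∈ H, h * gen .l = gen .l * h) (hidx : H.index = 306936) (q₁ q₂ : Fi24 ⧸ H)
    (h₁ : (MulAction.orbit H q₁).ncard = 31671) (h₂ : (MulAction.orbit H q₂).ncard = 275264) :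
    ∃ R : Rank3 Fi24 (Fi24 ⧸ H), R.t R.x0 = gen .l ∧ R.x0 = ((1 : Fi24) : Fi24 ⧸ H) := by
  obtain ⟨u, hu⟩ := isConj_iff.1 (isConj_gen .a)
  have hk := conj_of_edge .l .k (by decide)
  obtain ⟨R, hR, hR0, _, _⟩ := SuborbitCover.exists_rank3 H (n := 306936) (a := 31671) (b := 275264)
    hidx (by norm_num) q₁ q₂ h₁ h₂ (by norm_num) (by norm_num)
    (by norm_num) (gen .l) u (gen .l * gen .k) hH (gen_sq .l)
    (by rw [hu]; exact gen_comm .l .a (by decide))
    (by rw [hu]; exact a_ne_l hcard)
    (by rw [hk]; exact gen_braid .l .k (by decide))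
    (by rw [hk]; exact k_ncomm_l hcard) normalClosure_l
  exact ⟨R, hR, hR0⟩

/-! ### `Fi23` in the centraliser of `l` -/

/-- Inclusion of the generators of `Fi23`. -/
def emb : Fi23.Gen → Gen
  | .a => .a | .b => .b | .c => .c | .d => .d | .e => .e | .f => .f | .g => .g | .j => .j | .h => .h | .i => .i

/-- The images of the generators of `Fi23`: transpositions multiplied by the central `l`. -/
def img (x : Fi23.Gen) : Fi24 := gen (emb x) * gen .l

theorem emb_ne_k (x : Fi23.Gen) : emb x ≠ .k := by cases x <;> decide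

theorem coxLabel_emb (x y : Fi23.Gen) : coxLabel Fi23.edges x y = coxLabel edges (emb x) (emb y) := by
  cases x <;> cases y <;> decide

theorem img_mul (x y : Fi23.Gen) : img x * img y = gen (emb x) * gen (emb y) := by
  unfold img
  calc gen (emb x) * gen .l * (gen (emb y) * gen .l)
      = gen (emb x) * (gen .l * gen (emb y)) * gen .l := by simp only [mul_assoc]
    _ = gen (emb x) * (gen (emb y) * gen .l) * gen .l := by rw [comm_l _ (emb_ne_k y)]
    _ = gen (emb x) * gen (emb y) * (gen .l * gen .l) := by simp only [mul_assoc]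
    _ = gen (emb x) * gen (emb y) := by rw [gen_sq, mul_one]

theorem img_word (w : List Fi23.Gen) :
    (w.map img).prod = (w.map fun x => gen (emb x)).prod * gen .l ^ w.length := by
  induction w with
  | nil => simp
  | cons x w ih =>
    have hc : ∀ v : List Fi23.Gen, gen .l * (v.map fun x => gen (emb x)).prod =
        (v.map fun x => gen (emb x)).prod * gen .l := by
      intro v
      induction v with
      | nil => simp
      | cons y v ihv =>
        rw [List.map_cons, List.prod_cons, ← mul_assoc, ← comm_l _ (emb_ne_k y), mul_assoc, ihv, mul_assoc]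
    rw [List.map_cons, List.prod_cons, ih, List.map_cons, List.prod_cons, List.length_cons, pow_succ']
    unfold img
    calc gen (emb x) * gen .l * ((w.map fun x => gen (emb x)).prod * gen .l ^ w.length)
        = gen (emb x) * (gen .l * (w.map fun x => gen (emb x)).prod) * gen .l ^ w.length := by
          simp only [mul_assoc]
      _ = gen (emb x) * ((w.map fun x => gen (emb x)).prod * gen .l) * gen .l ^ w.length := by rw [hc]
      _ = gen (emb x) * (w.map fun x => gen (emb x)).prod * (gen .l * gen .l ^ w.length) := by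
          simp only [mul_assoc]

/-- The homomorphism from `Fi23` into the centraliser of `l`, given the spider relation. -/
theorem exists_fi23_hom (hsp : (gen .d * gen .c * gen .b * gen .d * gen .e * gen .f * gen .d * gen .h *
    gen .i) ^ 10 = 1) : ∃ φ : Fi23 →* Fi24, ∀ x, φ (Cfsg.Agent.SporRec.Fi23Rel.gen x) = img x := by
  have hrel : ∀ r ∈ Cfsg.Agent.SporRec.Fi23Rel.relators, FreeGroup.lift img r = 1 := by
    have hcomm : ∀ v : List Fi23.Gen, Commute ((v.map fun x => gen (emb x)).prod) (gen .l) := by
      intro v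
      induction v with
      | nil => simp
      | cons y v ihv =>
        rw [List.map_cons, List.prod_cons]
        exact Commute.mul_left (comm_l _ (emb_ne_k y)) ihv
    rintro r (⟨x, -, y, -, rfl⟩ | hr)
    · rw [map_pow, map_mul, FreeGroup.lift_apply_of, FreeGroup.lift_apply_of, img_mul, coxLabel_emb]
      exact gen_rel _ _
    · have hr' : r = (Fi23.d * Fi23.c * Fi23.b * Fi23.d * Fi23.e *
          Fi23.f * Fi23.d * Fi23.h * Fi23.i) ^ 10 ∨
          r = (Fi23.a * Fi23.b * Fi23.c * Fi23.d * Fi23.e *
          Fi23.f * Fi23.h) ^ 9 := by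
        simpa [Fi23.extra] using hr
      rcases hr' with rfl | rfl
      · simp only [map_pow, map_mul, FreeGroup.lift_apply_of]
        have h1 := img_word [.d, .c, .b, .d, .e, .f, .d, .h, .i]
        simp only [List.map_cons, List.map_nil, List.prod_cons, List.prod_nil, mul_one, ← mul_assoc] at h1
        rw [h1]
        have h2 := hcomm [.d, .c, .b, .d, .e, .f, .d, .h, .i]
        simp only [List.map_cons, List.map_nil, List.prod_cons, List.prod_nil, mul_one, ← mul_assoc] at h2
        rw [(h2.pow_right _).mul_pow]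
        have h3 : (gen .d * gen .c * gen .b * gen .d * gen .e * gen .f * gen .d * gen .h *
          gen .i) ^ 10 = 1 := hsp
        have h4 : (gen .l ^ ([.d, .c, .b, .d, .e, .f, .d, .h, .i] : List Fi23.Gen).length) ^ 10 =
            (1 : Fi24) := by
          rw [← pow_mul]
          show gen .l ^ 90 = 1
          rw [show (90 : ℕ) = 2 * 45 from rfl, pow_mul, pow_two, gen_sq, one_pow]
        rw [h4, mul_one]
        exact h3
      · simp only [map_pow, map_mul, FreeGroup.lift_apply_of]
        have h1 := img_word [.a, .b, .c, .d, .e, .f, .h]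
        simp only [List.map_cons, List.map_nil, List.prod_cons, List.prod_nil, mul_one, ← mul_assoc] at h1
        rw [h1]
        have h2 := hcomm [.a, .b, .c, .d, .e, .f, .h]
        simp only [List.map_cons, List.map_nil, List.prod_cons, List.prod_nil, mul_one, ← mul_assoc] at h2
        rw [(h2.pow_right _).mul_pow]
        have h3 : (gen (emb .a) * gen (emb .b) * gen (emb .c) * gen (emb .d) * gen (emb .e) *
          gen (emb .f) * gen (emb .h)) ^ 9 = gen .l := e7_eq
        have h4 : (gen .l ^ ([.a, .b, .c, .d, .e, .f, .h] : List Fi23.Gen).length) ^ 9 =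
            gen .l := by
          rw [← pow_mul]
          show gen .l ^ 63 = gen .l
          rw [show (63 : ℕ) = 2 * 31 + 1 from rfl, pow_succ, pow_mul, pow_two, gen_sq, one_pow, one_mul]
        rw [h4, h3, gen_sq]
  exact ⟨PresentedGroup.toGroup hrel, fun x => PresentedGroup.toGroup.of hrel⟩

/-! ### Simple groups mapping to a group -/

theorem injective_of_simple {P G : Type*} [Group P] [Group G] (hP : IsSimpleGroup P) (φ : P →* G)
    (h : ∃ x, φ x ≠ 1) : Function.Injective φ := by
  rw [← MonoidHom.ker_eq_bot_iff]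
  rcases hP.eq_bot_or_eq_top_of_normal φ.ker inferInstance with h1 | h1
  · exact h1
  · exfalso
    obtain ⟨x, hx⟩ := h
    apply hx
    have : x ∈ φ.ker := by rw [h1]; trivial
    exact MonoidHom.mem_ker.1 this

/-- A simple group with even nonprime order is perfect; here: simple group of composite order. -/
theorem perfect_of_simple {P : Type*} [Group P] (hP : IsSimpleGroup P) (hcard : ¬ (Nat.card P).Prime) :
    commutator P = ⊤ := by
  rcases hP.eq_bot_or_eq_top_of_normal (commutator P) inferInstance with h1 | h1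
  · exfalso
    apply hcard
    have hab : ∀ a b : P, a * b = b * a := by
      intro a b
      have : a * b * a⁻¹ * b⁻¹ ∈ commutator P := Subgroup.commutator_mem_commutator trivial trivial
      rw [h1, Subgroup.mem_bot] at this
      have h2 : a * b * (b * a)⁻¹ = 1 := by rw [← this]; group
      exact mul_inv_eq_one.1 h2
    letI : CommGroup P := { (inferInstance : Group P) with mul_comm := hab }
    haveI : IsSimpleGroup P := hP
    exact IsSimpleGroup.prime_card (α := P)
  · exact h1

theorem range_le_commutator {P G : Type*} [Group P] [Group G] (hP : commutator P = ⊤) (φ : P →* G) :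
    φ.range ≤ commutator G := by
  rw [MonoidHom.range_eq_map, ← hP, commutator_def, Subgroup.map_commutator]
  exact Subgroup.commutator_mono le_top le_top

theorem isSimple_congr {P G : Type*} [Group P] [Group G] (e : P ≃* G) (hP : IsSimpleGroup P) :
    IsSimpleGroup G := by
  haveI := hP
  haveI : Nontrivial G := e.symm.toEquiv.nontrivial
  exact IsSimpleGroup.isSimpleGroup_of_surjective e.toMonoidHom e.surjective

/-- The range of an injective homomorphism of a simple group, inside a subgroup `H`. -/
theorem exists_subgroup {P G : Type*} [Group P] [Group G] (hP : IsSimpleGroup P) (φ : P →* G)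
    (hφ : Function.Injective φ) (H : Subgroup G) (hle : φ.range ≤ H) :
    ∃ K : Subgroup H, IsSimpleGroup K ∧ Nat.card K = Nat.card P := by
  have e : P ≃* φ.range.subgroupOf H :=
    (MonoidHom.ofInjective hφ).trans (Subgroup.subgroupOfEquivOfLe hle).symm
  exact ⟨φ.range.subgroupOf H, isSimple_congr e hP, (Nat.card_congr e.toEquiv).symm⟩

/-- The assembly. -/
theorem assemble (h98 : Cfsg.IsFi24' Fi24') (h91 : (commutator Fi24).index = 2)
    (h97 : Cfsg.IsFi23 Fi23) (h95 : Cfsg.IsHe He) (H : Subgroup Fi24)
    (hH : ∀ h ∈ H, h * gen .l = gen .l * h) (hidx : H.index = 306936) (q₁ q₂ : Fi24 ⧸ H)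
    (h₁ : (MulAction.orbit H q₁).ncard = 31671) (h₂ : (MulAction.orbit H q₂).ncard = 275264)
    (hsp : (gen .d * gen .c * gen .b * gen .d * gen .e * gen .f * gen .d * gen .h * gen .i) ^ 10 = 1)
    (hhe : ∃ ψ : He →* Fi24, ∃ x, ψ x ≠ 1) :
    ∃ (G : Type) (_ : Group G) (_ : Finite G), Nat.card G = 2 * 1255205709190661721292800 ∧ ∃ D : Set G, Cfsg.IsThreeTranspositionClass D ∧ Nat.card D = 306936 ∧ (∀ d ∈ D, Nat.card (Subgroup.centralizer ({d} : Set G)) = 2 * 4089470473293004800 ∧ ∃ K : Subgroup G, K ≤ Subgroup.centralizer ({d} : Set G) ∧ Cfsg.IsFi23 K) ∧ ∃ H : Subgroup G, H.index = 2 ∧ Cfsg.IsFi24' H ∧ (∃ K : Subgroup H, Cfsg.IsFi23 K) ∧ (∃ K : Subgroup H, Cfsg.IsHe K) := by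
  have hcom : Nat.card (commutator Fi24) = 1255205709190661721292800 := h98.2
  have hcard : Nat.card Fi24 = 2 * 1255205709190661721292800 := by
    rw [← Subgroup.index_mul_card (commutator Fi24), h91, hcom]
  have hfin : Finite Fi24 := Nat.finite_of_card_ne_zero (by rw [hcard]; norm_num)
  have hne : Nat.card (commutator Fi24) ≠ 1 := by rw [hcom]; norm_num
  obtain ⟨R, hR, hR0⟩ := exists_rank3 hne H hH hidx q₁ q₂ h₁ h₂
  have hX : Nat.card (Fi24 ⧸ H) = 306936 := by rw [← Subgroup.index_eq_card, hidx]
  have hC : Nat.card (Centralizer.C R) = 2 * 4089470473293004800 := by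
    have h := Centralizer.card_eq R
    rw [hX, hcard] at h
    omega
  obtain ⟨φ, hφ⟩ := exists_fi23_hom hsp
  have hφ1 : Function.Injective φ := by
    apply injective_of_simple h97.1
    refine ⟨Cfsg.Agent.SporRec.Fi23Rel.gen .a, ?_⟩
    rw [hφ]
    intro h
    apply a_ne_l hne
    have h2 : gen .a * gen .l = 1 := h
    rw [mul_eq_one_iff_eq_inv, gen_inv] at h2
    exact h2
  obtain ⟨ψ, hψ⟩ := hhe
  have hψ1 := injective_of_simple h95.1 ψ hψ
  have hp23 : commutator Fi23 = ⊤ := perfect_of_simple h97.1 (by
    rw [h97.2]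
    intro hp
    exact absurd ((Nat.prime_dvd_prime_iff_eq Nat.prime_two hp).1 (by norm_num)) (by norm_num))
  have hpHe : commutator He = ⊤ := perfect_of_simple h95.1 (by
    rw [h95.2]
    intro hp
    exact absurd ((Nat.prime_dvd_prime_iff_eq Nat.prime_two hp).1 (by norm_num)) (by norm_num))
  have hφC : φ.range ≤ Subgroup.centralizer ({gen .l} : Set Fi24) := by
    rw [MonoidHom.range_eq_map, ← Cfsg.Agent.SporRec.Fi23Rel.closure_gen, MonoidHom.map_closure,
      Subgroup.closure_le]
    rintro _ ⟨_, ⟨x, rfl⟩, rfl⟩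
    rw [SetLike.mem_coe, Subgroup.mem_centralizer_singleton_iff, hφ]
    unfold img
    rw [mul_assoc, ← mul_assoc (gen .l), ← comm_l _ (emb_ne_k x), mul_assoc]
  refine ⟨Fi24, inferInstance, hfin, hcard, Set.range R.t, R.isThreeTranspositionClass, ?_, ?_,
    commutator Fi24, h91, h98, ?_, ?_⟩
  · rw [R.card_range, hX]
  · rintro d ⟨x, rfl⟩
    obtain ⟨g, rfl⟩ := R.trans x
    rw [R.map_smul]
    constructor
    · rw [← hC]
      exact (Nat.card_congr (Centralizer.centralizerConj g (R.t R.x0)).toEquiv).symm
    · set χ : Fi23 →* Fi24 := (MulAut.conj g).toMonoidHom.comp φ with hχ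
      have hχ1 : Function.Injective χ := (MulAut.conj g).injective.comp hφ1
      refine ⟨χ.range, ?_, isSimple_congr (MonoidHom.ofInjective hχ1) h97.1, ?_⟩
      · rintro _ ⟨y, rfl⟩
        rw [Subgroup.mem_centralizer_singleton_iff, hR]
        have hy := Subgroup.mem_centralizer_singleton_iff.1 (hφC ⟨y, rfl⟩)
        show (g * φ y * g⁻¹) * (g * gen .l * g⁻¹) = (g * gen .l * g⁻¹) * (g * φ y * g⁻¹)
        calc (g * φ y * g⁻¹) * (g * gen .l * g⁻¹) = g * (φ y * gen .l) * g⁻¹ := by group
          _ = g * (gen .l * φ y) * g⁻¹ := by rw [hy]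
          _ = (g * gen .l * g⁻¹) * (g * φ y * g⁻¹) := by group
      · rw [← Nat.card_congr (MonoidHom.ofInjective hχ1).toEquiv]
        exact h97.2
  · obtain ⟨K, hK1, hK2⟩ := exists_subgroup h97.1 φ hφ1 (commutator Fi24) (range_le_commutator hp23 φ)
    exact ⟨K, hK1, hK2.trans h97.2⟩
  · obtain ⟨K, hK1, hK2⟩ := exists_subgroup h95.1 ψ hψ1 (commutator Fi24) (range_le_commutator hpHe ψ)
    exact ⟨K, hK1, hK2.trans h95.2⟩

end Cfsg.Agent.Fischer.Fi24Class
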