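import Cfsg.Agent.Fischer.Fi23Class
import Cfsg.Agent.Fischer.Fi24Class
import Cfsg.Prelude.Def_Spor_Fi22

/-!
In the presented group `Fi23`, the subgroup `⟨a, …, i⟩` is a non-split double cover of the presented `Fi22`
(given the orders of both groups).
-/

set_option autoImplicit false
set_option linter.constructorNameAsVariable false
set_option maxRecDepth 100000

namespace Cfsg.Agent.Fischer.Fi23Cover

open Cfsg Cfsg.Agent.Fischer.Fi23Class Cfsg.Agent.Fischer.Fi23Hom Cfsg.Agent.Fischer.Fi23Final
  Cfsg.Agent.Fischer.Fi23Z Cfsg.Agent.Fischer.Fi23Orb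
open Cfsg.Spor Cfsg.Spor.Fi23

/-- The generators of `K = ⟨a, …, i⟩`, indexed by the generators of `Fi22`. -/
def emb : Fi22.Gen → Gen
  | .a => .a | .b => .b | .c => .c | .d => .d | .e => .e | .f => .f | .g => .g | .h => .h | .i => .i

theorem emb_ne_j (x : Fi22.Gen) : emb x ≠ .j := by cases x <;> decide

theorem coxLabel_emb (x y : Fi22.Gen) : coxLabel Fi22.edges x y = coxLabel edges (emb x) (emb y) := by
  cases x <;> cases y <;> decide

/-- The generators as elements of `K`. -/
def kgen (x : Fi22.Gen) : K := ⟨gen (emb x), gen_mem_K _ (emb_ne_j x)⟩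

theorem coe_kgen (x : Fi22.Gen) : ((kgen x : K) : Fi23) = gen (emb x) := rfl

theorem kgen_rel (x y : Fi22.Gen) : (kgen x * kgen y) ^ coxLabel Fi22.edges x y = 1 := by
  apply Subtype.ext
  rw [Subgroup.coe_pow, Subgroup.coe_mul, coe_kgen, coe_kgen, coxLabel_emb]
  exact gen_rel _ _

theorem kgen_sq (x : Fi22.Gen) : kgen x * kgen x = 1 := Subtype.ext (gen_sq _)

theorem closure_kgen : Subgroup.closure (Set.range kgen) = ⊤ := by
  have h : Subgroup.map K.subtype (Subgroup.closure (Set.range kgen)) = K := by
    rw [MonoidHom.map_closure]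
    show _ = Subgroup.closure _
    congr 1
    ext y
    constructor
    · rintro ⟨_, ⟨x, rfl⟩, rfl⟩
      exact ⟨emb x, emb_ne_j x, rfl⟩
    · rintro ⟨x, hx, rfl⟩
      have hx' : x ≠ .j := hx
      obtain ⟨w, hw⟩ : ∃ w, emb w = x := by
        cases x
        · exact ⟨.a, rfl⟩
        · exact ⟨.b, rfl⟩
        · exact ⟨.c, rfl⟩
        · exact ⟨.d, rfl⟩
        · exact ⟨.e, rfl⟩
        · exact ⟨.f, rfl⟩
        · exact ⟨.g, rfl⟩
        · exact absurd rfl hx'
        · exact ⟨.h, rfl⟩
        · exact ⟨.i, rfl⟩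
      exact ⟨kgen w, ⟨w, rfl⟩, by rw [Subgroup.subtype_apply, coe_kgen, hw]; rfl⟩
  rw [eq_top_iff]
  rintro ⟨x, hx⟩ _
  have hx2 := hx
  rw [← h] at hx2
  obtain ⟨y, hy, hyx⟩ := hx2
  have : y = ⟨x, hx⟩ := Subtype.ext hyx
  rw [← this]
  exact hy

theorem e7 : (gen .a * gen .b * gen .c * gen .d * gen .e * gen .f * gen .h) ^ 9 = 1 := by
  have h : (Fi23.a * Fi23.b * Fi23.c * Fi23.d * Fi23.e * Fi23.f * Fi23.h) ^ 9 ∈
      coxRelators edges ∪ {r | r ∈ extra} := by
    right
    show _ ∈ extra
    unfold extra
    simp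
  have := PresentedGroup.one_of_mem h
  simp only [map_pow, map_mul] at this
  exact this

theorem spider : (gen .d * gen .c * gen .b * gen .d * gen .e * gen .f * gen .d * gen .h * gen .i) ^ 10 = 1 := by
  have h : (Fi23.d * Fi23.c * Fi23.b * Fi23.d * Fi23.e * Fi23.f * Fi23.d * Fi23.h * Fi23.i) ^ 10 ∈
      coxRelators edges ∪ {r | r ∈ extra} := by
    right
    show _ ∈ extra
    unfold extra
    simp
  have := PresentedGroup.one_of_mem h
  simp only [map_pow, map_mul] at this
  exact this

theorem z0_eq : z0 = (gen .b * gen .c * gen .d * gen .e * gen .f * gen .g * gen .h) ^ 9 := by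
  unfold z0 z63 c7 word
  simp only [List.cons_append, List.nil_append, List.map_cons, List.map_nil, List.prod_cons, List.prod_nil,
    mul_one, pow_succ, pow_zero, one_mul, mul_assoc]

theorem z0_mem : z0 ∈ K := by
  rw [z0_eq]
  apply Subgroup.pow_mem
  refine K.mul_mem (K.mul_mem (K.mul_mem (K.mul_mem (K.mul_mem (K.mul_mem ?_ ?_) ?_) ?_) ?_) ?_) ?_ <;>
    exact gen_mem_K _ (by decide)

/-- `z0` as an element of `K`. -/
def zK : K := ⟨z0, z0_mem⟩

theorem zK_eq : (kgen .b * kgen .c * kgen .d * kgen .e * kgen .f * kgen .g * kgen .h) ^ 9 = zK := by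
  apply Subtype.ext
  show _ = z0
  rw [z0_eq]
  simp only [Subgroup.coe_pow, Subgroup.coe_mul, coe_kgen]
  rfl

theorem ke7 : (kgen .a * kgen .b * kgen .c * kgen .d * kgen .e * kgen .f * kgen .h) ^ 9 = 1 := by
  apply Subtype.ext
  simp only [Subgroup.coe_pow, Subgroup.coe_mul, coe_kgen]
  exact e7

theorem kspider : (kgen .d * kgen .c * kgen .b * kgen .d * kgen .e * kgen .f * kgen .d * kgen .h *
    kgen .i) ^ 10 = 1 := by
  apply Subtype.ext
  simp only [Subgroup.coe_pow, Subgroup.coe_mul, coe_kgen]
  exact spider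

/-- `K` is perfect. -/
theorem commutator_K : commutator K = ⊤ := by
  have hq : ∀ x : Fi22.Gen, Abelianization.of (kgen x) = Abelianization.of (kgen .d) := by
    have step : ∀ x y : Fi22.Gen, coxLabel Fi22.edges x y = 3 →
        Abelianization.of (kgen y) = Abelianization.of (kgen x) := by
      intro x y hl
      have h := kgen_rel x y
      rw [hl] at h
      conv_lhs => rw [Fi23Final.conj_of_edge (kgen_sq x) (kgen_sq y) h]
      simp only [map_mul, map_inv]
      rw [mul_comm (Abelianization.of (kgen x) * Abelianization.of (kgen y)), mul_assoc,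
        mul_inv_cancel, mul_one]
    have hc := step .d .c (by decide)
    have hb := (step .c .b (by decide)).trans hc
    have ha := (step .b .a (by decide)).trans hb
    have he := step .d .e (by decide)
    have hf := (step .e .f (by decide)).trans he
    have hg := (step .f .g (by decide)).trans hf
    have hh := step .d .h (by decide)
    have hi := (step .h .i (by decide)).trans hh
    intro x
    cases x <;> first | assumption | rfl
  have hj2 : Abelianization.of (kgen .d) * Abelianization.of (kgen .d) = 1 := by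
    rw [← map_mul, kgen_sq, map_one]
  have h63 : Abelianization.of (kgen .d) ^ 63 = 1 := by
    have := congrArg Abelianization.of ke7
    simp only [map_pow, map_mul, map_one] at this
    rw [hq .a, hq .b, hq .c, hq .e, hq .f, hq .h] at this
    rw [← this]
    simp only [← pow_succ, ← pow_two, ← pow_mul]
  have hj1 : Abelianization.of (kgen .d) = 1 := by
    have : Abelianization.of (kgen .d) ^ 63 =
        (Abelianization.of (kgen .d) * Abelianization.of (kgen .d)) ^ 31 * Abelianization.of (kgen .d) := by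
      rw [← pow_two, ← pow_mul, ← pow_succ]
    rw [this, hj2, one_pow, one_mul] at h63
    exact h63
  rw [← Abelianization.ker_of, eq_top_iff, ← closure_kgen, Subgroup.closure_le]
  rintro _ ⟨x, rfl⟩
  show Abelianization.of (kgen x) = 1
  rw [hq, hj1]

/-- The relators of `Fi22` hold in a quotient of `K` in which `z0` is trivial. -/
theorem rels {Q : Type*} [Group Q] (π : K →* Q) (hz : π zK = 1) :
    ∀ r ∈ coxRelators Fi22.edges ∪ {r | r ∈ Fi22.extra},
      FreeGroup.lift (fun x => π (kgen x)) r = 1 := by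
  rintro r (⟨x, -, y, -, rfl⟩ | hr)
  · rw [map_pow, map_mul, FreeGroup.lift_apply_of, FreeGroup.lift_apply_of, ← map_mul, ← map_pow, kgen_rel,
      map_one]
  · have hr' : r = (Fi22.d * Fi22.c * Fi22.b * Fi22.d * Fi22.e *
        Fi22.f * Fi22.d * Fi22.h * Fi22.i) ^ 10 ∨
        r = (Fi22.a * Fi22.b * Fi22.c * Fi22.d * Fi22.e * Fi22.f * Fi22.h) ^ 9 ∨
        r = (Fi22.b * Fi22.c * Fi22.d * Fi22.e * Fi22.f * Fi22.g * Fi22.h) ^ 9 := by
      simpa [Fi22.extra] using hr
    rcases hr' with rfl | rfl | rfl
    · simp only [map_pow, map_mul, FreeGroup.lift_apply_of]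
      simp only [← map_pow, ← map_mul]
      rw [kspider, map_one]
    · simp only [map_pow, map_mul, FreeGroup.lift_apply_of]
      simp only [← map_pow, ← map_mul]
      rw [ke7, map_one]
    · simp only [map_pow, map_mul, FreeGroup.lift_apply_of]
      simp only [← map_pow, ← map_mul]
      rw [zK_eq, hz]

theorem center_eq_bot_of_simple {P : Type*} [Group P] (hP : IsSimpleGroup P) (hcard : ¬ (Nat.card P).Prime) :
    Subgroup.center P = ⊥ := by
  rcases hP.eq_bot_or_eq_top_of_normal (Subgroup.center P) inferInstance with h1 | h1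
  · exact h1
  · exfalso
    have h2 := Cfsg.Agent.Fischer.Fi24Class.perfect_of_simple hP hcard
    have h3 : commutator P = ⊥ := by
      rw [commutator_def, Subgroup.commutator_eq_bot_iff_le_centralizer]
      intro g _
      rw [Subgroup.mem_centralizer_iff]
      intro k _
      have : g ∈ Subgroup.center P := by rw [h1]; trivial
      exact Subgroup.mem_center_iff.1 this k
    rw [h2] at h3
    have : Nontrivial P := hP.toNontrivial
    exact absurd h3 top_ne_bot

/-- `K` is a non-split double cover of `Fi22`. -/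
theorem isNonsplitDoubleCover (h97 : Cfsg.IsFi23 Fi23) (h96 : Cfsg.IsFi22 Fi22) :
    Cfsg.IsNonsplitDoubleCover K Fi22 := by
  have hcard : Nat.card Fi23 = 4089470473293004800 := h97.2
  have hfin : Finite Fi23 := Nat.finite_of_card_ne_zero (by rw [hcard]; norm_num)
  have hcK : Nat.card K = 2 * 64561751654400 := by
    have h := Subgroup.card_mul_index K
    rw [hcard, Cfsg.Agent.SporRec.Fi23Index.index_H] at h
    omega
  have hcen : zK ∈ Subgroup.center K := by
    rw [Subgroup.mem_center_iff]
    intro g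
    exact Subtype.ext (comm_z0 hcard.le _ g.2)
  have hz1 : zK ≠ 1 := by
    intro h
    apply z0_ncomm
    have : z0 = 1 := congrArg Subtype.val h
    rw [this, one_mul, mul_one]
  have hz2 : zK * zK = 1 := Subtype.ext (z0_sq hcard.le)
  have hord : orderOf zK = 2 := orderOf_eq_prime (by rw [pow_two]; exact hz2) hz1
  set Z : Subgroup K := Subgroup.zpowers zK with hZ
  have hZle : Z ≤ Subgroup.center K := by
    rw [hZ, Subgroup.zpowers_le]; exact hcen
  have hZn : Z.Normal := by
    refine ⟨fun n hn g => ?_⟩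
    have h := Subgroup.mem_center_iff.1 (hZle hn) g
    rw [h, mul_assoc, mul_inv_cancel, mul_one]
    exact hn
  have hcZ : Nat.card Z = 2 := by rw [hZ, Nat.card_zpowers, hord]
  let π : K →* K ⧸ Z := QuotientGroup.mk' Z
  have hπz : π zK = 1 := (QuotientGroup.eq_one_iff _).2 (Subgroup.mem_zpowers zK)
  have hrel := rels π hπz
  let ψ : Fi22 →* K ⧸ Z := PresentedGroup.toGroup hrel
  have hψ : ∀ x, ψ (PresentedGroup.of x) = π (kgen x) := fun x => PresentedGroup.toGroup.of hrel
  have hsurj : Function.Surjective ψ := by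
    rw [← MonoidHom.range_eq_top, eq_top_iff]
    have h1 : (⊤ : Subgroup (K ⧸ Z)) = Subgroup.map π ⊤ := by
      rw [← MonoidHom.range_eq_map, MonoidHom.range_eq_top.2 (QuotientGroup.mk'_surjective Z)]
    rw [h1, ← closure_kgen, MonoidHom.map_closure, Subgroup.closure_le]
    rintro _ ⟨_, ⟨x, rfl⟩, rfl⟩
    exact ⟨PresentedGroup.of x, hψ x⟩
  have hcQ : Nat.card (K ⧸ Z) = 64561751654400 := by
    have h := Subgroup.card_eq_card_quotient_mul_card_subgroup Z
    rw [hcK, hcZ] at h
    omega
  have hfin22 : Finite Fi22 := Nat.finite_of_card_ne_zero (by rw [h96.2]; norm_num)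
  have hbij : Function.Bijective ψ := by
    rw [Nat.bijective_iff_surjective_and_card]
    exact ⟨hsurj, by rw [h96.2, hcQ]⟩
  let e : Fi22 ≃* K ⧸ Z := MulEquiv.ofBijective ψ hbij
  have hp : ¬ (Nat.card Fi22).Prime := by
    rw [h96.2]
    intro hp
    exact absurd ((Nat.prime_dvd_prime_iff_eq Nat.prime_two hp).1 (by norm_num)) (by norm_num)
  have hcb := center_eq_bot_of_simple h96.1 hp
  have hcenter : Subgroup.center K = Z := by
    apply le_antisymm _ hZle
    intro c hc
    have h1 : e.symm (π c) ∈ Subgroup.center Fi22 := by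
      rw [Subgroup.mem_center_iff]
      intro g
      obtain ⟨k, hk⟩ := QuotientGroup.mk'_surjective Z (e g)
      have h2 : π k * π c = π c * π k := by
        rw [← map_mul, ← map_mul, Subgroup.mem_center_iff.1 hc k]
      have h3 := congrArg e.symm h2
      rw [map_mul, map_mul] at h3
      have h4 : e.symm (π k) = g := by
        rw [MulEquiv.symm_apply_eq]; exact hk
      rwa [h4] at h3
    rw [hcb, Subgroup.mem_bot] at h1
    have h5 : π c = 1 := by
      have := congrArg e h1
      rwa [MulEquiv.apply_symm_apply, map_one] at this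
    exact (QuotientGroup.eq_one_iff _).1 h5
  refine ⟨by rw [hcenter]; exact hcZ, ⟨?_⟩, ?_⟩
  · exact (QuotientGroup.quotientMulEquivOfEq hcenter).trans e.symm
  · intro L hL
    have hidx : L.index = 2 := by rw [hL.index_eq_card, hcenter, hcZ]
    have hLn : L.Normal := Subgroup.normal_of_index_eq_two hidx
    have hle : commutator K ≤ L := by
      rw [commutator_def, Subgroup.commutator_le]
      intro a _ b _
      show a * b * a⁻¹ * b⁻¹ ∈ L
      have h1 := Subgroup.mul_mem_iff_of_index_two hidx (a := a * b * a⁻¹) (b := b⁻¹)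
      have h2 := Subgroup.mul_mem_iff_of_index_two hidx (a := a * b) (b := a⁻¹)
      have h3 := Subgroup.mul_mem_iff_of_index_two hidx (a := a) (b := b)
      rw [Subgroup.inv_mem_iff] at h1 h2
      tauto
    rw [commutator_K, top_le_iff] at hle
    rw [hle, Subgroup.index_top] at hidx
    omega

end Cfsg.Agent.Fischer.Fi23Cover
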