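import Cfsg.Agent.Fischer.Fi23Rel

/-!
The homomorphism `rho : Cfsg.Spor.Fi23 →* Equiv.Perm ℕ` (action on the 31671 cosets of `⟨a, …, i⟩`).
-/

set_option autoImplicit false

namespace Cfsg.Agent.Fischer.Fi23Hom

open Cfsg.Agent.Lib.PermNet Cfsg.Agent.Fischer.Fi23Nets Cfsg.Agent.Fischer.Fi23Rel
open Cfsg.Spor Cfsg.Spor.Fi23

/-- The permutation of a generator. -/
noncomputable def f (x : Gen) : Equiv.Perm ℕ := (net x).perm

theorem sq_of {X : Net} (hX : X.ok (2 ^ 15) = true) (h : checkEq 15 [X, X] [] = true) :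
    (X.perm * X.perm) ^ 1 = 1 := by
  have := wperm_eq_one_of_checkEq (WOk.cons hX (WOk.cons hX (WOk.nil _))) h
  simpa [wperm_cons, wperm_nil] using this

theorem two_of {X Y : Net} (hX : X.ok (2 ^ 15) = true) (hY : Y.ok (2 ^ 15) = true)
    (h : checkEq 15 [X, Y, X, Y] [] = true) : (X.perm * Y.perm) ^ 2 = 1 := by
  have := wperm_eq_one_of_checkEq
    (WOk.cons hX (WOk.cons hY (WOk.cons hX (WOk.cons hY (WOk.nil _))))) h
  simpa [wperm_cons, wperm_nil, pow_succ, mul_assoc] using this

theorem three_of {X Y : Net} (hX : X.ok (2 ^ 15) = true) (hY : Y.ok (2 ^ 15) = true)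
    (h : checkEq 15 [X, Y, X, Y, X, Y] [] = true) : (X.perm * Y.perm) ^ 3 = 1 := by
  have := wperm_eq_one_of_checkEq
    (WOk.cons hX (WOk.cons hY (WOk.cons hX (WOk.cons hY (WOk.cons hX (WOk.cons hY (WOk.nil _))))))) h
  simpa [wperm_cons, wperm_nil, pow_succ, mul_assoc] using this

theorem swap_of {G : Type*} [Group G] {x y : G} {n : ℕ} (h : (x * y) ^ n = 1) : (y * x) ^ n = 1 := by
  have e : y * x = x⁻¹ * (x * y) * x⁻¹⁻¹ := by group
  rw [e, conj_pow, h]
  group

theorem p_aa : (f .a * f .a) ^ 1 = 1 := sq_of ok_a sq_a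
theorem p_ab : (f .a * f .b) ^ 3 = 1 := three_of ok_a ok_b rel_ab
theorem p_ba : (f .b * f .a) ^ 3 = 1 := swap_of p_ab
theorem p_ac : (f .a * f .c) ^ 2 = 1 := two_of ok_a ok_c rel_ac
theorem p_ca : (f .c * f .a) ^ 2 = 1 := swap_of p_ac
theorem p_ad : (f .a * f .d) ^ 2 = 1 := two_of ok_a ok_d rel_ad
theorem p_da : (f .d * f .a) ^ 2 = 1 := swap_of p_ad
theorem p_ae : (f .a * f .e) ^ 2 = 1 := two_of ok_a ok_e rel_ae
theorem p_ea : (f .e * f .a) ^ 2 = 1 := swap_of p_ae
theorem p_af : (f .a * f .f) ^ 2 = 1 := two_of ok_a ok_f rel_af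
theorem p_fa : (f .f * f .a) ^ 2 = 1 := swap_of p_af
theorem p_ag : (f .a * f .g) ^ 2 = 1 := two_of ok_a ok_g rel_ag
theorem p_ga : (f .g * f .a) ^ 2 = 1 := swap_of p_ag
theorem p_aj : (f .a * f .j) ^ 2 = 1 := two_of ok_a ok_j rel_aj
theorem p_ja : (f .j * f .a) ^ 2 = 1 := swap_of p_aj
theorem p_ah : (f .a * f .h) ^ 2 = 1 := two_of ok_a ok_h rel_ah
theorem p_ha : (f .h * f .a) ^ 2 = 1 := swap_of p_ah
theorem p_ai : (f .a * f .i) ^ 2 = 1 := two_of ok_a ok_i rel_ai
theorem p_ia : (f .i * f .a) ^ 2 = 1 := swap_of p_ai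
theorem p_bb : (f .b * f .b) ^ 1 = 1 := sq_of ok_b sq_b
theorem p_bc : (f .b * f .c) ^ 3 = 1 := three_of ok_b ok_c rel_bc
theorem p_cb : (f .c * f .b) ^ 3 = 1 := swap_of p_bc
theorem p_bd : (f .b * f .d) ^ 2 = 1 := two_of ok_b ok_d rel_bd
theorem p_db : (f .d * f .b) ^ 2 = 1 := swap_of p_bd
theorem p_be : (f .b * f .e) ^ 2 = 1 := two_of ok_b ok_e rel_be
theorem p_eb : (f .e * f .b) ^ 2 = 1 := swap_of p_be
theorem p_bf : (f .b * f .f) ^ 2 = 1 := two_of ok_b ok_f rel_bf
theorem p_fb : (f .f * f .b) ^ 2 = 1 := swap_of p_bf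
theorem p_bg : (f .b * f .g) ^ 2 = 1 := two_of ok_b ok_g rel_bg
theorem p_gb : (f .g * f .b) ^ 2 = 1 := swap_of p_bg
theorem p_bj : (f .b * f .j) ^ 2 = 1 := two_of ok_b ok_j rel_bj
theorem p_jb : (f .j * f .b) ^ 2 = 1 := swap_of p_bj
theorem p_bh : (f .b * f .h) ^ 2 = 1 := two_of ok_b ok_h rel_bh
theorem p_hb : (f .h * f .b) ^ 2 = 1 := swap_of p_bh
theorem p_bi : (f .b * f .i) ^ 2 = 1 := two_of ok_b ok_i rel_bi
theorem p_ib : (f .i * f .b) ^ 2 = 1 := swap_of p_bi
theorem p_cc : (f .c * f .c) ^ 1 = 1 := sq_of ok_c sq_c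
theorem p_cd : (f .c * f .d) ^ 3 = 1 := three_of ok_c ok_d rel_cd
theorem p_dc : (f .d * f .c) ^ 3 = 1 := swap_of p_cd
theorem p_ce : (f .c * f .e) ^ 2 = 1 := two_of ok_c ok_e rel_ce
theorem p_ec : (f .e * f .c) ^ 2 = 1 := swap_of p_ce
theorem p_cf : (f .c * f .f) ^ 2 = 1 := two_of ok_c ok_f rel_cf
theorem p_fc : (f .f * f .c) ^ 2 = 1 := swap_of p_cf
theorem p_cg : (f .c * f .g) ^ 2 = 1 := two_of ok_c ok_g rel_cg
theorem p_gc : (f .g * f .c) ^ 2 = 1 := swap_of p_cg
theorem p_cj : (f .c * f .j) ^ 2 = 1 := two_of ok_c ok_j rel_cj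
theorem p_jc : (f .j * f .c) ^ 2 = 1 := swap_of p_cj
theorem p_ch : (f .c * f .h) ^ 2 = 1 := two_of ok_c ok_h rel_ch
theorem p_hc : (f .h * f .c) ^ 2 = 1 := swap_of p_ch
theorem p_ci : (f .c * f .i) ^ 2 = 1 := two_of ok_c ok_i rel_ci
theorem p_ic : (f .i * f .c) ^ 2 = 1 := swap_of p_ci
theorem p_dd : (f .d * f .d) ^ 1 = 1 := sq_of ok_d sq_d
theorem p_de : (f .d * f .e) ^ 3 = 1 := three_of ok_d ok_e rel_de
theorem p_ed : (f .e * f .d) ^ 3 = 1 := swap_of p_de
theorem p_df : (f .d * f .f) ^ 2 = 1 := two_of ok_d ok_f rel_df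
theorem p_fd : (f .f * f .d) ^ 2 = 1 := swap_of p_df
theorem p_dg : (f .d * f .g) ^ 2 = 1 := two_of ok_d ok_g rel_dg
theorem p_gd : (f .g * f .d) ^ 2 = 1 := swap_of p_dg
theorem p_dj : (f .d * f .j) ^ 2 = 1 := two_of ok_d ok_j rel_dj
theorem p_jd : (f .j * f .d) ^ 2 = 1 := swap_of p_dj
theorem p_dh : (f .d * f .h) ^ 3 = 1 := three_of ok_d ok_h rel_dh
theorem p_hd : (f .h * f .d) ^ 3 = 1 := swap_of p_dh
theorem p_di : (f .d * f .i) ^ 2 = 1 := two_of ok_d ok_i rel_di
theorem p_id : (f .i * f .d) ^ 2 = 1 := swap_of p_di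
theorem p_ee : (f .e * f .e) ^ 1 = 1 := sq_of ok_e sq_e
theorem p_ef : (f .e * f .f) ^ 3 = 1 := three_of ok_e ok_f rel_ef
theorem p_fe : (f .f * f .e) ^ 3 = 1 := swap_of p_ef
theorem p_eg : (f .e * f .g) ^ 2 = 1 := two_of ok_e ok_g rel_eg
theorem p_ge : (f .g * f .e) ^ 2 = 1 := swap_of p_eg
theorem p_ej : (f .e * f .j) ^ 2 = 1 := two_of ok_e ok_j rel_ej
theorem p_je : (f .j * f .e) ^ 2 = 1 := swap_of p_ej
theorem p_eh : (f .e * f .h) ^ 2 = 1 := two_of ok_e ok_h rel_eh
theorem p_he : (f .h * f .e) ^ 2 = 1 := swap_of p_eh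
theorem p_ei : (f .e * f .i) ^ 2 = 1 := two_of ok_e ok_i rel_ei
theorem p_ie : (f .i * f .e) ^ 2 = 1 := swap_of p_ei
theorem p_ff : (f .f * f .f) ^ 1 = 1 := sq_of ok_f sq_f
theorem p_fg : (f .f * f .g) ^ 3 = 1 := three_of ok_f ok_g rel_fg
theorem p_gf : (f .g * f .f) ^ 3 = 1 := swap_of p_fg
theorem p_fj : (f .f * f .j) ^ 2 = 1 := two_of ok_f ok_j rel_fj
theorem p_jf : (f .j * f .f) ^ 2 = 1 := swap_of p_fj
theorem p_fh : (f .f * f .h) ^ 2 = 1 := two_of ok_f ok_h rel_fh
theorem p_hf : (f .h * f .f) ^ 2 = 1 := swap_of p_fh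
theorem p_fi : (f .f * f .i) ^ 2 = 1 := two_of ok_f ok_i rel_fi
theorem p_if : (f .i * f .f) ^ 2 = 1 := swap_of p_fi
theorem p_gg : (f .g * f .g) ^ 1 = 1 := sq_of ok_g sq_g
theorem p_gj : (f .g * f .j) ^ 3 = 1 := three_of ok_g ok_j rel_gj
theorem p_jg : (f .j * f .g) ^ 3 = 1 := swap_of p_gj
theorem p_gh : (f .g * f .h) ^ 2 = 1 := two_of ok_g ok_h rel_gh
theorem p_hg : (f .h * f .g) ^ 2 = 1 := swap_of p_gh
theorem p_gi : (f .g * f .i) ^ 2 = 1 := two_of ok_g ok_i rel_gi
theorem p_ig : (f .i * f .g) ^ 2 = 1 := swap_of p_gi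
theorem p_jj : (f .j * f .j) ^ 1 = 1 := sq_of ok_j sq_j
theorem p_jh : (f .j * f .h) ^ 2 = 1 := two_of ok_j ok_h rel_jh
theorem p_hj : (f .h * f .j) ^ 2 = 1 := swap_of p_jh
theorem p_ji : (f .j * f .i) ^ 2 = 1 := two_of ok_j ok_i rel_ji
theorem p_ij : (f .i * f .j) ^ 2 = 1 := swap_of p_ji
theorem p_hh : (f .h * f .h) ^ 1 = 1 := sq_of ok_h sq_h
theorem p_hi : (f .h * f .i) ^ 3 = 1 := three_of ok_h ok_i rel_hi
theorem p_ih : (f .i * f .h) ^ 3 = 1 := swap_of p_hi
theorem p_ii : (f .i * f .i) ^ 1 = 1 := sq_of ok_i sq_i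

theorem label_dec : ∀ x y : Gen, coxLabel edges x y = 1 ∧ x = y ∨ coxLabel edges x y = 2 ∨ coxLabel edges x y = 3 := by
  intro x y
  cases x <;> cases y <;> decide

theorem rel (x y : Gen) : (f x * f y) ^ coxLabel edges x y = 1 := by
  cases x
  · cases y
    · exact (congrArg ((f .a * f .a) ^ ·) (by decide : coxLabel edges .a .a = 1)).trans p_aa
    · exact (congrArg ((f .a * f .b) ^ ·) (by decide : coxLabel edges .a .b = 3)).trans p_ab
    · exact (congrArg ((f .a * f .c) ^ ·) (by decide : coxLabel edges .a .c = 2)).trans p_ac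
    · exact (congrArg ((f .a * f .d) ^ ·) (by decide : coxLabel edges .a .d = 2)).trans p_ad
    · exact (congrArg ((f .a * f .e) ^ ·) (by decide : coxLabel edges .a .e = 2)).trans p_ae
    · exact (congrArg ((f .a * f .f) ^ ·) (by decide : coxLabel edges .a .f = 2)).trans p_af
    · exact (congrArg ((f .a * f .g) ^ ·) (by decide : coxLabel edges .a .g = 2)).trans p_ag
    · exact (congrArg ((f .a * f .j) ^ ·) (by decide : coxLabel edges .a .j = 2)).trans p_aj
    · exact (congrArg ((f .a * f .h) ^ ·) (by decide : coxLabel edges .a .h = 2)).trans p_ah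
    · exact (congrArg ((f .a * f .i) ^ ·) (by decide : coxLabel edges .a .i = 2)).trans p_ai
  · cases y
    · exact (congrArg ((f .b * f .a) ^ ·) (by decide : coxLabel edges .b .a = 3)).trans p_ba
    · exact (congrArg ((f .b * f .b) ^ ·) (by decide : coxLabel edges .b .b = 1)).trans p_bb
    · exact (congrArg ((f .b * f .c) ^ ·) (by decide : coxLabel edges .b .c = 3)).trans p_bc
    · exact (congrArg ((f .b * f .d) ^ ·) (by decide : coxLabel edges .b .d = 2)).trans p_bd
    · exact (congrArg ((f .b * f .e) ^ ·) (by decide : coxLabel edges .b .e = 2)).trans p_be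
    · exact (congrArg ((f .b * f .f) ^ ·) (by decide : coxLabel edges .b .f = 2)).trans p_bf
    · exact (congrArg ((f .b * f .g) ^ ·) (by decide : coxLabel edges .b .g = 2)).trans p_bg
    · exact (congrArg ((f .b * f .j) ^ ·) (by decide : coxLabel edges .b .j = 2)).trans p_bj
    · exact (congrArg ((f .b * f .h) ^ ·) (by decide : coxLabel edges .b .h = 2)).trans p_bh
    · exact (congrArg ((f .b * f .i) ^ ·) (by decide : coxLabel edges .b .i = 2)).trans p_bi
  · cases y
    · exact (congrArg ((f .c * f .a) ^ ·) (by decide : coxLabel edges .c .a = 2)).trans p_ca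
    · exact (congrArg ((f .c * f .b) ^ ·) (by decide : coxLabel edges .c .b = 3)).trans p_cb
    · exact (congrArg ((f .c * f .c) ^ ·) (by decide : coxLabel edges .c .c = 1)).trans p_cc
    · exact (congrArg ((f .c * f .d) ^ ·) (by decide : coxLabel edges .c .d = 3)).trans p_cd
    · exact (congrArg ((f .c * f .e) ^ ·) (by decide : coxLabel edges .c .e = 2)).trans p_ce
    · exact (congrArg ((f .c * f .f) ^ ·) (by decide : coxLabel edges .c .f = 2)).trans p_cf
    · exact (congrArg ((f .c * f .g) ^ ·) (by decide : coxLabel edges .c .g = 2)).trans p_cg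
    · exact (congrArg ((f .c * f .j) ^ ·) (by decide : coxLabel edges .c .j = 2)).trans p_cj
    · exact (congrArg ((f .c * f .h) ^ ·) (by decide : coxLabel edges .c .h = 2)).trans p_ch
    · exact (congrArg ((f .c * f .i) ^ ·) (by decide : coxLabel edges .c .i = 2)).trans p_ci
  · cases y
    · exact (congrArg ((f .d * f .a) ^ ·) (by decide : coxLabel edges .d .a = 2)).trans p_da
    · exact (congrArg ((f .d * f .b) ^ ·) (by decide : coxLabel edges .d .b = 2)).trans p_db
    · exact (congrArg ((f .d * f .c) ^ ·) (by decide : coxLabel edges .d .c = 3)).trans p_dc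
    · exact (congrArg ((f .d * f .d) ^ ·) (by decide : coxLabel edges .d .d = 1)).trans p_dd
    · exact (congrArg ((f .d * f .e) ^ ·) (by decide : coxLabel edges .d .e = 3)).trans p_de
    · exact (congrArg ((f .d * f .f) ^ ·) (by decide : coxLabel edges .d .f = 2)).trans p_df
    · exact (congrArg ((f .d * f .g) ^ ·) (by decide : coxLabel edges .d .g = 2)).trans p_dg
    · exact (congrArg ((f .d * f .j) ^ ·) (by decide : coxLabel edges .d .j = 2)).trans p_dj
    · exact (congrArg ((f .d * f .h) ^ ·) (by decide : coxLabel edges .d .h = 3)).trans p_dh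
    · exact (congrArg ((f .d * f .i) ^ ·) (by decide : coxLabel edges .d .i = 2)).trans p_di
  · cases y
    · exact (congrArg ((f .e * f .a) ^ ·) (by decide : coxLabel edges .e .a = 2)).trans p_ea
    · exact (congrArg ((f .e * f .b) ^ ·) (by decide : coxLabel edges .e .b = 2)).trans p_eb
    · exact (congrArg ((f .e * f .c) ^ ·) (by decide : coxLabel edges .e .c = 2)).trans p_ec
    · exact (congrArg ((f .e * f .d) ^ ·) (by decide : coxLabel edges .e .d = 3)).trans p_ed
    · exact (congrArg ((f .e * f .e) ^ ·) (by decide : coxLabel edges .e .e = 1)).trans p_ee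
    · exact (congrArg ((f .e * f .f) ^ ·) (by decide : coxLabel edges .e .f = 3)).trans p_ef
    · exact (congrArg ((f .e * f .g) ^ ·) (by decide : coxLabel edges .e .g = 2)).trans p_eg
    · exact (congrArg ((f .e * f .j) ^ ·) (by decide : coxLabel edges .e .j = 2)).trans p_ej
    · exact (congrArg ((f .e * f .h) ^ ·) (by decide : coxLabel edges .e .h = 2)).trans p_eh
    · exact (congrArg ((f .e * f .i) ^ ·) (by decide : coxLabel edges .e .i = 2)).trans p_ei
  · cases y
    · exact (congrArg ((f .f * f .a) ^ ·) (by decide : coxLabel edges .f .a = 2)).trans p_fa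
    · exact (congrArg ((f .f * f .b) ^ ·) (by decide : coxLabel edges .f .b = 2)).trans p_fb
    · exact (congrArg ((f .f * f .c) ^ ·) (by decide : coxLabel edges .f .c = 2)).trans p_fc
    · exact (congrArg ((f .f * f .d) ^ ·) (by decide : coxLabel edges .f .d = 2)).trans p_fd
    · exact (congrArg ((f .f * f .e) ^ ·) (by decide : coxLabel edges .f .e = 3)).trans p_fe
    · exact (congrArg ((f .f * f .f) ^ ·) (by decide : coxLabel edges .f .f = 1)).trans p_ff
    · exact (congrArg ((f .f * f .g) ^ ·) (by decide : coxLabel edges .f .g = 3)).trans p_fg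
    · exact (congrArg ((f .f * f .j) ^ ·) (by decide : coxLabel edges .f .j = 2)).trans p_fj
    · exact (congrArg ((f .f * f .h) ^ ·) (by decide : coxLabel edges .f .h = 2)).trans p_fh
    · exact (congrArg ((f .f * f .i) ^ ·) (by decide : coxLabel edges .f .i = 2)).trans p_fi
  · cases y
    · exact (congrArg ((f .g * f .a) ^ ·) (by decide : coxLabel edges .g .a = 2)).trans p_ga
    · exact (congrArg ((f .g * f .b) ^ ·) (by decide : coxLabel edges .g .b = 2)).trans p_gb
    · exact (congrArg ((f .g * f .c) ^ ·) (by decide : coxLabel edges .g .c = 2)).trans p_gc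
    · exact (congrArg ((f .g * f .d) ^ ·) (by decide : coxLabel edges .g .d = 2)).trans p_gd
    · exact (congrArg ((f .g * f .e) ^ ·) (by decide : coxLabel edges .g .e = 2)).trans p_ge
    · exact (congrArg ((f .g * f .f) ^ ·) (by decide : coxLabel edges .g .f = 3)).trans p_gf
    · exact (congrArg ((f .g * f .g) ^ ·) (by decide : coxLabel edges .g .g = 1)).trans p_gg
    · exact (congrArg ((f .g * f .j) ^ ·) (by decide : coxLabel edges .g .j = 3)).trans p_gj
    · exact (congrArg ((f .g * f .h) ^ ·) (by decide : coxLabel edges .g .h = 2)).trans p_gh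
    · exact (congrArg ((f .g * f .i) ^ ·) (by decide : coxLabel edges .g .i = 2)).trans p_gi
  · cases y
    · exact (congrArg ((f .j * f .a) ^ ·) (by decide : coxLabel edges .j .a = 2)).trans p_ja
    · exact (congrArg ((f .j * f .b) ^ ·) (by decide : coxLabel edges .j .b = 2)).trans p_jb
    · exact (congrArg ((f .j * f .c) ^ ·) (by decide : coxLabel edges .j .c = 2)).trans p_jc
    · exact (congrArg ((f .j * f .d) ^ ·) (by decide : coxLabel edges .j .d = 2)).trans p_jd
    · exact (congrArg ((f .j * f .e) ^ ·) (by decide : coxLabel edges .j .e = 2)).trans p_je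
    · exact (congrArg ((f .j * f .f) ^ ·) (by decide : coxLabel edges .j .f = 2)).trans p_jf
    · exact (congrArg ((f .j * f .g) ^ ·) (by decide : coxLabel edges .j .g = 3)).trans p_jg
    · exact (congrArg ((f .j * f .j) ^ ·) (by decide : coxLabel edges .j .j = 1)).trans p_jj
    · exact (congrArg ((f .j * f .h) ^ ·) (by decide : coxLabel edges .j .h = 2)).trans p_jh
    · exact (congrArg ((f .j * f .i) ^ ·) (by decide : coxLabel edges .j .i = 2)).trans p_ji
  · cases y
    · exact (congrArg ((f .h * f .a) ^ ·) (by decide : coxLabel edges .h .a = 2)).trans p_ha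
    · exact (congrArg ((f .h * f .b) ^ ·) (by decide : coxLabel edges .h .b = 2)).trans p_hb
    · exact (congrArg ((f .h * f .c) ^ ·) (by decide : coxLabel edges .h .c = 2)).trans p_hc
    · exact (congrArg ((f .h * f .d) ^ ·) (by decide : coxLabel edges .h .d = 3)).trans p_hd
    · exact (congrArg ((f .h * f .e) ^ ·) (by decide : coxLabel edges .h .e = 2)).trans p_he
    · exact (congrArg ((f .h * f .f) ^ ·) (by decide : coxLabel edges .h .f = 2)).trans p_hf
    · exact (congrArg ((f .h * f .g) ^ ·) (by decide : coxLabel edges .h .g = 2)).trans p_hg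
    · exact (congrArg ((f .h * f .j) ^ ·) (by decide : coxLabel edges .h .j = 2)).trans p_hj
    · exact (congrArg ((f .h * f .h) ^ ·) (by decide : coxLabel edges .h .h = 1)).trans p_hh
    · exact (congrArg ((f .h * f .i) ^ ·) (by decide : coxLabel edges .h .i = 3)).trans p_hi
  · cases y
    · exact (congrArg ((f .i * f .a) ^ ·) (by decide : coxLabel edges .i .a = 2)).trans p_ia
    · exact (congrArg ((f .i * f .b) ^ ·) (by decide : coxLabel edges .i .b = 2)).trans p_ib
    · exact (congrArg ((f .i * f .c) ^ ·) (by decide : coxLabel edges .i .c = 2)).trans p_ic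
    · exact (congrArg ((f .i * f .d) ^ ·) (by decide : coxLabel edges .i .d = 2)).trans p_id
    · exact (congrArg ((f .i * f .e) ^ ·) (by decide : coxLabel edges .i .e = 2)).trans p_ie
    · exact (congrArg ((f .i * f .f) ^ ·) (by decide : coxLabel edges .i .f = 2)).trans p_if
    · exact (congrArg ((f .i * f .g) ^ ·) (by decide : coxLabel edges .i .g = 2)).trans p_ig
    · exact (congrArg ((f .i * f .j) ^ ·) (by decide : coxLabel edges .i .j = 2)).trans p_ij
    · exact (congrArg ((f .i * f .h) ^ ·) (by decide : coxLabel edges .i .h = 3)).trans p_ih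
    · exact (congrArg ((f .i * f .i) ^ ·) (by decide : coxLabel edges .i .i = 1)).trans p_ii

theorem spider_rel : (f .d * f .c * f .b * f .d * f .e * f .f * f .d * f .h * f .i) ^ 10 = 1 := by
  have hs : WOk (2 ^ 15) spider := wok [.d, .c, .b, .d, .e, .f, .d, .h, .i]
  have hs' : WOk (2 ^ 15) spider10 := by
    unfold spider10
    repeat' first | exact hs | apply WOk.append
  have h : wperm spider10 = wperm [] := by
    apply wperm_eq_of_planes hs' (WOk.nil _)
    intro b hb
    interval_cases b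
    · exact spider_0
    · exact spider_1
    · exact spider_2
    · exact spider_3
    · exact spider_4
    · exact spider_5
    · exact spider_6
    · exact spider_7
    · exact spider_8
    · exact spider_9
    · exact spider_10
    · exact spider_11
    · exact spider_12
    · exact spider_13
    · exact spider_14
  have e : wperm spider10 = (wperm spider) ^ 10 := by
    unfold spider10
    simp only [wperm_append, pow_succ, pow_zero, one_mul, mul_assoc]
  have e2 : wperm spider = f .d * f .c * f .b * f .d * f .e * f .f * f .d * f .h * f .i := by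
    unfold spider
    simp only [wperm_cons, wperm_nil, mul_one, mul_assoc]
    rfl
  rw [← e2, ← e, h, wperm_nil]

theorem cox7_rel : (f .a * f .b * f .c * f .d * f .e * f .f * f .h) ^ 9 = 1 := by
  have hs : WOk (2 ^ 15) cox7 := wok [.a, .b, .c, .d, .e, .f, .h]
  have hs' : WOk (2 ^ 15) cox79 := by
    unfold cox79
    repeat' first | exact hs | apply WOk.append
  have h : wperm cox79 = wperm [] := by
    apply wperm_eq_of_planes hs' (WOk.nil _)
    intro b hb
    interval_cases b
    · exact cox7_0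
    · exact cox7_1
    · exact cox7_2
    · exact cox7_3
    · exact cox7_4
    · exact cox7_5
    · exact cox7_6
    · exact cox7_7
    · exact cox7_8
    · exact cox7_9
    · exact cox7_10
    · exact cox7_11
    · exact cox7_12
    · exact cox7_13
    · exact cox7_14
  have e : wperm cox79 = (wperm cox7) ^ 9 := by
    unfold cox79
    simp only [wperm_append, pow_succ, pow_zero, one_mul, mul_assoc]
  have e2 : wperm cox7 = f .a * f .b * f .c * f .d * f .e * f .f * f .h := by
    unfold cox7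
    simp only [wperm_cons, wperm_nil, mul_one, mul_assoc]
    rfl
  rw [← e2, ← e, h, wperm_nil]

theorem rels_hold : ∀ r ∈ coxRelators edges ∪ {r | r ∈ extra}, FreeGroup.lift f r = 1 := by
  rintro r (⟨x, _, y, _, rfl⟩ | hr)
  · rw [map_pow, map_mul, FreeGroup.lift_apply_of, FreeGroup.lift_apply_of]
    exact rel x y
  · have hr' : r ∈ extra := hr
    unfold extra at hr'
    rw [List.mem_cons, List.mem_cons] at hr'
    rcases hr' with rfl | rfl | hr'
    · simp only [map_pow, map_mul, FreeGroup.lift_apply_of]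
      exact spider_rel
    · simp only [map_pow, map_mul, FreeGroup.lift_apply_of]
      exact cox7_rel
    · exact absurd hr' (by simp)

/-- The permutation representation of the presented group `Fi23` of degree 31671. -/
noncomputable def rho : Fi23 →* Equiv.Perm ℕ := PresentedGroup.toGroup (f := f) rels_hold

/-- The generators of the presented group. -/
def gen (x : Gen) : Fi23 := PresentedGroup.of x

theorem rho_gen (x : Gen) : rho (gen x) = (net x).perm := PresentedGroup.toGroup.of rels_hold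

end Cfsg.Agent.Fischer.Fi23Hom
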