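import Cfsg.Agent.Fischer.Fi23OrbData

/-!
Kernel checks on the degree 31671 action of the presented group `Fi23`: transitivity, suborbits of
`⟨a, …, i⟩`, stabiliser chain, the transposition `z0 = (bcdefgh)^9`.
-/

set_option autoImplicit false
set_option maxRecDepth 100000

namespace Cfsg.Agent.Fischer.Fi23Orb

open Cfsg.Agent.Lib.PermNet Cfsg.Agent.Lib.PermNetOrbit Cfsg.Agent.Fischer.Fi23Nets
  Cfsg.Agent.Fischer.Fi23Rel Cfsg.Agent.Fischer.Fi23Hom Cfsg.Agent.Fischer.Fi23OrbData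
open Cfsg.Spor Cfsg.Spor.Fi23

/-- The network words of a list of words in the generators. -/
noncomputable def nw (ws : List (List Gen)) : List (List Net) := ws.map (fun l => l.map net)

theorem nw_ok (ws : List (List Gen)) : WsOk (2 ^ 15) (nw ws) := by
  intro w hw
  obtain ⟨l, _, rfl⟩ := List.mem_map.1 hw
  exact wok l

/-- The group element of a word in the generators. -/
def word (l : List Gen) : Fi23 := (l.map gen).prod

theorem rho_word (l : List Gen) : rho (word l) = wperm (l.map net) := by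
  unfold word
  induction l with
  | nil => simp
  | cons x l ih =>
    rw [List.map_cons, List.prod_cons, map_mul, rho_gen, List.map_cons, wperm_cons, ih]

theorem nw_img (ws : List (List Gen)) : ∀ w ∈ nw ws, ∃ g, rho g = wperm w := by
  intro w hw
  obtain ⟨l, _, rfl⟩ := List.mem_map.1 hw
  exact ⟨word l, rho_word l⟩

/-! ### Transitivity -/

/-- all generators, as one letter words -/
def w0 : List (List Gen) := [[.j], [.g], [.f], [.e], [.d], [.c], [.b], [.a], [.h], [.i]]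

/-- the generators of the point stabiliser -/
def w1 : List (List Gen) := [[.g], [.f], [.e], [.d], [.c], [.b], [.a], [.h], [.i]]

theorem sat0 : Nat.beq (sat (nw w0) 9 (2 ^ 0)) (Nat.sub (Nat.pow 2 (31671 : ℕ)) 1) = true := by decide +kernel

theorem trans (i : ℕ) (hi : i < 31671) : ∃ g, rho g 0 = i := by
  have h := Nat.eq_of_beq_eq_true sat0
  have hb : (sat (nw w0) 9 (2 ^ 0)).testBit i = true := by
    rw [h]
    show (2 ^ 31671 - 1).testBit i = true
    rw [Nat.testBit_two_pow_sub_one]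
    simpa using hi
  obtain ⟨g, ⟨x, _, rfl⟩, hg⟩ := sat_point_spec (K := (⊤ : Subgroup Fi23).map rho) (nw_ok w0) (fun w hw => by
    obtain ⟨g, hg⟩ := nw_img w0 w hw
    exact ⟨g, trivial, hg⟩) 9 hb
  exact ⟨x, hg⟩

theorem fix0 : fixB (nw w1) 0 = true := by decide +kernel

/-! ### Suborbits -/

theorem sat1 : Nat.beq (sat (nw w1) 9 (2 ^ 1)) U1 = true := by decide +kernel
theorem sat2 : Nat.beq (sat (nw w1) 8 (2 ^ 52)) U2 = true := by decide +kernel
theorem closed1 : closedB (nw w1) U1 = true := by decide +kernel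
theorem closed2 : closedB (nw w1) U2 = true := by decide +kernel
theorem tb1 : tb U1 1 = true := by decide +kernel
theorem tb2 : tb U2 52 = true := by decide +kernel
theorem lt1 : Nat.beq (Nat.shiftRight U1 (Nat.pow 2 (15 : ℕ))) 0 = true := by decide +kernel
theorem lt2 : Nat.beq (Nat.shiftRight U2 (Nat.pow 2 (15 : ℕ))) 0 = true := by decide +kernel
theorem pc1 : Nat.beq (pc 15 U1) (28160 : ℕ) = true := by decide +kernel
theorem pc2 : Nat.beq (pc 15 U2) (3510 : ℕ) = true := by decide +kernel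

/-- The set of generators `a, …, i` in the presented group. -/
def S1 : Set Fi23 := {g | ∃ l ∈ w1, word l = g}

/-- The subgroup `⟨a, …, i⟩`. -/
def H : Subgroup Fi23 := Subgroup.closure S1

theorem H_fix (h : Fi23) (hh : h ∈ H) : rho h 0 = 0 := by
  unfold H at hh
  induction hh using Subgroup.closure_induction with
  | mem x hx =>
    obtain ⟨l, hl, rfl⟩ := hx
    rw [rho_word]
    exact fixB_spec (nw_ok w1) fix0 _ (List.mem_map_of_mem hl)
  | one => rw [map_one]; rfl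
  | mul x y _ _ hx hy => rw [map_mul, Equiv.Perm.mul_apply, hy, hx]
  | inv x _ hx => rw [map_inv, Equiv.Perm.inv_eq_iff_eq, hx]

theorem hS (g : Fi23) (hg : g ∈ S1) : ∃ w ∈ nw w1, wperm w = rho g := by
  obtain ⟨l, hl, rfl⟩ := hg
  exact ⟨l.map net, List.mem_map_of_mem hl, (rho_word l).symm⟩

theorem hS' (w : List Net) (hw : w ∈ nw w1) : ∃ g ∈ S1, wperm w = rho g := by
  obtain ⟨l, hl, rfl⟩ := List.mem_map.1 hw
  exact ⟨word l, ⟨l, hl, rfl⟩, (rho_word l).symm⟩

theorem orb1 : {p : ℕ | ∃ x ∈ H, rho x 1 = p} = {p | U1.testBit p = true} :=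
  orbit_closure_eq rho S1 (nw_ok w1) hS hS' sat1 closed1 tb1

theorem orb2 : {p : ℕ | ∃ x ∈ H, rho x 52 = p} = {p | U2.testBit p = true} :=
  orbit_closure_eq rho S1 (nw_ok w1) hS hS' sat2 closed2 tb2

theorem ncard_orb1 : {p : ℕ | ∃ x ∈ H, rho x 1 = p}.ncard = 28160 := by
  rw [orb1]; exact ncard_testBit lt1 pc1

theorem ncard_orb2 : {p : ℕ | ∃ x ∈ H, rho x 52 = p}.ncard = 3510 := by
  rw [orb2]; exact ncard_testBit lt2 pc2

/-- Index and suborbits of `H = ⟨a, …, i⟩`, given the upper bound for the index. -/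
theorem index_and_suborbits (hub : H.index ≤ 31671) (hne : H.index ≠ 0) :
    H.index = 31671 ∧ (∀ g, rho g 0 = 0 ↔ g ∈ H) ∧ (∀ g, rho g 0 < 31671) ∧
    ∃ q₁ q₂ : Fi23 ⧸ H, (MulAction.orbit H q₁).ncard = 3510 ∧ (MulAction.orbit H q₂).ncard = 28160 := by
  obtain ⟨h1, h2, h3⟩ := index_eq_of_action H rho 31671 H_fix trans hub hne
  obtain ⟨g1, hg1⟩ := trans 1 (by norm_num)
  obtain ⟨g2, hg2⟩ := trans 52 (by norm_num)
  refine ⟨h1, h2, h3, (g2 : Fi23 ⧸ H), (g1 : Fi23 ⧸ H), ?_, ?_⟩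
  · rw [ncard_orbit_quotient H H rho h2, hg2]; exact ncard_orb2
  · rw [ncard_orbit_quotient H H rho h2, hg1]; exact ncard_orb1

/-! ### Stabiliser chain -/

def w2 : List (List Gen) := [[.a], [.b], [.c], [.d], [.e], [.f], [.h], [.i]]

def w3 : List (List Gen) := [[.b, .c, .d, .h, .g, .j, .a, .b, .c, .d, .e, .f, .g, .j, .g, .f, .e, .d, .c, .b,
  .a, .j, .g, .h, .d, .c, .b], [.c], [.d], [.e], [.f], [.h], [.i]]

def w4 : List (List Gen) := [[.c], [.e], [.f], [.h], [.i], [.d, .e, .f, .h, .d, .c, .i, .h, .d, .e, .d, .h, .i, .c, .d, .h, .f, .e, .d],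
  [.g, .f, .e, .d, .c, .b, .a, .h, .d, .e, .f, .g, .i, .h, .d, .b, .d, .h, .i, .g, .f, .e, .d,
  .h, .a, .b, .c, .d, .e, .f, .g, .b, .c, .d, .h, .g, .j, .a, .b, .c, .d, .e, .f, .g, .j, .g,
  .f, .e, .d, .c, .b, .a, .j, .g, .h, .d, .c, .b, .i, .h, .f, .d, .e, .b, .c, .d, .h, .g, .j,
  .a, .b, .c, .d, .e, .f, .g, .j, .g, .f, .e, .d, .c, .b, .a, .j, .g, .h, .d, .c, .b, .i, .c,
  .d, .e, .b, .c, .d, .h, .g, .j, .a, .b, .c, .d, .e, .f, .g, .j, .g, .f, .e, .d, .c, .b, .a,
  .j, .g, .h, .d, .c, .b]]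

theorem cfix0 : fixAllB (nw w0) [] = true := by decide +kernel
theorem cm0 : Nat.ble (31671 : ℕ) (pc 15 (sat (nw w0) 9 (Nat.pow 2 (0 : ℕ)))) = true := by decide +kernel
theorem clt0 : Nat.beq (Nat.shiftRight (sat (nw w0) 9 (Nat.pow 2 (0 : ℕ))) (Nat.pow 2 (15 : ℕ))) 0 = true := by decide +kernel

theorem cfix1 : fixAllB (nw w1) [0] = true := by decide +kernel
theorem cm1 : Nat.ble (28160 : ℕ) (pc 15 (sat (nw w1) 9 (Nat.pow 2 (1 : ℕ)))) = true := by decide +kernel
theorem clt1 : Nat.beq (Nat.shiftRight (sat (nw w1) 9 (Nat.pow 2 (1 : ℕ))) (Nat.pow 2 (15 : ℕ))) 0 = true := by decide +kernel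

theorem cfix2 : fixAllB (nw w2) [1, 0] = true := by decide +kernel
theorem cm2 : Nat.ble (351 : ℕ) (pc 15 (sat (nw w2) 7 (Nat.pow 2 (11589 : ℕ)))) = true := by decide +kernel
theorem clt2 : Nat.beq (Nat.shiftRight (sat (nw w2) 7 (Nat.pow 2 (11589 : ℕ))) (Nat.pow 2 (15 : ℕ))) 0 = true := by decide +kernel

theorem cfix3 : fixAllB (nw w3) [11589, 1, 0] = true := by decide +kernel
theorem cm3 : Nat.ble (20160 : ℕ) (pc 15 (sat (nw w3) 6 (Nat.pow 2 (224 : ℕ)))) = true := by decide +kernel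
theorem clt3 : Nat.beq (Nat.shiftRight (sat (nw w3) 6 (Nat.pow 2 (224 : ℕ))) (Nat.pow 2 (15 : ℕ))) 0 = true := by decide +kernel

theorem cfix4 : fixAllB (nw w4) [224, 11589, 1, 0] = true := by decide +kernel
theorem cm4 : Nat.ble (648 : ℕ) (pc 15 (sat (nw w4) 3 (Nat.pow 2 (1086 : ℕ)))) = true := by decide +kernel
theorem clt4 : Nat.beq (Nat.shiftRight (sat (nw w4) 3 (Nat.pow 2 (1086 : ℕ))) (Nat.pow 2 (15 : ℕ))) 0 = true := by decide +kernel

/-- Lower bound for the order of the presented group. -/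
theorem card_ge [Finite Fi23] : 4089470473293004800 ≤ Nat.card Fi23 := by
  have h0 := stabL_step_of_check (k := 15) rho [] 0 31671 9 (nw_ok w0) (nw_img w0) cfix0 cm0 clt0
  have h1 := stabL_step_of_check (k := 15) rho [0] 1 28160 9 (nw_ok w1) (nw_img w1) cfix1 cm1 clt1
  have h2 := stabL_step_of_check (k := 15) rho [1, 0] 11589 351 7 (nw_ok w2) (nw_img w2) cfix2 cm2 clt2
  have h3 := stabL_step_of_check (k := 15) rho [11589, 1, 0] 224 20160 6 (nw_ok w3) (nw_img w3) cfix3 cm3 clt3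
  have h4 := stabL_step_of_check (k := 15) rho [224, 11589, 1, 0] 1086 648 3 (nw_ok w4) (nw_img w4) cfix4 cm4 clt4
  have h5 : 1 ≤ Nat.card (stabL rho [1086, 224, 11589, 1, 0]) := Nat.card_pos
  have h6 : Nat.card (stabL rho []) ≤ Nat.card Fi23 := Nat.card_le_card_of_injective _ Subtype.val_injective
  calc 4089470473293004800 = 31671 * (28160 * (351 * (20160 * (648 * 1)))) := by norm_num
    _ ≤ 31671 * (28160 * (351 * (20160 * (648 * Nat.card (stabL rho [1086, 224, 11589, 1, 0]))))) := by gcongr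
    _ ≤ 31671 * (28160 * (351 * (20160 * Nat.card (stabL rho [224, 11589, 1, 0])))) := by gcongr
    _ ≤ 31671 * (28160 * (351 * Nat.card (stabL rho [11589, 1, 0]))) := by gcongr
    _ ≤ 31671 * (28160 * Nat.card (stabL rho [1, 0])) := by gcongr
    _ ≤ 31671 * Nat.card (stabL rho [0]) := by gcongr
    _ ≤ Nat.card (stabL rho []) := h0
    _ ≤ Nat.card Fi23 := h6

end Cfsg.Agent.Fischer.Fi23Orb
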