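import Cfsg.Agent.Fischer.Fi23H
import Cfsg.Agent.SporRec.Fi23Index

/-!
The presented group `Fi23` is simple of order 4089470473293004800.
-/

set_option autoImplicit false

namespace Cfsg.Agent.Fischer.Fi23Simple

open Cfsg.Agent.Fischer Cfsg.Agent.Fischer.Fi23Orb Cfsg.Agent.Fischer.Fi23H
open Cfsg.Spor Cfsg.Spor.Fi23

theorem H_eq_index : Fi23Orb.H = Cfsg.Agent.SporRec.Fi23Index.H := by
  rw [Fi23H.H_eq, Cfsg.Agent.SporRec.Fi23Index.H]
  congr 1
  ext x
  constructor
  · rintro ⟨k, rfl⟩
    refine ⟨node k, ?_, rfl⟩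
    show node k ≠ .j
    revert k
    decide
  · rintro ⟨a, ha, rfl⟩
    have h : ∃ k : Fin 9, node k = a := by
      have ha' : a ≠ .j := ha
      revert ha'
      cases a <;> decide
    obtain ⟨k, rfl⟩ := h
    exact ⟨k, rfl⟩

theorem index_H : Fi23Orb.H.index = 31671 := by
  rw [H_eq_index]; exact Cfsg.Agent.SporRec.Fi23Index.index_H

/-- The presented group `Fi23` is simple of order 4089470473293004800. -/
theorem isFi23 : Cfsg.IsFi23 Cfsg.Spor.Fi23 :=
  isFi23_of_index (by rw [index_H]) (by rw [index_H]; norm_num)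

instance : Finite Cfsg.Spor.Fi23 := by
  have := isFi23.2
  exact Nat.finite_of_card_ne_zero (by rw [this]; norm_num)

theorem card_Fi23 : Nat.card Cfsg.Spor.Fi23 = 4089470473293004800 := isFi23.2

/-- The action on 31671 points is faithful. -/
theorem rho_injective : Function.Injective Cfsg.Agent.Fischer.Fi23Hom.rho :=
  Cfsg.Agent.Fischer.Fi23Final.rho_injective card_Fi23.le

end Cfsg.Agent.Fischer.Fi23Simple
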