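import Cfsg.Agent.Fischer.Fi24RepRes
import Cfsg.Agent.Fischer.CosetSimple
import Cfsg.Prelude.Def_Sporadic

/-!
The commutator subgroup of the presented group `Fi24` is simple of order 1255205709190661721292800, given the upper
bounds for the index and the order of the subgroup `H = ⟨a, …, j, l⟩`.
-/

set_option autoImplicit false
set_option maxRecDepth 100000

namespace Cfsg.Agent.Fischer.Fi24Final

open Cfsg.Agent.Lib.PermNet Cfsg.Agent.Fischer.Fi24RepDef Cfsg.Agent.Fischer.Fi24Rep
  Cfsg.Agent.Fischer.Fi24RepOrbData Cfsg.Agent.Fischer.Fi24RepOrb Cfsg.Agent.Fischer.Fi24RepRes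
open Cfsg.Spor Cfsg.Spor.Fi24

/-! ### Relations in the presented group -/

theorem mem_nodes (x : Gen) : x ∈ coxNodes edges := by
  cases x <;> decide

theorem gen_rel (x y : Gen) : (gen x * gen y) ^ coxLabel edges x y = 1 := by
  have h : (FreeGroup.of x * FreeGroup.of y) ^ coxLabel edges x y ∈ coxRelators edges ∪ {r | r ∈ extra} :=
    Or.inl ⟨x, mem_nodes x, y, mem_nodes y, rfl⟩
  have := PresentedGroup.one_of_mem h
  rw [map_pow, map_mul] at this
  exact this

theorem gen_sq (x : Gen) : gen x * gen x = 1 := by
  have h := gen_rel x x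
  have hl : coxLabel edges x x = 1 := by cases x <;> decide
  rw [hl, pow_one] at h
  exact h

theorem gen_comm {x y : Gen} (hl : coxLabel edges x y = 2) : gen x * gen y = gen y * gen x := by
  have h := gen_rel x y
  rw [hl, pow_two] at h
  have hx := gen_sq x
  have hy := gen_sq y
  calc gen x * gen y = (gen x * gen y) * (gen y * gen x) * (gen x * gen y) := by
        rw [mul_assoc (gen x) (gen y), ← mul_assoc (gen y) (gen y), hy, one_mul, hx, one_mul]
    _ = (gen x * gen y * (gen x * gen y)) * ((gen x * gen y)⁻¹ * (gen y * gen x)) * (gen x * gen y) := by group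
    _ = (gen x * gen y)⁻¹ * (gen y * gen x) * (gen x * gen y) := by rw [h, one_mul]
    _ = (gen y * gen x) := by
        have e : (gen x * gen y)⁻¹ = gen y * gen x := by
          rw [mul_inv_rev, inv_eq_of_mul_eq_one_left hx, inv_eq_of_mul_eq_one_left hy]
        rw [e, mul_assoc (gen y * gen x), show gen y * gen x * (gen x * gen y) = 1 by
          rw [mul_assoc, ← mul_assoc (gen x), hx, one_mul, hy], mul_one]

/-- `y` is conjugate to `x` when `x`, `y` are joined. -/
theorem conj_of_edge {G : Type*} [Group G] {x y : G} (hx : x * x = 1) (hy : y * y = 1)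
    (h : (x * y) ^ 3 = 1) : y = (x * y) * x * (x * y)⁻¹ := by
  have hx' : x⁻¹ = x := inv_eq_of_mul_eq_one_left hx
  have hy' : y⁻¹ = y := inv_eq_of_mul_eq_one_left hy
  rw [mul_inv_rev, hx', hy']
  have h3 : x * y * x * y * x * y = 1 := by
    rw [pow_succ, pow_succ, pow_one] at h
    simpa [mul_assoc] using h
  calc y = x * y * x * y * x * y * y := by rw [h3, one_mul]
    _ = x * y * x * (y * x) * (y * y) := by group
    _ = x * y * x * (y * x) := by rw [hy, mul_one]

theorem gens_top : Subgroup.closure (Set.range gen) = ⊤ :=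
  PresentedGroup.closure_range_of _

/-- `l` centralises `H`. -/
theorem h_comm : ∀ h ∈ H, h * gen .l = gen .l * h := by
  intro h hh
  unfold H at hh
  rw [S1_eq] at hh
  induction hh using Subgroup.closure_induction with
  | mem x hx =>
    obtain ⟨x, hx, rfl⟩ := hx
    have hx' : x ≠ .k := hx
    by_cases hl : x = .l
    · subst hl; rfl
    · exact gen_comm (by revert hx' hl; cases x <;> decide)
  | one => simp
  | mul x y _ _ hx hy => rw [mul_assoc, hy, ← mul_assoc, hx, mul_assoc]
  | inv x _ hx =>
    rw [inv_mul_eq_iff_eq_mul, ← mul_assoc, hx, mul_assoc, mul_inv_cancel, mul_one]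

/-- A normal subgroup containing `gen l` contains all generators. -/
theorem top_of_mem_l (N : Subgroup Cfsg.Spor.Fi24) (hN : N.Normal) (hj : gen .l ∈ N) : N = ⊤ := by
  have step : ∀ x y : Gen, coxLabel edges x y = 3 → gen x ∈ N → gen y ∈ N := by
    intro x y hl hx
    have h := gen_rel x y
    rw [hl] at h
    rw [conj_of_edge (gen_sq x) (gen_sq y) h]
    exact hN.conj_mem _ hx _
  have hk := step .l .k (by decide) hj
  have ha := step .k .a (by decide) hk
  have hb := step .a .b (by decide) ha
  have hc := step .b .c (by decide) hb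
  have hd := step .c .d (by decide) hc
  have he := step .d .e (by decide) hd
  have hf := step .e .f (by decide) he
  have hg := step .f .g (by decide) hf
  have hj' := step .g .j (by decide) hg
  have hh := step .d .h (by decide) hd
  have hi := step .h .i (by decide) hh
  rw [eq_top_iff, ← gens_top, Subgroup.closure_le]
  rintro _ ⟨x, rfl⟩
  cases x <;> assumption

theorem normalClosure_l : Subgroup.normalClosure {gen .l} = (⊤ : Subgroup Cfsg.Spor.Fi24) :=
  top_of_mem_l _ Subgroup.normalClosure_normal (Subgroup.subset_normalClosure (Set.mem_singleton _))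

/-! ### The sign character -/

theorem sign_rels : ∀ r ∈ coxRelators edges ∪ {r | r ∈ extra},
    FreeGroup.lift (fun _ : Gen => (-1 : ℤˣ)) r = 1 := by
  rintro r (⟨x, _, y, _, rfl⟩ | hr)
  · rw [map_pow, map_mul, FreeGroup.lift_apply_of, FreeGroup.lift_apply_of]
    simp
  · have hr' : r = Fi24.l * (((Fi24.a * Fi24.b * Fi24.c * Fi24.d * Fi24.e * Fi24.f * Fi24.h) ^ 9)⁻¹) ∨
        r = (Fi24.d * Fi24.c * Fi24.b * Fi24.a * Fi24.k * Fi24.l * Fi24.d * Fi24.e * Fi24.f * Fi24.g * Fi24.j *
          Fi24.d * Fi24.h * Fi24.i) ^ 17 := by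
      have hr2 : r ∈ extra := hr
      unfold extra at hr2
      simpa using hr2
    rcases hr' with rfl | rfl
    · simp only [map_mul, map_pow, map_inv, FreeGroup.lift_apply_of]
      decide
    · simp only [map_mul, map_pow, FreeGroup.lift_apply_of]
      decide

/-- The sign character. -/
def sgn : Cfsg.Spor.Fi24 →* ℤˣ := PresentedGroup.toGroup sign_rels

theorem sgn_gen (x : Gen) : sgn (gen x) = -1 := PresentedGroup.toGroup.of _

theorem ab_gen (x : Gen) : Abelianization.of (gen x) = Abelianization.of (gen .l) := by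
  have step : ∀ x y : Gen, coxLabel edges x y = 3 →
      Abelianization.of (gen y) = Abelianization.of (gen x) := by
    intro x y hl
    have h := gen_rel x y
    rw [hl] at h
    conv_lhs => rw [conj_of_edge (gen_sq x) (gen_sq y) h]
    simp only [map_mul, map_inv]
    rw [mul_comm (Abelianization.of (gen x) * Abelianization.of (gen y)), mul_assoc,
      mul_inv_cancel, mul_one]
  have hk := step .l .k (by decide)
  have ha := (step .k .a (by decide)).trans hk
  have hb := (step .a .b (by decide)).trans ha
  have hc := (step .b .c (by decide)).trans hb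
  have hd := (step .c .d (by decide)).trans hc
  have he := (step .d .e (by decide)).trans hd
  have hf := (step .e .f (by decide)).trans he
  have hg := (step .f .g (by decide)).trans hf
  have hj := (step .g .j (by decide)).trans hg
  have hh := (step .d .h (by decide)).trans hd
  have hi := (step .h .i (by decide)).trans hh
  cases x <;> first | assumption | rfl

/-- The commutator subgroup is the kernel of the sign character. -/
theorem ker_sgn : sgn.ker = commutator Cfsg.Spor.Fi24 := by
  apply le_antisymm
  · -- every element is a product of generators; modulo the commutator subgroup it is 1 or `l`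
    have key : ∀ g : Cfsg.Spor.Fi24,
        (Abelianization.of g = 1 ∧ sgn g = 1) ∨ (Abelianization.of g = Abelianization.of (gen .l) ∧ sgn g = -1) := by
      have hl2 : Abelianization.of (gen .l) * Abelianization.of (gen .l) = 1 := by
        rw [← map_mul, gen_sq, map_one]
      have hl3 : (Abelianization.of (gen .l))⁻¹ = Abelianization.of (gen .l) :=
        inv_eq_of_mul_eq_one_left hl2
      intro g
      have hg : g ∈ Subgroup.closure (Set.range gen) := by rw [gens_top]; trivial
      induction hg using Subgroup.closure_induction with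
      | mem x hx =>
        obtain ⟨y, rfl⟩ := hx
        exact Or.inr ⟨ab_gen y, sgn_gen y⟩
      | one => exact Or.inl ⟨map_one _, map_one _⟩
      | mul x y _ _ hx hy =>
        rw [map_mul, map_mul]
        rcases hx with ⟨h1, h2⟩ | ⟨h1, h2⟩ <;> rcases hy with ⟨h3, h4⟩ | ⟨h3, h4⟩ <;>
          rw [h1, h2, h3, h4]
        · left; simp
        · right; simp
        · right; simp
        · left; exact ⟨hl2, by simp⟩
      | inv x _ hx =>
        rw [map_inv, map_inv]
        rcases hx with ⟨h1, h2⟩ | ⟨h1, h2⟩ <;> rw [h1, h2]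
        · left; simp
        · right; exact ⟨hl3, by simp⟩
    intro g hg
    rw [← Abelianization.ker_of, MonoidHom.mem_ker]
    rcases key g with ⟨h1, _⟩ | ⟨_, h2⟩
    · exact h1
    · rw [MonoidHom.mem_ker] at hg
      rw [hg] at h2
      exact absurd h2 (by decide)
  · exact Abelianization.commutator_subset_ker sgn

theorem index_commutator : (commutator Cfsg.Spor.Fi24).index = 2 := by
  rw [← ker_sgn, Subgroup.index_ker]
  have : sgn.range = ⊤ := by
    rw [eq_top_iff]
    intro u _
    rcases Int.units_eq_one_or u with rfl | rfl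
    · exact ⟨1, map_one _⟩
    · exact ⟨gen .l, sgn_gen .l⟩
  rw [this, Subgroup.card_top, Nat.card_eq_fintype_card]
  rfl

/-! ### Simplicity -/

/-- An element fixing all 306936 points is trivial. -/
theorem eq_one_of_fixes (hub : H.index ≤ 306936) (hne : H.index ≠ 0) (hfin : Finite H)
    (hH : Nat.card H ≤ 8178940946586009600) {g : Cfsg.Spor.Fi24}
    (hg : ∀ q, UG.testBit q = true → rho g q = q) : g = 1 := by
  obtain ⟨_, hst, _⟩ := index_and_suborbits hub hne
  have hgH : g ∈ H := (hst g).1 (hg 0 (by rw [← tb_eq]; exact tbG))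
  have h1 : phiH ⟨g, hgH⟩ = 1 := by
    ext i
    by_cases hi : i < 31671
    · rw [phiH_of_lt _ hi]
      show σ⁻¹ (rho g (σ i)) = i
      rw [hg (σ i) (by rw [testBit_UG, UW_σ, decide_eq_true hi]; rfl)]
      exact σ.symm_apply_apply _
    · rw [phiH_of_ge _ hi]; rfl
  rcases (ker_phiH hfin hH).1 h1 with h | h
  · exact congrArg Subtype.val h
  · exfalso
    have e : g = gen .l := congrArg Subtype.val h
    have h2 : rho0 .l 307872 = 307872 := by
      rw [← rho_gen, ← e]
      apply hg
      rw [testBit_UG, ← tb_eq UR, tbR]; simp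
    rw [rho0_fst (x := .l) rfl, ← Net.pt_eq (ok_net .l)] at h2
    have h3 := Fi24RepResChk.l_moves
    rw [h2] at h3
    exact absurd h3 (by simp)

theorem core_free (hub : H.index ≤ 306936) (hne : H.index ≠ 0) (hfin : Finite H)
    (hH : Nat.card H ≤ 8178940946586009600) (N : Subgroup Cfsg.Spor.Fi24) (hN : N.Normal) (hNH : N ≤ H) :
    N = ⊥ := by
  rw [eq_bot_iff]
  intro g hg
  rw [Subgroup.mem_bot]
  refine eq_one_of_fixes hub hne hfin hH ?_
  intro q hq
  have hq' : q ∈ {p : ℕ | ∃ x, rho x 0 = p} := by rw [orbG]; exact hq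
  obtain ⟨k, rfl⟩ := hq'
  have h := H_fix _ (hNH (hN.conj_mem g hg k⁻¹))
  rw [inv_inv, map_mul, map_mul, Equiv.Perm.mul_apply, Equiv.Perm.mul_apply, map_inv,
    Equiv.Perm.inv_eq_iff_eq] at h
  exact h

theorem isCoatom_H (hub : H.index ≤ 306936) (hne : H.index ≠ 0) : IsCoatom H := by
  obtain ⟨hidx, hst, q₁, q₂, ho1, ho2⟩ := index_and_suborbits hub hne
  exact Cfsg.Agent.Fischer.CosetSimple.isCoatom_of_suborbits H (n := 306936)
    (a := 31671) (b := 275264) hidx (by norm_num) q₁ q₂ ho1 ho2 (by norm_num) (by norm_num) (by norm_num)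
    (by norm_num) (by norm_num)

theorem card_commutator (hub : H.index ≤ 306936) (hne : H.index ≠ 0) (hfin : Finite H)
    (hH : Nat.card H ≤ 8178940946586009600) :
    Nat.card (commutator Cfsg.Spor.Fi24) = 1255205709190661721292800 := by
  have h1 := Subgroup.card_mul_index (commutator Cfsg.Spor.Fi24)
  rw [index_commutator, card_eq hub hne hfin hH] at h1
  omega

theorem not_isSquare : ¬ IsSquare (1255205709190661721292800 : ℕ) := by
  rintro ⟨r, hr⟩
  have h29 : Nat.Prime 29 := by norm_num
  have h1 : 29 ∣ r * r := by rw [← hr]; norm_num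
  have h2 : 29 ∣ r := by
    rcases h29.dvd_mul.1 h1 with h | h <;> exact h
  have h3 : 29 * 29 ∣ 1255205709190661721292800 := by
    rw [hr]; exact Nat.mul_dvd_mul h2 h2
  exact absurd h3 (by norm_num)

/-- The commutator subgroup of the presented group `Fi24` is simple of the right order, given the upper bounds. -/
theorem isFi24prime_of (hub : H.index ≤ 306936) (hne : H.index ≠ 0) (hfin : Finite H)
    (hH : Nat.card H ≤ 8178940946586009600) : Cfsg.IsFi24' Cfsg.Spor.Fi24' := by
  have hf := finite_Fi24 hne hfin
  have hcard := card_commutator hub hne hfin hH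
  refine ⟨?_, hcard⟩
  refine Cfsg.Agent.Fischer.CosetSimple.isSimpleGroup_commutator H (isCoatom_H hub hne) (gen .l) h_comm
    normalClosure_l (core_free hub hne hfin hH) index_commutator ?_
  rw [hcard]
  exact not_isSquare

end Cfsg.Agent.Fischer.Fi24Final
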