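import Cfsg.Agent.SporRec.Fi24Index

/-!
The index of `H = ⟨a, …, j, l⟩` in the presented group `Fi24` is at most 306936 (re-export of the bulk certificate
`Cfsg.Agent.SporRec.Fi24Index`).
-/

set_option autoImplicit false

namespace Cfsg.Agent.Fischer.Fi24Index

theorem index_le : Cfsg.Agent.Fischer.Fi24RepOrb.H.index ≠ 0 ∧ Cfsg.Agent.Fischer.Fi24RepOrb.H.index ≤ 306936 :=
  ⟨Cfsg.Agent.SporRec.Fi24Index.index_le.2, Cfsg.Agent.SporRec.Fi24Index.index_le.1⟩

end Cfsg.Agent.Fischer.Fi24Index
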