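import Cfsg.Agent.Fischer.Fi24Rep
import Cfsg.Agent.Fischer.HeInFi24Chk

/-!
The Held group in the presented group `Fi24`: a nontrivial homomorphism `He →* Fi24`, given that the stabiliser of the
point `0` centralises `l` and that the centre of `Fi24` is trivial. The relations are checked on the points of the
generators of `Fi24`.
-/

set_option autoImplicit false
set_option linter.constructorNameAsVariable false

namespace Cfsg.Agent.Fischer.HeInFi24

open Cfsg.Agent.Lib.PermNet Cfsg.Agent.Lib.PermNetPt Cfsg.Agent.Lib.PermNetOrbit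
  Cfsg.Agent.Fischer.Fi24RepDef Cfsg.Agent.Fischer.Fi24Rep
  Cfsg.Agent.Fischer.HeInFi24Def Cfsg.Agent.Fischer.HeInFi24Chk

theorem word_nil : word [] = 1 := rfl

theorem word_cons (x : Cfsg.Spor.Fi24.Gen) (l : List Cfsg.Spor.Fi24.Gen) : word (x :: l) = gen x * word l := by
  unfold word; rw [List.map_cons, List.prod_cons]

theorem word_append (l l' : List Cfsg.Spor.Fi24.Gen) : word (l ++ l') = word l * word l' := by
  unfold word; rw [List.map_append, List.prod_append]

theorem mem_nodes (x : Cfsg.Spor.Fi24.Gen) : x ∈ Cfsg.Spor.coxNodes Cfsg.Spor.Fi24.edges := by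
  cases x <;> decide

theorem gen_rel (x y : Cfsg.Spor.Fi24.Gen) :
    (gen x * gen y) ^ Cfsg.Spor.coxLabel Cfsg.Spor.Fi24.edges x y = 1 :=
  PresentedGroup.one_of_mem (rels := Cfsg.Spor.coxRelators Cfsg.Spor.Fi24.edges ∪ {r | r ∈ Cfsg.Spor.Fi24.extra})
    (Or.inl ⟨x, mem_nodes x, y, mem_nodes y, rfl⟩)

theorem gen_sq (x : Cfsg.Spor.Fi24.Gen) : gen x * gen x = 1 := by
  have h := gen_rel x x
  have e : Cfsg.Spor.coxLabel Cfsg.Spor.Fi24.edges x x = 1 := by cases x <;> decide
  rwa [e, pow_one] at h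

theorem gen_inv (x : Cfsg.Spor.Fi24.Gen) : (gen x)⁻¹ = gen x := inv_eq_of_mul_eq_one_left (gen_sq x)

theorem gen_braid {x y : Cfsg.Spor.Fi24.Gen} (h : Cfsg.Spor.coxLabel Cfsg.Spor.Fi24.edges x y = 3) :
    gen x * gen y * gen x = gen y * gen x * gen y := by
  have h3 := gen_rel x y
  rw [h] at h3
  have h4 : gen x * gen y * gen x * (gen y * gen x * gen y) = 1 := by
    rw [← h3]; simp only [pow_succ, pow_zero, one_mul, mul_assoc]
  rw [← mul_inv_eq_one, mul_inv_rev, mul_inv_rev, gen_inv, gen_inv, ← h4]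
  simp only [mul_assoc]

theorem word_reverse (l : List Cfsg.Spor.Fi24.Gen) : word l.reverse = (word l)⁻¹ := by
  induction l with
  | nil => simp [word_nil]
  | cons x l ih =>
    rw [List.reverse_cons, word_append, ih, word_cons, word_cons, word_nil, mul_one, mul_inv_rev, gen_inv]

theorem conj_step {x y : Cfsg.Spor.Fi24.Gen} (w : List Cfsg.Spor.Fi24.Gen)
    (hy : gen y = word w * gen .l * (word w)⁻¹) (h : Cfsg.Spor.coxLabel Cfsg.Spor.Fi24.edges y x = 3) :
    gen x = word (y :: x :: w) * gen .l * (word (y :: x :: w))⁻¹ := by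
  rw [word_cons, word_cons, mul_inv_rev, mul_inv_rev, gen_inv, gen_inv]
  have e : gen y * (gen x * word w) * gen .l * ((word w)⁻¹ * gen x * gen y) =
      gen y * (gen x * (word w * gen .l * (word w)⁻¹) * gen x) * gen y := by
    simp only [mul_assoc]
  rw [e, ← hy, ← gen_braid h]
  calc gen x = (gen y * gen y) * gen x * (gen y * gen y) := by rw [gen_sq]; simp
    _ = _ := by simp only [mul_assoc]

theorem gen_eq (x : Cfsg.Spor.Fi24.Gen) : gen x = word (stdW x) * gen .l * (word (stdW x))⁻¹ := by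
  have hl : gen .l = word (stdW .l) * gen .l * (word (stdW .l))⁻¹ := by simp [stdW, word_nil]
  have hk := conj_step (x := .k) (stdW .l) hl (by decide)
  have ha := conj_step (x := .a) (stdW .k) hk (by decide)
  have hb := conj_step (x := .b) (stdW .a) ha (by decide)
  have hc := conj_step (x := .c) (stdW .b) hb (by decide)
  have hd := conj_step (x := .d) (stdW .c) hc (by decide)
  have he := conj_step (x := .e) (stdW .d) hd (by decide)
  have hf := conj_step (x := .f) (stdW .e) he (by decide)
  have hg := conj_step (x := .g) (stdW .f) hf (by decide)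
  have hj := conj_step (x := .j) (stdW .g) hg (by decide)
  have hh := conj_step (x := .h) (stdW .d) hd (by decide)
  have hi := conj_step (x := .i) (stdW .h) hh (by decide)
  cases x
  · exact hl
  · exact hk
  · exact ha
  · exact hb
  · exact hc
  · exact hd
  · exact he
  · exact hf
  · exact hg
  · exact hj
  · exact hh
  · exact hi

theorem chk_all (x : Cfsg.Spor.Fi24.Gen) : chk x = true := by
  cases x
  · exact chk_l
  · exact chk_k
  · exact chk_a
  · exact chk_b
  · exact chk_c
  · exact chk_d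
  · exact chk_e
  · exact chk_f
  · exact chk_g
  · exact chk_j
  · exact chk_h
  · exact chk_i

/-- The relations of `He` fix the points of the generators. -/
theorem fix {l : List Cfsg.Spor.He.Gen} (hl : l ∈ hrels) (x : Cfsg.Spor.Fi24.Gen) :
    rho (word (ww l)) (rho (word (stdW x)) 0) = rho (word (stdW x)) 0 := by
  have h := chk_all x
  unfold chk at h
  rw [force_eq] at h
  have h1 := chkFix_spec h rws_ok (nw (ww l) false) (List.mem_map_of_mem hl) _ List.mem_cons_self
  rw [winv_eq (wok (stdW x).reverse false), ← rho_word, ← rho_word, ← map_inv, word_reverse, inv_inv] at h1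
  exact h1

section

variable (hst : ∀ g : Cfsg.Spor.Fi24, rho g 0 = 0 → g * gen .l = gen .l * g)

include hst

/-- The relations of `He` commute with the generators of `Fi24`. -/
theorem comm_gen {l : List Cfsg.Spor.He.Gen} (hl : l ∈ hrels) (x : Cfsg.Spor.Fi24.Gen) :
    word (ww l) * gen x = gen x * word (ww l) := by
  have h := fix hl x
  have h1 : rho ((word (stdW x))⁻¹ * word (ww l) * word (stdW x)) 0 = 0 := by
    rw [map_mul, map_mul, Equiv.Perm.mul_apply, Equiv.Perm.mul_apply, h, ← Equiv.Perm.mul_apply, ← map_mul,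
      inv_mul_cancel, map_one, Equiv.Perm.one_apply]
  have h2 := hst _ h1
  rw [gen_eq x]
  calc word (ww l) * (word (stdW x) * gen .l * (word (stdW x))⁻¹)
      = word (stdW x) * ((word (stdW x))⁻¹ * word (ww l) * word (stdW x) * gen .l) * (word (stdW x))⁻¹ := by group
    _ = word (stdW x) * (gen .l * ((word (stdW x))⁻¹ * word (ww l) * word (stdW x))) * (word (stdW x))⁻¹ := by
      rw [h2]
    _ = word (stdW x) * gen .l * (word (stdW x))⁻¹ * word (ww l) := by group

theorem comm_all {l : List Cfsg.Spor.He.Gen} (hl : l ∈ hrels) (g : Cfsg.Spor.Fi24) :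
    word (ww l) * g = g * word (ww l) := by
  have h : g ∈ Subgroup.centralizer {word (ww l)} := by
    refine PresentedGroup.generated_by _ _ (fun x => ?_) g
    rw [Subgroup.mem_centralizer_singleton_iff]
    exact (comm_gen hst hl x).symm
  rw [Subgroup.mem_centralizer_singleton_iff] at h
  exact h.symm

variable (hz : ∀ z : Cfsg.Spor.Fi24, (∀ g, z * g = g * z) → rho z 0 = 0 → z = 1)

include hz

theorem rel_one {l : List Cfsg.Spor.He.Gen} (hl : l ∈ hrels) : word (ww l) = 1 := by
  refine hz _ (comm_all hst hl) ?_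
  have h := fix hl .l
  rwa [show stdW .l = [] from rfl, word_nil, map_one, Equiv.Perm.one_apply] at h

end

/-- The image of a generator of `He`. -/
noncomputable def im (x : Cfsg.Spor.He.Gen) : Cfsg.Spor.Fi24 := word (W x)

theorem word_ww (l : List Cfsg.Spor.He.Gen) : word (ww l) = (l.map im).prod := by
  induction l with
  | nil => rfl
  | cons x l ih => rw [ww_cons, word_append, ih, List.map_cons, List.prod_cons]; rfl

theorem cox_rel_he {G : Type*} [Group G] (f : Cfsg.Spor.He.Gen → G) (h : ∀ l ∈ hrels, (l.map f).prod = 1)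
    (x y : Cfsg.Spor.He.Gen) : (f x * f y) ^ Cfsg.Spor.coxLabel Cfsg.Spor.He.edges x y = 1 := by
  have sq : ∀ x, f x * f x = 1 := by
    intro x
    have h0 := h [x, x] (by cases x <;> decide)
    simpa using h0
  have comm2 : ∀ {x y : Cfsg.Spor.He.Gen}, [x, y, x, y] ∈ hrels → (f x * f y) ^ 2 = 1 := by
    intro x y hxy
    have h0 := h _ hxy
    simpa [pow_succ, mul_assoc] using h0
  have swap : ∀ {x y : Cfsg.Spor.He.Gen} {n : ℕ}, (f x * f y) ^ n = 1 → (f y * f x) ^ n = 1 := by
    intro x y n h0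
    have e : f y * f x = (f x)⁻¹ * (f x * f y) * ((f x)⁻¹)⁻¹ := by group
    rw [e, conj_pow, h0]; group
  have hE : f .e = (f .f * f .g) ^ 2 := by
    have h0 := h [.e, .f, .g, .f, .g] (by decide)
    simp only [List.map_cons, List.map_nil, List.prod_cons, List.prod_nil, mul_one] at h0
    have h1 : f .e * (f .f * f .g) ^ 2 = 1 := by
      rw [← h0]; simp only [pow_succ, pow_zero, one_mul, mul_assoc]
    rw [← inv_eq_of_mul_eq_one_right (sq .e)]
    exact inv_eq_of_mul_eq_one_right h1
  have hA : f .a = (f .c * f .d) ^ 5 := by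
    have h0 := h [.a, .c, .d, .c, .d, .c, .d, .c, .d, .c, .d] (by decide)
    simp only [List.map_cons, List.map_nil, List.prod_cons, List.prod_nil, mul_one] at h0
    have h1 : f .a * (f .c * f .d) ^ 5 = 1 := by
      rw [← h0]; simp only [pow_succ, pow_zero, one_mul, mul_assoc]
    rw [← inv_eq_of_mul_eq_one_right (sq .a)]
    exact inv_eq_of_mul_eq_one_right h1
  have hfg : (f .f * f .g) ^ 4 = 1 := by
    rw [show 4 = 2 * 2 from rfl, pow_mul, ← hE, pow_two, sq]
  have hcd : (f .c * f .d) ^ 10 = 1 := by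
    rw [show 10 = 5 * 2 from rfl, pow_mul, ← hA, pow_two, sq]
  have hab : (f .a * f .b) ^ 4 = 1 := by
    have h0 := h [.a, .b, .a, .b, .a, .b, .a, .b] (by decide)
    simpa [pow_succ, mul_assoc] using h0
  have hbc : (f .b * f .c) ^ 3 = 1 := by
    have h0 := h [.b, .c, .b, .c, .b, .c] (by decide)
    simpa [pow_succ, mul_assoc] using h0
  have hde : (f .d * f .e) ^ 3 = 1 := by
    have h0 := h [.d, .e, .d, .e, .d, .e] (by decide)
    simpa [pow_succ, mul_assoc] using h0
  have hdf : (f .d * f .f) ^ 3 = 1 := by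
    have h0 := h [.d, .f, .d, .f, .d, .f] (by decide)
    simpa [pow_succ, mul_assoc] using h0
  have hdg : (f .d * f .g) ^ 3 = 1 := by
    have h0 := h [.d, .g, .d, .g, .d, .g] (by decide)
    simpa [pow_succ, mul_assoc] using h0
  cases x <;> cases y
  case a.a | b.b | c.c | d.d | e.e | f.f | g.g =>
    rw [show Cfsg.Spor.coxLabel Cfsg.Spor.He.edges _ _ = 1 by decide, pow_one]; exact sq _
  case a.b => exact hab
  case b.a => exact swap hab
  case b.c => exact hbc
  case c.b => exact swap hbc
  case c.d => exact hcd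
  case d.c => exact swap hcd
  case d.e => exact hde
  case e.d => exact swap hde
  case d.f => exact hdf
  case f.d => exact swap hdf
  case d.g => exact hdg
  case g.d => exact swap hdg
  case f.g => exact hfg
  case g.f => exact swap hfg
  case a.c | a.d | a.e | a.f | a.g | b.d | b.e | b.f | b.g | c.e | c.f | c.g | e.f | e.g =>
    exact comm2 (by decide)
  case c.a | d.a | e.a | f.a | g.a | d.b | e.b | f.b | g.b | e.c | f.c | g.c | f.e | g.e =>
    exact swap (comm2 (by decide))

theorem lift_he {G : Type*} [Group G] (f : Cfsg.Spor.He.Gen → G) (h : ∀ l ∈ hrels, (l.map f).prod = 1) :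
    ∀ r ∈ Cfsg.Spor.coxRelators Cfsg.Spor.He.edges ∪ {r | r ∈ Cfsg.Spor.He.extra}, FreeGroup.lift f r = 1 := by
  refine cox_lift_eq_one f _ _ (fun x _ y _ => cox_rel_he f h x y) ?_
  have sq : ∀ x, f x * f x = 1 := by
    intro x
    have h0 := h [x, x] (by cases x <;> decide)
    simpa using h0
  intro r hr
  have hr' : r = Cfsg.Spor.He.e * ((Cfsg.Spor.He.f * Cfsg.Spor.He.g) ^ 2)⁻¹ ∨
      r = Cfsg.Spor.He.e * ((Cfsg.Spor.He.a * Cfsg.Spor.He.b * Cfsg.Spor.He.c) ^ 3)⁻¹ ∨
      r = Cfsg.Spor.He.a * ((Cfsg.Spor.He.c * Cfsg.Spor.He.d) ^ 5)⁻¹ ∨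
      r = (Cfsg.Spor.He.c * Cfsg.Spor.He.d * Cfsg.Spor.He.f * Cfsg.Spor.He.g) ^ 4 := by
    unfold Cfsg.Spor.He.extra at hr
    simpa using hr
  have key : ∀ {x y : G}, x * x = 1 → x * y = 1 → x * y⁻¹ = 1 := by
    intro x y hx hxy
    rw [mul_inv_eq_one]
    exact mul_left_cancel (hx.trans hxy.symm)
  rcases hr' with rfl | rfl | rfl | rfl
  · simp only [map_mul, map_pow, map_inv, FreeGroup.lift_apply_of]
    refine key (sq _) ?_
    have h0 := h [.e, .f, .g, .f, .g] (by decide)
    simpa [pow_succ, mul_assoc] using h0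
  · simp only [map_mul, map_pow, map_inv, FreeGroup.lift_apply_of]
    refine key (sq _) ?_
    have h0 := h [.e, .a, .b, .c, .a, .b, .c, .a, .b, .c] (by decide)
    simpa [pow_succ, mul_assoc] using h0
  · simp only [map_mul, map_pow, map_inv, FreeGroup.lift_apply_of]
    refine key (sq _) ?_
    have h0 := h [.a, .c, .d, .c, .d, .c, .d, .c, .d, .c, .d] (by decide)
    simpa [pow_succ, mul_assoc] using h0
  · simp only [map_mul, map_pow, FreeGroup.lift_apply_of]
    have h0 := h [.c, .d, .f, .g, .c, .d, .f, .g, .c, .d, .f, .g, .c, .d, .f, .g] (by decide)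
    simpa [pow_succ, mul_assoc] using h0

/-- The generator `a` of `He` is not mapped to `1`. -/
theorem word_W_a_ne_one : word (W .a) ≠ 1 := by
  intro h
  have h1 : rho (word (W .a)) = 1 := by rw [h, map_one]
  rw [rho_word] at h1
  have h2 : winv (nw (W .a) false) (winv (nw (stdW .k).reverse false) 0) =
      winv (nw (stdW .k).reverse false) 0 := by
    rw [winv_eq (wok _ _), h1, inv_one, Equiv.Perm.one_apply]
  have h3 : force (winv (nw (stdW .k).reverse false) 0)
      (fun p => Nat.beq (winv (nw (W .a) false) p) p) = false := by decide +kernel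
  rw [force_eq, h2, Nat.beq_refl] at h3
  exact absurd h3 (by simp)

/-- The homomorphism `He →* Fi24`. The hypotheses: the stabiliser of the point `0` centralises `l`, and a central
element fixing the point `0` is trivial. -/
theorem he_hom (hst : ∀ g : Cfsg.Spor.Fi24, rho g 0 = 0 → g * gen .l = gen .l * g)
    (hz : ∀ z : Cfsg.Spor.Fi24, (∀ g, z * g = g * z) → rho z 0 = 0 → z = 1) :
    ∃ ψ : Cfsg.Spor.He →* Cfsg.Spor.Fi24, (∀ x, ψ (PresentedGroup.of x) = word (W x)) ∧
      ψ (PresentedGroup.of .a) ≠ 1 := by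
  have h : ∀ l ∈ hrels, (l.map im).prod = 1 := fun l hl => by
    rw [← word_ww]; exact rel_one hst hz hl
  refine ⟨PresentedGroup.toGroup (lift_he im h), fun x => PresentedGroup.toGroup.of _, ?_⟩
  rw [PresentedGroup.toGroup.of]
  exact word_W_a_ne_one

/-- The presented group `He` is perfect: homomorphisms to commutative groups are trivial. -/
theorem he_hom_comm {A : Type*} [CommGroup A] (f : Cfsg.Spor.He →* A) (g : Cfsg.Spor.He) : f g = 1 := by
  have rel : ∀ x y : Cfsg.Spor.He.Gen,
      (f (PresentedGroup.of x) * f (PresentedGroup.of y)) ^ Cfsg.Spor.coxLabel Cfsg.Spor.He.edges x y = 1 := by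
    intro x y
    have h : (PresentedGroup.of x * PresentedGroup.of y : Cfsg.Spor.He) ^
        Cfsg.Spor.coxLabel Cfsg.Spor.He.edges x y = 1 := by
      refine PresentedGroup.one_of_mem (rels := Cfsg.Spor.coxRelators Cfsg.Spor.He.edges ∪
        {r | r ∈ Cfsg.Spor.He.extra}) (Or.inl ⟨x, ?_, y, ?_, rfl⟩)
      · cases x <;> decide
      · cases y <;> decide
    rw [← map_mul, ← map_pow, h, map_one]
  have sq : ∀ x : Cfsg.Spor.He.Gen, f (PresentedGroup.of x) * f (PresentedGroup.of x) = 1 := by
    intro x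
    have h := rel x x
    rwa [show Cfsg.Spor.coxLabel Cfsg.Spor.He.edges x x = 1 by cases x <;> decide, pow_one] at h
  have odd : ∀ {u v : A}, u * u = 1 → v * v = 1 → (u * v) ^ 3 = 1 → u = v := by
    intro u v hu hv h
    have h1 : (u * v) ^ 3 = (u * u) * (v * v) * (u * v) := by
      simp only [pow_succ, pow_zero, one_mul]
      simp only [mul_comm, mul_left_comm]
    rw [h1, hu, hv, one_mul, one_mul] at h
    exact mul_right_cancel (h.trans hv.symm)
  have hbc := odd (sq .b) (sq .c) (rel .b .c)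
  have hde := odd (sq .d) (sq .e) (rel .d .e)
  have hdf := odd (sq .d) (sq .f) (rel .d .f)
  have hdg := odd (sq .d) (sq .g) (rel .d .g)
  have ext : ∀ r ∈ Cfsg.Spor.He.extra, f (PresentedGroup.mk _ r) = 1 := by
    intro r hr
    have h : (PresentedGroup.mk (Cfsg.Spor.coxRelators Cfsg.Spor.He.edges ∪ {r | r ∈ Cfsg.Spor.He.extra}) r) = 1 :=
      PresentedGroup.one_of_mem (Or.inr hr)
    rw [h, map_one]
  have e1 := ext (Cfsg.Spor.He.e * ((Cfsg.Spor.He.f * Cfsg.Spor.He.g) ^ 2)⁻¹) (by simp [Cfsg.Spor.He.extra])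
  have e2 := ext (Cfsg.Spor.He.e * ((Cfsg.Spor.He.a * Cfsg.Spor.He.b * Cfsg.Spor.He.c) ^ 3)⁻¹)
    (by simp [Cfsg.Spor.He.extra])
  have e3 := ext (Cfsg.Spor.He.a * ((Cfsg.Spor.He.c * Cfsg.Spor.He.d) ^ 5)⁻¹) (by simp [Cfsg.Spor.He.extra])
  simp only [map_mul, map_inv, map_pow] at e1 e2 e3
  change f (PresentedGroup.of .e) * ((f (PresentedGroup.of .f) * f (PresentedGroup.of .g)) ^ 2)⁻¹ = 1 at e1
  change f (PresentedGroup.of .e) *
    ((f (PresentedGroup.of .a) * f (PresentedGroup.of .b) * f (PresentedGroup.of .c)) ^ 3)⁻¹ = 1 at e2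
  change f (PresentedGroup.of .a) * ((f (PresentedGroup.of .c) * f (PresentedGroup.of .d)) ^ 5)⁻¹ = 1 at e3
  have hE : f (PresentedGroup.of .e) = 1 := by
    rw [mul_inv_eq_one] at e1
    rw [e1, ← hdf, ← hdg, sq, one_pow]
  have hD : f (PresentedGroup.of .d) = 1 := by rw [hde, hE]
  have hA : f (PresentedGroup.of .a) = 1 := by
    rw [mul_inv_eq_one, ← hbc, mul_assoc, sq, mul_one, hE] at e2
    rw [pow_succ, pow_two, sq, one_mul] at e2
    exact e2.symm
  have hC : f (PresentedGroup.of .c) = 1 := by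
    rw [mul_inv_eq_one, hD, mul_one, hA] at e3
    have h5 : f (PresentedGroup.of .c) ^ 5 = f (PresentedGroup.of .c) := by
      have h6 : f (PresentedGroup.of .c) ^ 5 = (f (PresentedGroup.of .c) * f (PresentedGroup.of .c)) *
          (f (PresentedGroup.of .c) * f (PresentedGroup.of .c)) * f (PresentedGroup.of .c) := by
        simp only [pow_succ, pow_zero, one_mul, mul_assoc]
      rw [h6, sq, one_mul, one_mul]
    rw [h5] at e3
    exact e3.symm
  have all : ∀ x : Cfsg.Spor.He.Gen, f (PresentedGroup.of x) = 1 := by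
    intro x
    cases x
    · exact hA
    · exact hbc.trans hC
    · exact hC
    · exact hD
    · exact hE
    · exact hdf.symm.trans hD
    · exact hdg.symm.trans hD
  have h : g ∈ f.ker := PresentedGroup.generated_by _ _ (fun x => all x) g
  exact h

/-- The image of a homomorphism from `He` lies in every subgroup of index 2. -/
theorem he_range_le {G : Type*} [Group G] (ψ : Cfsg.Spor.He →* G) (N : Subgroup G) (hN : N.index = 2)
    (x : Cfsg.Spor.He) : ψ x ∈ N := by
  have : N.Normal := Subgroup.normal_of_index_eq_two hN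
  have : Fact (Nat.Prime 2) := ⟨Nat.prime_two⟩
  have hc : Nat.card (G ⧸ N) = 2 := hN
  have hcyc : IsCyclic (G ⧸ N) := isCyclic_of_prime_card hc
  let _ : CommGroup (G ⧸ N) := hcyc.commGroup
  have h := he_hom_comm ((QuotientGroup.mk' N).comp ψ) x
  exact (QuotientGroup.eq_one_iff _).1 h

end Cfsg.Agent.Fischer.HeInFi24
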