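import Cfsg.Agent.Fischer.Fi24Class
import Cfsg.Agent.Fischer.Fi24Final
import Cfsg.Agent.Fischer.HeInFi24

/-!
The 3-transposition realization of `Fi24`, given the upper bounds for the index and the order of
`H = ⟨a, …, j, l⟩`, and the simplicity and order of the presented groups `Fi23`, `He`.
-/

set_option autoImplicit false
set_option linter.constructorNameAsVariable false

namespace Cfsg.Agent.Fischer.Fi24Real

open Cfsg.Agent.Fischer.Fi24Rep Cfsg.Agent.Fischer.Fi24RepOrb Cfsg.Agent.Fischer.Fi24RepRes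
  Cfsg.Agent.Fischer.Fi24RepResChk
open Cfsg.Spor (Fi24)
open Cfsg.Spor.Fi24 (Gen)

theorem wordH_coe (l : List Cfsg.Spor.Fi23.Gen) :
    (Fi24RepRes.wordH l : Fi24) = (l.map fun y => Fi24Rep.gen (up y)).prod := by
  unfold Fi24RepRes.wordH
  induction l with
  | nil => simp
  | cons x l ih =>
    rw [List.map_cons, List.prod_cons, Subgroup.coe_mul, ih, List.map_cons, List.prod_cons]

/-- The spider relation, up to `l`. -/
theorem spider (hfin : Finite Fi24RepOrb.H) (hH : Nat.card Fi24RepOrb.H ≤ 8178940946586009600) :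
    (Fi24Class.gen .d * Fi24Class.gen .c * Fi24Class.gen .b * Fi24Class.gen .d * Fi24Class.gen .e *
      Fi24Class.gen .f * Fi24Class.gen .d * Fi24Class.gen .h * Fi24Class.gen .i) ^ 10 = 1 := by
  set w : Fi24RepOrb.H := Fi24RepRes.wordH [.d, .c, .b, .d, .e, .f, .d, .h, .i] with hw
  have hwc : (w : Fi24) = Fi24Class.gen .d * Fi24Class.gen .c * Fi24Class.gen .b * Fi24Class.gen .d *
      Fi24Class.gen .e * Fi24Class.gen .f * Fi24Class.gen .d * Fi24Class.gen .h * Fi24Class.gen .i := by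
    rw [hw, wordH_coe]
    simp only [List.map_cons, List.map_nil, List.prod_cons, List.prod_nil, mul_one, mul_assoc]
    rfl
  have hrel : ∀ y : Cfsg.Spor.Fi23.Gen, Fi24RepRes.phiH ⟨Fi24Rep.gen (up y), Fi24RepOrb.mem_H_gen (Fi24RepRes.up_ne y)⟩ =
      Cfsg.Agent.Fischer.Fi23Hom.rho (Cfsg.Agent.Fischer.Fi23Hom.gen y) := by
    intro y
    rw [Fi24RepRes.phiH_gen]
    exact (Cfsg.Agent.Fischer.Fi23Hom.rho_gen y).symm
  have hphi : Fi24RepRes.phiH w = Cfsg.Agent.Fischer.Fi23Hom.rho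
      (([.d, .c, .b, .d, .e, .f, .d, .h, .i] : List Cfsg.Spor.Fi23.Gen).map
        Cfsg.Agent.Fischer.Fi23Hom.gen).prod := by
    rw [hw]
    unfold Fi24RepRes.wordH
    generalize ([.d, .c, .b, .d, .e, .f, .d, .h, .i] : List Cfsg.Spor.Fi23.Gen) = l
    induction l with
    | nil => simp
    | cons x l ih => rw [List.map_cons, List.prod_cons, map_mul, ih, hrel, List.map_cons, List.prod_cons, map_mul]
  have h10 : ((([.d, .c, .b, .d, .e, .f, .d, .h, .i] : List Cfsg.Spor.Fi23.Gen).map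
        Cfsg.Agent.Fischer.Fi23Hom.gen).prod) ^ 10 = 1 := by
    have h : (Cfsg.Spor.Fi23.d * Cfsg.Spor.Fi23.c * Cfsg.Spor.Fi23.b * Cfsg.Spor.Fi23.d * Cfsg.Spor.Fi23.e *
        Cfsg.Spor.Fi23.f * Cfsg.Spor.Fi23.d * Cfsg.Spor.Fi23.h * Cfsg.Spor.Fi23.i) ^ 10 ∈
        Cfsg.Spor.coxRelators Cfsg.Spor.Fi23.edges ∪ {r | r ∈ Cfsg.Spor.Fi23.extra} := by
      right
      show _ ∈ Cfsg.Spor.Fi23.extra
      unfold Cfsg.Spor.Fi23.extra
      simp
    have := PresentedGroup.one_of_mem h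
    rw [map_pow] at this
    simp only [map_mul] at this
    rw [← this]
    simp only [List.map_cons, List.map_nil, List.prod_cons, List.prod_nil, mul_one, mul_assoc]
    rfl
  have hk : Fi24RepRes.phiH (w ^ 10) = 1 := by
    rw [map_pow, hphi, ← map_pow, h10, map_one]
  rcases (Fi24RepRes.ker_phiH hfin hH).1 hk with h | h
  · have := congrArg Subtype.val h
    rw [Subgroup.coe_pow, hwc] at this
    exact this
  · exfalso
    have h1 := congrArg Subtype.val h
    rw [Subgroup.coe_pow, hwc] at h1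
    have h2 := congrArg Fi24Final.sgn h1
    have hs : ∀ x : Gen, Fi24Final.sgn (Fi24Class.gen x) = -1 := fun x => Fi24Final.sgn_gen x
    have hl : Fi24Final.sgn (Fi24RepRes.lH : Fi24) = -1 := Fi24Final.sgn_gen .l
    rw [hl, map_pow] at h2
    simp only [map_mul, hs] at h2
    revert h2
    decide

theorem stab_comm (hub : Fi24RepOrb.H.index ≤ 306936) (hne : Fi24RepOrb.H.index ≠ 0) (g : Fi24)
    (hg : Fi24Rep.rho g 0 = 0) : g * Fi24Rep.gen .l = Fi24Rep.gen .l * g := by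
  obtain ⟨_, hst, _⟩ := index_and_suborbits hub hne
  exact Fi24Final.h_comm g ((hst g).1 hg)

/-- The assembly. -/
theorem realization (hub : Fi24RepOrb.H.index ≤ 306936) (hne : Fi24RepOrb.H.index ≠ 0)
    (hfin : Finite Fi24RepOrb.H) (hH : Nat.card Fi24RepOrb.H ≤ 8178940946586009600)
    (h97 : Cfsg.IsFi23 Cfsg.Spor.Fi23) (h95 : Cfsg.IsHe Cfsg.Spor.He) :
    ∃ (G : Type) (_ : Group G) (_ : Finite G), Nat.card G = 2 * 1255205709190661721292800 ∧ ∃ D : Set G, Cfsg.IsThreeTranspositionClass D ∧ Nat.card D = 306936 ∧ (∀ d ∈ D, Nat.card (Subgroup.centralizer ({d} : Set G)) = 2 * 4089470473293004800 ∧ ∃ K : Subgroup G, K ≤ Subgroup.centralizer ({d} : Set G) ∧ Cfsg.IsFi23 K) ∧ ∃ H : Subgroup G, H.index = 2 ∧ Cfsg.IsFi24' H ∧ (∃ K : Subgroup H, Cfsg.IsFi23 K) ∧ (∃ K : Subgroup H, Cfsg.IsHe K) := by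
  obtain ⟨hidx, _, q₁, q₂, ho1, ho2⟩ := index_and_suborbits hub hne
  refine Fi24Class.assemble (Fi24Final.isFi24prime_of hub hne hfin hH) Fi24Final.index_commutator h97 h95
    Fi24RepOrb.H Fi24Final.h_comm hidx q₁ q₂ ho1 ho2 (spider hfin hH) ?_
  obtain ⟨ψ, -, hψ⟩ := HeInFi24.he_hom (stab_comm hub hne) (by
    intro z hz h0
    apply Fi24Final.eq_one_of_fixes hub hne hfin hH
    intro q hq
    have hq' : q ∈ {p : ℕ | ∃ x, Fi24Rep.rho x 0 = p} := by rw [orbG]; exact hq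
    obtain ⟨k, rfl⟩ := hq'
    rw [← Equiv.Perm.mul_apply, ← map_mul, hz, map_mul, Equiv.Perm.mul_apply, h0])
  exact ⟨ψ, _, hψ⟩

end Cfsg.Agent.Fischer.Fi24Real
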