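import Cfsg.Agent.Fischer.Fi24RepDef

/-! Kernel checks: the relation l = (abcdefh)^9 and two word identities on all bit planes. -/

set_option autoImplicit false
set_option maxRecDepth 100000
set_option Elab.async false

namespace Cfsg.Agent.Fischer.Fi24RepChkE

open Cfsg.Agent.Fischer.Fi24RepLib Cfsg.Agent.Fischer.Fi24RepDef

theorem e0 : chkL 19 327680 0 relsE = true := by decide +kernel
theorem e1 : chkL 19 327680 1 relsE = true := by decide +kernel
theorem e2 : chkL 19 327680 2 relsE = true := by decide +kernel
theorem e3 : chkL 19 327680 3 relsE = true := by decide +kernel
theorem e4 : chkL 19 327680 4 relsE = true := by decide +kernel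
theorem e5 : chkL 19 327680 5 relsE = true := by decide +kernel
theorem e6 : chkL 19 327680 6 relsE = true := by decide +kernel
theorem e7 : chkL 19 327680 7 relsE = true := by decide +kernel
theorem e8 : chkL 19 327680 8 relsE = true := by decide +kernel
theorem e9 : chkL 19 327680 9 relsE = true := by decide +kernel
theorem e10 : chkL 19 327680 10 relsE = true := by decide +kernel
theorem e11 : chkL 19 327680 11 relsE = true := by decide +kernel
theorem e12 : chkL 19 327680 12 relsE = true := by decide +kernel
theorem e13 : chkL 19 327680 13 relsE = true := by decide +kernel
theorem e14 : chkL 19 327680 14 relsE = true := by decide +kernel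
theorem e15 : chkL 19 327680 15 relsE = true := by decide +kernel
theorem e16 : chkL 19 327680 16 relsE = true := by decide +kernel
theorem e17 : chkL 19 327680 17 relsE = true := by decide +kernel
theorem e18 : chkL 19 327680 18 relsE = true := by decide +kernel

end Cfsg.Agent.Fischer.Fi24RepChkE
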