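import Cfsg.Agent.Fischer.Fi24RepDef

/-! Kernel checks: the relation of length 17 * 14 on all bit planes. -/

set_option autoImplicit false
set_option maxRecDepth 100000
set_option Elab.async false

namespace Cfsg.Agent.Fischer.Fi24RepChkZ

open Cfsg.Agent.Fischer.Fi24RepLib Cfsg.Agent.Fischer.Fi24RepDef

theorem z0 : chkL 19 327680 0 relsZ = true := by decide +kernel
theorem z1 : chkL 19 327680 1 relsZ = true := by decide +kernel
theorem z2 : chkL 19 327680 2 relsZ = true := by decide +kernel
theorem z3 : chkL 19 327680 3 relsZ = true := by decide +kernel
theorem z4 : chkL 19 327680 4 relsZ = true := by decide +kernel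
theorem z5 : chkL 19 327680 5 relsZ = true := by decide +kernel
theorem z6 : chkL 19 327680 6 relsZ = true := by decide +kernel
theorem z7 : chkL 19 327680 7 relsZ = true := by decide +kernel
theorem z8 : chkL 19 327680 8 relsZ = true := by decide +kernel
theorem z9 : chkL 19 327680 9 relsZ = true := by decide +kernel
theorem z10 : chkL 19 327680 10 relsZ = true := by decide +kernel
theorem z11 : chkL 19 327680 11 relsZ = true := by decide +kernel
theorem z12 : chkL 19 327680 12 relsZ = true := by decide +kernel
theorem z13 : chkL 19 327680 13 relsZ = true := by decide +kernel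
theorem z14 : chkL 19 327680 14 relsZ = true := by decide +kernel
theorem z15 : chkL 19 327680 15 relsZ = true := by decide +kernel
theorem z16 : chkL 19 327680 16 relsZ = true := by decide +kernel
theorem z17 : chkL 19 327680 17 relsZ = true := by decide +kernel
theorem z18 : chkL 19 327680 18 relsZ = true := by decide +kernel

end Cfsg.Agent.Fischer.Fi24RepChkZ
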