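import Cfsg.Agent.Fischer.Fi24RepChkR
import Cfsg.Agent.Fischer.Fi24RepChkE
import Cfsg.Agent.Fischer.Fi24RepChkZ
import Cfsg.Agent.Lib.PermNetOrbit

/-!
The action of the presented group `Cfsg.Spor.Fi24` on 306936 points as a homomorphism to `Equiv.Perm ℕ`:
all relators hold.
-/

set_option autoImplicit false
set_option maxRecDepth 100000

namespace Cfsg.Agent.Fischer.Fi24Rep

open Cfsg.Agent.Lib.PermNet Cfsg.Agent.Lib.PermNetOrbit Cfsg.Agent.Fischer.Fi24RepLib
  Cfsg.Agent.Fischer.Fi24RepDef
  Cfsg.Agent.Fischer.Fi24RepChkR Cfsg.Agent.Fischer.Fi24RepChkE Cfsg.Agent.Fischer.Fi24RepChkZ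
open Cfsg.Agent.Fischer.Fi24RepPi (pi pir)
open Cfsg.Spor.Fi24 (Gen edges extra)

theorem chkR (b : ℕ) (hb : b < 19) : chkL 19 327680 b rels = true := by
  interval_cases b
  · exact r0
  · exact r1
  · exact r2
  · exact r3
  · exact r4
  · exact r5
  · exact r6
  · exact r7
  · exact r8
  · exact r9
  · exact r10
  · exact r11
  · exact r12
  · exact r13
  · exact r14
  · exact r15
  · exact r16
  · exact r17
  · exact r18

theorem chkE (b : ℕ) (hb : b < 19) : chkL 19 327680 b relsE = true := by
  interval_cases b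
  · exact e0
  · exact e1
  · exact e2
  · exact e3
  · exact e4
  · exact e5
  · exact e6
  · exact e7
  · exact e8
  · exact e9
  · exact e10
  · exact e11
  · exact e12
  · exact e13
  · exact e14
  · exact e15
  · exact e16
  · exact e17
  · exact e18

theorem chkZ (b : ℕ) (hb : b < 19) : chkL 19 327680 b relsZ = true := by
  interval_cases b
  · exact z0
  · exact z1
  · exact z2
  · exact z3
  · exact z4
  · exact z5
  · exact z6
  · exact z7
  · exact z8
  · exact z9
  · exact z10
  · exact z11
  · exact z12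
  · exact z13
  · exact z14
  · exact z15
  · exact z16
  · exact z17
  · exact z18

theorem eq_of_rels {a : List Net × List Net} (ha : a ∈ rels) (h1 : WOk 327680 a.1) (h2 : WOk 327680 a.2) :
    wperm a.1 = wperm a.2 :=
  wperm_eq_of_chk1 (k := 19) (N := 327680) (by norm_num) h1 h2 (fun b hb => chkL_spec (chkR b hb) a ha)

theorem eq_of_relsE {a : List Net × List Net} (ha : a ∈ relsE) (h1 : WOk 327680 a.1) (h2 : WOk 327680 a.2) :
    wperm a.1 = wperm a.2 :=
  wperm_eq_of_chk1 (k := 19) (N := 327680) (by norm_num) h1 h2 (fun b hb => chkL_spec (chkE b hb) a ha)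

theorem eq_of_relsZ {a : List Net × List Net} (ha : a ∈ relsZ) (h1 : WOk 327680 a.1) (h2 : WOk 327680 a.2) :
    wperm a.1 = wperm a.2 :=
  wperm_eq_of_chk1 (k := 19) (N := 327680) (by norm_num) h1 h2 (fun b hb => chkL_spec (chkZ b hb) a ha)

theorem mem_g1 {x : Gen} (h : fst x = true) : x ∈ g1 := by
  revert h; cases x <;> decide

theorem mem_g2 {x : Gen} (h : fst x = false) : x ∈ g2 := by
  revert h; cases x <;> decide

theorem wok2 (x y : Gen) : WOk 327680 [net x, net y] :=
  WOk.cons (ok_net x) (WOk.cons (ok_net y) (WOk.nil _))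

theorem net_sq (x : Gen) : (net x).perm * (net x).perm = 1 := by
  have h : wperm [net x, net x] = wperm [] := by
    refine eq_of_rels (a := sq x) ?_ (wok2 x x) (WOk.nil _)
    unfold rels
    cases hx : fst x
    · exact List.mem_append_right _ (List.mem_append_left _ (List.mem_map_of_mem (mem_g2 hx)))
    · exact List.mem_append_left _ (List.mem_map_of_mem (mem_g1 hx))
  simpa using h

theorem net_comm {x y : Gen} (h : fst x = fst y) : (net x).perm * (net y).perm = (net y).perm * (net x).perm := by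
  have h : wperm [net x, net y] = wperm [net y, net x] := by
    refine eq_of_rels (a := same x y) ?_ (wok2 x y) (wok2 y x)
    unfold rels
    cases hx : fst x
    · refine List.mem_append_right _ (List.mem_append_right _ (List.mem_append_right _
        (List.mem_append_left _ (List.mem_flatMap.2 ⟨x, mem_g2 hx, List.mem_map_of_mem (mem_g2 ?_)⟩))))
      rw [← h, hx]
    · refine List.mem_append_right _ (List.mem_append_right _ (List.mem_append_left _
        (List.mem_flatMap.2 ⟨x, mem_g1 hx, List.mem_map_of_mem (mem_g1 ?_)⟩)))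
      rw [← h, hx]
  simpa using h

theorem rho0_sq (x : Gen) : rho0 x * rho0 x = 1 := by
  cases hx : fst x
  · rw [rho0_snd hx]
    calc pi.perm * (net x).perm * pi.perm⁻¹ * (pi.perm * (net x).perm * pi.perm⁻¹)
        = pi.perm * ((net x).perm * (net x).perm) * pi.perm⁻¹ := by group
      _ = 1 := by rw [net_sq]; group
  · rw [rho0_fst hx]; exact net_sq x

theorem rho0_comm_same {x y : Gen} (h : fst x = fst y) : rho0 x * rho0 y = rho0 y * rho0 x := by
  cases hx : fst x
  · have hy : fst y = false := by rw [← h, hx]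
    rw [rho0_snd hx, rho0_snd hy]
    calc pi.perm * (net x).perm * pi.perm⁻¹ * (pi.perm * (net y).perm * pi.perm⁻¹)
        = pi.perm * ((net x).perm * (net y).perm) * pi.perm⁻¹ := by group
      _ = pi.perm * ((net y).perm * (net x).perm) * pi.perm⁻¹ := by rw [net_comm h]
      _ = _ := by group
  · have hy : fst y = true := by rw [← h, hx]
    rw [rho0_fst hx, rho0_fst hy]; exact net_comm h

theorem mem_mixed {x y : Gen} (hx : fst x = true) (hy : fst y = false) : mixed x y ∈ rels := by
  unfold rels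
  exact List.mem_append_right _ (List.mem_append_right _ (List.mem_append_right _ (List.mem_append_right _
    (List.mem_flatMap.2 ⟨x, mem_g1 hx, List.mem_map_of_mem (mem_g2 hy)⟩))))

theorem rho0_comm_mixed {x y : Gen} (hx : fst x = true) (hy : fst y = false) (h : adj x y = false) :
    rho0 x * rho0 y = rho0 y * rho0 x := by
  have hm := mem_mixed hx hy
  have e : mixed x y = ([net x, pi, net y, pir], [pi, net y, pir, net x]) := by
    unfold mixed; rw [h]
  rw [e] at hm
  have h3 : WOk 327680 [net x, pi, net y, pir] :=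
    WOk.cons (ok_net x) (WOk.cons ok_pi (WOk.cons (ok_net y) (WOk.cons ok_pir (WOk.nil _))))
  have h4 : WOk 327680 [pi, net y, pir, net x] :=
    WOk.cons ok_pi (WOk.cons (ok_net y) (WOk.cons ok_pir (WOk.cons (ok_net x) (WOk.nil _))))
  have h5 := eq_of_rels hm h3 h4
  simp only [wperm_cons, wperm_nil, mul_one, perm_pir] at h5
  rw [rho0_fst hx, rho0_snd hy]
  simpa [mul_assoc] using h5

theorem rho0_braid_mixed {x y : Gen} (hx : fst x = true) (hy : fst y = false) (h : adj x y = true) :
    rho0 x * rho0 y * rho0 x = rho0 y * rho0 x * rho0 y := by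
  have hm := mem_mixed hx hy
  have e : mixed x y = ([net x, pi, net y, pir, net x], [pi, net y, pir, net x, pi, net y, pir]) := by
    unfold mixed; rw [h]
  rw [e] at hm
  have h3 : WOk 327680 [net x, pi, net y, pir, net x] :=
    WOk.cons (ok_net x) (WOk.cons ok_pi (WOk.cons (ok_net y) (WOk.cons ok_pir (WOk.cons (ok_net x) (WOk.nil _)))))
  have h4 : WOk 327680 [pi, net y, pir, net x, pi, net y, pir] :=
    WOk.cons ok_pi (WOk.cons (ok_net y) (WOk.cons ok_pir (WOk.cons (ok_net x)
      (WOk.cons ok_pi (WOk.cons (ok_net y) (WOk.cons ok_pir (WOk.nil _)))))))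
  have h5 := eq_of_rels hm h3 h4
  simp only [wperm_cons, wperm_nil, mul_one, perm_pir] at h5
  rw [rho0_fst hx, rho0_snd hy]
  simpa [mul_assoc] using h5

theorem pow_two_of_comm {G : Type*} [Group G] {x y : G} (hx : x * x = 1) (hy : y * y = 1)
    (h : x * y = y * x) : (x * y) ^ 2 = 1 := by
  calc (x * y) ^ 2 = x * (y * x) * y := by rw [pow_two]; group
    _ = x * (x * y) * y := by rw [h]
    _ = (x * x) * (y * y) := by group
    _ = 1 := by rw [hx, hy, one_mul]

theorem pow_three_of_braid {G : Type*} [Group G] {x y : G} (hx : x * x = 1) (hy : y * y = 1)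
    (h : x * y * x = y * x * y) : (x * y) ^ 3 = 1 := by
  calc (x * y) ^ 3 = (x * y * x) * (y * x * y) := by simp only [pow_succ, pow_zero, one_mul, mul_assoc]
    _ = (x * y * x) * (x * y * x) := by rw [h]
    _ = x * y * (x * x) * y * x := by group
    _ = x * (y * y) * x := by rw [hx]; group
    _ = 1 := by rw [hy, mul_one, hx]

theorem rho0_comm {x y : Gen} (h : Cfsg.Spor.coxLabel edges x y = 2) : rho0 x * rho0 y = rho0 y * rho0 x := by
  have key : fst x = fst y ∨ (fst x = true ∧ fst y = false ∧ adj x y = false) ∨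
      (fst y = true ∧ fst x = false ∧ adj y x = false) := by
    revert h; cases x <;> cases y <;> decide
  rcases key with h | ⟨h1, h2, h3⟩ | ⟨h1, h2, h3⟩
  · exact rho0_comm_same h
  · exact rho0_comm_mixed h1 h2 h3
  · exact (rho0_comm_mixed h1 h2 h3).symm

theorem rho0_braid {x y : Gen} (h : Cfsg.Spor.coxLabel edges x y = 3) :
    rho0 x * rho0 y * rho0 x = rho0 y * rho0 x * rho0 y := by
  have key : (fst x = true ∧ fst y = false ∧ adj x y = true) ∨
      (fst y = true ∧ fst x = false ∧ adj y x = true) := by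
    revert h; cases x <;> cases y <;> decide
  rcases key with ⟨h1, h2, h3⟩ | ⟨h1, h2, h3⟩
  · exact rho0_braid_mixed h1 h2 h3
  · exact (rho0_braid_mixed h1 h2 h3).symm

theorem cox_rel (x y : Gen) : (rho0 x * rho0 y) ^ Cfsg.Spor.coxLabel edges x y = 1 := by
  have key : (x = y ∧ Cfsg.Spor.coxLabel edges x y = 1) ∨ Cfsg.Spor.coxLabel edges x y = 2 ∨
      Cfsg.Spor.coxLabel edges x y = 3 := by
    cases x <;> cases y <;> decide
  rcases key with ⟨rfl, h⟩ | h | h
  · rw [h, pow_one]; exact rho0_sq x
  · rw [h]; exact pow_two_of_comm (rho0_sq x) (rho0_sq y) (rho0_comm h)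
  · rw [h]; exact pow_three_of_braid (rho0_sq x) (rho0_sq y) (rho0_braid h)

/-- The permutation of a word. -/
noncomputable def prd (l : List Gen) : Equiv.Perm ℕ := (l.map rho0).prod

theorem prd_eq (l : List Gen) : wperm (nw l false) = prd l := (wperm_nw l).1

theorem prd_append (l l' : List Gen) : prd (l ++ l') = prd l * prd l' := by
  unfold prd; rw [List.map_append, List.prod_append]

theorem prd_cons (x : Gen) (l : List Gen) : prd (x :: l) = rho0 x * prd l := by
  unfold prd; rw [List.map_cons, List.prod_cons]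

theorem prd_nil : prd [] = 1 := rfl

theorem xy_pow : prd xy0 ^ 9 = rho0 .l := by
  have h := eq_of_relsE (a := (nw (rep 9 xy0) false, nw [.l] false)) (by unfold relsE; simp)
    (wok (rep 9 xy0) false) (wok [.l] false)
  rw [prd_eq, prd_eq] at h
  unfold prd at h ⊢
  rw [prod_rep] at h
  simpa using h

theorem m_c : prd m0 * prd c0 = prd xy0 * prd m0 := by
  have h := eq_of_relsE (a := (nw (m0 ++ c0) false, nw (xy0 ++ m0) false)) (by unfold relsE; simp)
    (wok (m0 ++ c0) false) (wok (xy0 ++ m0) false)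
  rw [prd_eq, prd_eq, prd_append, prd_append] at h
  exact h

theorem w_vu : prd w0 = prd v0 * prd u0 := by
  have h := eq_of_relsE (a := (nw w0 false, nw (v0 ++ u0) false)) (by unfold relsE; simp)
    (wok w0 false) (wok (v0 ++ u0) false)
  rw [prd_eq, prd_eq, prd_append] at h
  exact h

theorem uv_pow : (prd u0 * prd v0) ^ 17 = 1 := by
  have h := eq_of_relsZ (a := (nw (rep 17 (u0 ++ v0)) false, [])) (by unfold relsZ; simp)
    (wok (rep 17 (u0 ++ v0)) false) (WOk.nil _)
  rw [prd_eq, wperm_nil] at h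
  unfold prd at h ⊢
  rw [prod_rep, List.map_append, List.prod_append] at h
  exact h

theorem w_pow : prd w0 ^ 17 = 1 := by
  rw [w_vu]
  have : prd v0 * prd u0 = (prd u0)⁻¹ * (prd u0 * prd v0) * ((prd u0)⁻¹)⁻¹ := by group
  rw [this, conj_pow, uv_pow]; group

theorem l_comm_m : rho0 .l * prd m0 = prd m0 * rho0 .l := by
  have h : ∀ w : List Gen, (∀ x ∈ w, x ≠ .k) → rho0 .l * prd w = prd w * rho0 .l := by
    intro w hw
    induction w with
    | nil => simp [prd_nil]
    | cons x w ih =>
      have hx : rho0 .l * rho0 x = rho0 x * rho0 .l := by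
        by_cases h : x = .l
        · subst h; rfl
        · refine rho0_comm ?_
          have hk := hw x List.mem_cons_self
          revert h hk; cases x <;> decide
      rw [prd_cons, ← mul_assoc, hx, mul_assoc, ih (fun y hy => hw y (List.mem_cons_of_mem _ hy)),
        mul_assoc]
  exact h m0 (by decide)

theorem c_pow : prd c0 ^ 9 = rho0 .l := by
  have h1 : prd c0 = (prd m0)⁻¹ * prd xy0 * ((prd m0)⁻¹)⁻¹ := by
    rw [inv_inv, mul_assoc, ← m_c]; group
  rw [h1, conj_pow, xy_pow, inv_inv, mul_assoc, l_comm_m]; group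

/-- All relators hold. -/
theorem rels_hold : ∀ r ∈ Cfsg.Spor.coxRelators edges ∪ {r | r ∈ extra}, FreeGroup.lift rho0 r = 1 := by
  refine cox_lift_eq_one rho0 edges extra (fun x _ y _ => cox_rel x y) ?_
  intro r hr
  have hr' : r = Cfsg.Spor.Fi24.l * (((Cfsg.Spor.Fi24.a * Cfsg.Spor.Fi24.b * Cfsg.Spor.Fi24.c * Cfsg.Spor.Fi24.d *
      Cfsg.Spor.Fi24.e * Cfsg.Spor.Fi24.f * Cfsg.Spor.Fi24.h) ^ 9)⁻¹) ∨
      r = (Cfsg.Spor.Fi24.d * Cfsg.Spor.Fi24.c * Cfsg.Spor.Fi24.b * Cfsg.Spor.Fi24.a * Cfsg.Spor.Fi24.k *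
        Cfsg.Spor.Fi24.l * Cfsg.Spor.Fi24.d * Cfsg.Spor.Fi24.e * Cfsg.Spor.Fi24.f * Cfsg.Spor.Fi24.g *
        Cfsg.Spor.Fi24.j * Cfsg.Spor.Fi24.d * Cfsg.Spor.Fi24.h * Cfsg.Spor.Fi24.i) ^ 17 := by
    unfold extra at hr
    simpa using hr
  rcases hr' with rfl | rfl
  · have h := c_pow
    simp only [map_mul, map_pow, map_inv, FreeGroup.lift_apply_of]
    have e : rho0 .a * rho0 .b * rho0 .c * rho0 .d * rho0 .e * rho0 .f * rho0 .h = prd c0 := by
      unfold prd c0; simp [mul_assoc]
    rw [e, h, mul_inv_cancel]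
  · have h := w_pow
    simp only [map_mul, map_pow, FreeGroup.lift_apply_of]
    have e : rho0 .d * rho0 .c * rho0 .b * rho0 .a * rho0 .k * rho0 .l * rho0 .d * rho0 .e * rho0 .f *
        rho0 .g * rho0 .j * rho0 .d * rho0 .h * rho0 .i = prd w0 := by
      unfold prd w0; simp [mul_assoc]
    rw [e, h]

/-- The action of the presented group `Fi24` on the 306936 points. -/
noncomputable def rho : Cfsg.Spor.Fi24 →* Equiv.Perm ℕ := PresentedGroup.toGroup rels_hold

/-- The generators of the presented group. -/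
def gen (x : Gen) : Cfsg.Spor.Fi24 := PresentedGroup.of x

theorem rho_gen (x : Gen) : rho (gen x) = rho0 x := PresentedGroup.toGroup.of _

/-- The group element of a word in the generators. -/
def word (l : List Gen) : Cfsg.Spor.Fi24 := (l.map gen).prod

theorem rho_word (l : List Gen) : rho (word l) = wperm (nw l false) := by
  rw [prd_eq]
  unfold word prd
  induction l with
  | nil => simp
  | cons x l ih => rw [List.map_cons, List.prod_cons, map_mul, rho_gen, List.map_cons, List.prod_cons, ih]

/-- The network words of a list of words in the generators. -/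
noncomputable def nws (ws : List (List Gen)) : List (List Net) := ws.map (fun l => nw l false)

theorem nws_ok (ws : List (List Gen)) : WsOk 327680 (nws ws) := by
  intro w hw
  obtain ⟨l, _, rfl⟩ := List.mem_map.1 hw
  exact wok l false

theorem nws_ok19 (ws : List (List Gen)) : WsOk (2 ^ 19) (nws ws) :=
  fun w hw => WOk.mono (by norm_num) (nws_ok ws w hw)

theorem nws_img (ws : List (List Gen)) : ∀ w ∈ nws ws, ∃ g, rho g = wperm w := by
  intro w hw
  obtain ⟨l, _, rfl⟩ := List.mem_map.1 hw
  exact ⟨word l, rho_word l⟩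

end Cfsg.Agent.Fischer.Fi24Rep
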