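import Cfsg.Agent.Fischer.Fi24RepDef

/-! Kernel checks: the Coxeter relations on all bit planes. -/

set_option autoImplicit false
set_option maxRecDepth 100000
set_option Elab.async false

namespace Cfsg.Agent.Fischer.Fi24RepChkR

open Cfsg.Agent.Fischer.Fi24RepLib Cfsg.Agent.Fischer.Fi24RepDef

theorem r0 : chkL 19 327680 0 rels = true := by decide +kernel
theorem r1 : chkL 19 327680 1 rels = true := by decide +kernel
theorem r2 : chkL 19 327680 2 rels = true := by decide +kernel
theorem r3 : chkL 19 327680 3 rels = true := by decide +kernel
theorem r4 : chkL 19 327680 4 rels = true := by decide +kernel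
theorem r5 : chkL 19 327680 5 rels = true := by decide +kernel
theorem r6 : chkL 19 327680 6 rels = true := by decide +kernel
theorem r7 : chkL 19 327680 7 rels = true := by decide +kernel
theorem r8 : chkL 19 327680 8 rels = true := by decide +kernel
theorem r9 : chkL 19 327680 9 rels = true := by decide +kernel
theorem r10 : chkL 19 327680 10 rels = true := by decide +kernel
theorem r11 : chkL 19 327680 11 rels = true := by decide +kernel
theorem r12 : chkL 19 327680 12 rels = true := by decide +kernel
theorem r13 : chkL 19 327680 13 rels = true := by decide +kernel
theorem r14 : chkL 19 327680 14 rels = true := by decide +kernel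
theorem r15 : chkL 19 327680 15 rels = true := by decide +kernel
theorem r16 : chkL 19 327680 16 rels = true := by decide +kernel
theorem r17 : chkL 19 327680 17 rels = true := by decide +kernel
theorem r18 : chkL 19 327680 18 rels = true := by decide +kernel

end Cfsg.Agent.Fischer.Fi24RepChkR
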