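import Cfsg.Prelude.Def_Spor_Fi24
import Cfsg.Agent.Fischer.Fi24RepPi
import Cfsg.Agent.Fischer.Fi24RepGen

/-!
The action of the generators of the presented group `Fi24` on the 306936 points (positions below `N = 5 * 2^16`).
The generators `a, c, e, g, h, l` act by short networks in the first numbering of the points, `b, d, f, j, i, k` in
the second one; `pi` is the network between the numberings.
-/

set_option autoImplicit false
set_option maxRecDepth 100000

namespace Cfsg.Agent.Fischer.Fi24RepDef

open Cfsg.Agent.Lib.PermNet Cfsg.Agent.Fischer.Fi24RepLib Cfsg.Agent.Fischer.Fi24RepPi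
  Cfsg.Agent.Fischer.Fi24RepGen
open Cfsg.Spor.Fi24 (Gen)

/-- The network of a generator in its own numbering. -/
noncomputable def net : Gen → Net
  | .l => nl
  | .k => nk
  | .a => na
  | .b => nb
  | .c => nc
  | .d => nd
  | .e => ne
  | .f => nf
  | .g => ng
  | .j => nj
  | .h => nh
  | .i => ni

/-- Is the generator short in the first numbering? -/
def fst : Gen → Bool
  | .l => true
  | .k => false
  | .a => true
  | .b => false
  | .c => true
  | .d => false
  | .e => true
  | .f => false
  | .g => true
  | .j => false
  | .h => true
  | .i => false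

/-- Adjacency of a generator of the first kind with one of the second kind. -/
def adj : Gen → Gen → Bool
  | .l, .k => true
  | .a, .k => true
  | .a, .b => true
  | .c, .b => true
  | .c, .d => true
  | .e, .d => true
  | .e, .f => true
  | .g, .f => true
  | .g, .j => true
  | .h, .d => true
  | .h, .i => true
  | _, _ => false

theorem pir_eq : pir = revAux pi .nil := rfl

theorem perm_pir : pir.perm = pi.perm⁻¹ := by rw [pir_eq, perm_rev]

theorem ok_pi : pi.ok 327680 = true := by decide +kernel
theorem ok_pir : pir.ok 327680 = true := by decide +kernel
theorem ok_l : nl.ok 327680 = true := by decide +kernel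
theorem ok_k : nk.ok 327680 = true := by decide +kernel
theorem ok_a : na.ok 327680 = true := by decide +kernel
theorem ok_b : nb.ok 327680 = true := by decide +kernel
theorem ok_c : nc.ok 327680 = true := by decide +kernel
theorem ok_d : nd.ok 327680 = true := by decide +kernel
theorem ok_e : ne.ok 327680 = true := by decide +kernel
theorem ok_f : nf.ok 327680 = true := by decide +kernel
theorem ok_g : ng.ok 327680 = true := by decide +kernel
theorem ok_j : nj.ok 327680 = true := by decide +kernel
theorem ok_h : nh.ok 327680 = true := by decide +kernel
theorem ok_i : ni.ok 327680 = true := by decide +kernel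

theorem ok_net (x : Gen) : (net x).ok 327680 = true := by
  cases x
  · exact ok_l
  · exact ok_k
  · exact ok_a
  · exact ok_b
  · exact ok_c
  · exact ok_d
  · exact ok_e
  · exact ok_f
  · exact ok_g
  · exact ok_j
  · exact ok_h
  · exact ok_i

/-- The word of a generator. -/
noncomputable def gw (x : Gen) : List Net := Bool.rec [pi, net x, pir] [net x] (fst x)

/-- The permutation of a generator. -/
noncomputable def rho0 (x : Gen) : Equiv.Perm ℕ := wperm (gw x)

/-- The networks of a word in the generators; the second argument says whether we are in the second numbering. -/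
noncomputable def nw (l : List Gen) : Bool → List Net :=
  List.rec (motive := fun _ => Bool → List Net) (fun b => Bool.rec [] [pir] b)
    (fun g _ ih b => Bool.rec
      (Bool.rec (pi :: net g :: ih true) (net g :: ih true) b)
      (Bool.rec (net g :: ih false) (pir :: net g :: ih false) b) (fst g)) l

theorem wok (l : List Gen) (b : Bool) : WOk 327680 (nw l b) := by
  induction l generalizing b with
  | nil =>
    cases b
    · exact WOk.nil _
    · exact WOk.cons ok_pir (WOk.nil _)
  | cons g l ih =>
    show WOk 327680 (Bool.rec
      (Bool.rec (pi :: net g :: nw l true) (net g :: nw l true) b)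
      (Bool.rec (net g :: nw l false) (pir :: net g :: nw l false) b) (fst g) : List Net)
    cases hf : fst g <;> cases b
    · exact WOk.cons ok_pi (WOk.cons (ok_net g) (ih _))
    · exact WOk.cons (ok_net g) (ih _)
    · exact WOk.cons (ok_net g) (ih _)
    · exact WOk.cons ok_pir (WOk.cons (ok_net g) (ih _))

theorem rho0_fst {x : Gen} (h : fst x = true) : rho0 x = (net x).perm := by
  unfold rho0 gw
  rw [h]
  simp

theorem rho0_snd {x : Gen} (h : fst x = false) : rho0 x = pi.perm * (net x).perm * pi.perm⁻¹ := by
  unfold rho0 gw
  rw [h]
  simp [perm_pir, mul_assoc]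

theorem wperm_nw (l : List Gen) : wperm (nw l false) = (l.map rho0).prod ∧
    wperm (nw l true) = pi.perm⁻¹ * (l.map rho0).prod := by
  induction l with
  | nil =>
    refine ⟨rfl, ?_⟩
    show wperm [pir] = _
    simp [perm_pir]
  | cons g l ih =>
    obtain ⟨ih1, ih2⟩ := ih
    have e1 : nw (g :: l) false = (Bool.rec (pi :: net g :: nw l true) (net g :: nw l false) (fst g) : List Net) := rfl
    have e2 : nw (g :: l) true = (Bool.rec (net g :: nw l true) (pir :: net g :: nw l false) (fst g) : List Net) := rfl
    rw [e1, e2, List.map_cons, List.prod_cons]
    cases hf : fst g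
    · rw [rho0_snd hf]
      refine ⟨?_, ?_⟩
      · show wperm (pi :: net g :: nw l true) = _
        rw [wperm_cons, wperm_cons, ih2]; group
      · show wperm (net g :: nw l true) = _
        rw [wperm_cons, ih2]; group
    · rw [rho0_fst hf]
      refine ⟨?_, ?_⟩
      · show wperm (net g :: nw l false) = _
        rw [wperm_cons, ih1]
      · show wperm (pir :: net g :: nw l false) = _
        rw [wperm_cons, wperm_cons, ih1, perm_pir]

/-! ### The relations to be checked -/

/-- generators of the first kind -/
def g1 : List Gen := [.a, .c, .e, .g, .h, .l]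
/-- generators of the second kind -/
def g2 : List Gen := [.b, .d, .f, .j, .i, .k]

/-- The mixed relations: commuting or braid. -/
noncomputable def mixed (x y : Gen) : List Net × List Net :=
  Bool.rec ([net x, pi, net y, pir], [pi, net y, pir, net x])
    ([net x, pi, net y, pir, net x], [pi, net y, pir, net x, pi, net y, pir]) (adj x y)

/-- Squares and commuting relations for generators of the same kind. -/
noncomputable def same (x y : Gen) : List Net × List Net := ([net x, net y], [net y, net x])
noncomputable def sq (x : Gen) : List Net × List Net := ([net x, net x], [])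

noncomputable def rels : List (List Net × List Net) :=
  g1.map sq ++ (g2.map sq ++ (g1.flatMap (fun x => g1.map (same x)) ++
    (g2.flatMap (fun x => g2.map (same x)) ++ g1.flatMap (fun x => g2.map (mixed x)))))

/-- Powers of words. -/
def rep (n : ℕ) (l : List Gen) : List Gen := Nat.rec [] (fun _ ih => l ++ ih) n

theorem prod_rep (n : ℕ) (l : List Gen) (f : Gen → Equiv.Perm ℕ) :
    ((rep n l).map f).prod = (l.map f).prod ^ n := by
  induction n with
  | zero => rfl
  | succ n ih =>
    show ((l ++ rep n l).map f).prod = _
    rw [List.map_append, List.prod_append, ih, pow_succ']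

def c0 : List Gen := [.a, .b, .c, .d, .e, .f, .h]
def xy0 : List Gen := [.a, .c, .e, .h, .b, .d, .f]
def m0 : List Gen := [.c, .e, .h, .d, .f, .e, .h, .f]
def w0 : List Gen := [.d, .c, .b, .a, .k, .l, .d, .e, .f, .g, .j, .d, .h, .i]
def v0 : List Gen := [.d, .c, .b, .d, .a, .e, .k, .f, .d, .l, .g, .h]
def u0 : List Gen := [.j, .i]

noncomputable def relsE : List (List Net × List Net) :=
  [(nw (rep 9 xy0) false, nw [.l] false), (nw (m0 ++ c0) false, nw (xy0 ++ m0) false),
    (nw w0 false, nw (v0 ++ u0) false)]

noncomputable def relsZ : List (List Net × List Net) :=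
  [(nw (rep 17 (u0 ++ v0)) false, [])]

end Cfsg.Agent.Fischer.Fi24RepDef
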