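import Cfsg.Agent.Lib.PermNet

/-!
Auxiliary definitions for the action of the presented group `Fi24` on 306936 points: numbers given by nested chunks,
reversed networks, bit planes cut at an arbitrary number `N` of positions.
-/

set_option autoImplicit false

namespace Cfsg.Agent.Fischer.Fi24RepLib

open Cfsg.Agent.Lib.PermNet

/-- Assemble a number from little-endian chunks of `s` bits. -/
noncomputable def asmS (s : ℕ) (l : List ℕ) : ℕ :=
  List.rec (motive := fun _ => ℕ) 0 (fun a _ ih => Nat.lor a (Nat.shiftLeft ih s)) l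

/-- Reverse a network (with an accumulator). -/
def revAux : Net → Net → Net
  | .nil, acc => acc
  | .cons M d L, acc => revAux L (.cons M d acc)

theorem stagePerm_mul_self (M d : ℕ) : stagePerm M d * stagePerm M d = 1 := by
  unfold stagePerm
  split_ifs with h
  · ext p
    exact tau_tau h p
  · rfl

theorem stagePerm_inv (M d : ℕ) : (stagePerm M d)⁻¹ = stagePerm M d :=
  inv_eq_of_mul_eq_one_left (stagePerm_mul_self M d)

theorem perm_revAux (L acc : Net) : (revAux L acc).perm = L.perm⁻¹ * acc.perm := by
  induction L generalizing acc with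
  | nil => simp [revAux, Net.perm_nil]
  | cons M d L ih =>
    rw [revAux, ih, Net.perm_cons, Net.perm_cons, mul_inv_rev, stagePerm_inv, mul_assoc]

theorem perm_rev (L : Net) : (revAux L .nil).perm = L.perm⁻¹ := by
  rw [perm_revAux, Net.perm_nil, mul_one]

theorem ok_mono {N N' : ℕ} (hN : N ≤ N') {L : Net} (h : L.ok N = true) : L.ok N' = true := by
  induction L with
  | nil => rfl
  | cons M d L ih =>
    obtain ⟨h1, h2, h3⟩ := Net.ok_cons h
    show and (and (Nat.beq (Nat.land M (Nat.shiftRight M d)) 0)
      (Nat.beq (Nat.shiftRight M (Nat.sub N' d)) 0)) (L.ok N') = true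
    rw [Bool.and_eq_true, Bool.and_eq_true]
    refine ⟨⟨?_, ?_⟩, ih h3⟩
    · rw [Nat.beq_eq]; exact h1
    · rw [Nat.beq_eq]
      show M >>> (N' - d) = 0
      rw [show N' - d = (N - d) + ((N' - d) - (N - d)) by omega, Nat.shiftRight_add, h2,
        Nat.zero_shiftRight]

theorem WOk.mono {N N' : ℕ} (hN : N ≤ N') {w : List Net} (h : WOk N w) : WOk N' w :=
  fun K hK => ok_mono hN (h K hK)

/-- The bit plane `b` cut at `N` positions. -/
noncomputable def pl (k N b : ℕ) : ℕ := Nat.land (plane k b) (Nat.sub (Nat.pow 2 N) 1)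

theorem testBit_pl {k N b i : ℕ} (hN : N ≤ 2 ^ k) (hi : i < N) (hb : b < k) :
    (pl k N b).testBit i = i.testBit b := by
  show (plane k b &&& (2 ^ N - 1)).testBit i = _
  rw [Nat.testBit_and, testBit_plane k b i (lt_of_lt_of_le hi hN) hb, Nat.testBit_two_pow_sub_one]
  simp [hi]

/-- Both words act in the same way on the plane `b`. -/
noncomputable def chk1 (k N b : ℕ) (w w' : List Net) : Bool :=
  seqB (appWord w (pl k N b)) fun x => seqB (appWord w' (pl k N b)) fun y => Nat.beq x y

theorem chk1_eq {k N b : ℕ} {w w' : List Net} (h : chk1 k N b w w' = true) :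
    appWord w (pl k N b) = appWord w' (pl k N b) := by
  unfold chk1 at h
  rw [seqB_eq, seqB_eq] at h
  exact Nat.eq_of_beq_eq_true h

/-- The pairs of words of a list act in the same way on the plane `b`. -/
noncomputable def chkL (k N b : ℕ) (l : List (List Net × List Net)) : Bool :=
  List.rec (motive := fun _ => Bool) true
    (fun a _ ih => Bool.rec false ih (chk1 k N b a.1 a.2)) l

theorem chkL_spec {k N b : ℕ} {l : List (List Net × List Net)} (h : chkL k N b l = true) :
    ∀ a ∈ l, chk1 k N b a.1 a.2 = true := by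
  induction l with
  | nil => intro a ha; exact absurd ha (by simp)
  | cons a l ih =>
    have h' : (Bool.rec false (chkL k N b l) (chk1 k N b a.1 a.2) : Bool) = true := h
    have h1 : chk1 k N b a.1 a.2 = true := by
      cases hc : chk1 k N b a.1 a.2 with
      | false => rw [hc] at h'; exact absurd h' (by simp)
      | true => rfl
    rw [h1] at h'
    intro x hx
    rcases List.mem_cons.1 hx with rfl | hx
    · exact h1
    · exact ih h' x hx

theorem wperm_eq_of_chk1 {k N : ℕ} {w w' : List Net} (hN : N ≤ 2 ^ k) (hw : WOk N w) (hw' : WOk N w')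
    (h : ∀ b < k, chk1 k N b w w' = true) : wperm w = wperm w' := by
  ext p
  by_cases hp : p < N
  · have h1 := wperm_lt hw hp
    have h2 := wperm_lt hw' hp
    apply Nat.eq_of_testBit_eq
    intro b
    by_cases hb : b < k
    · have h3 := congrArg (fun x => Nat.testBit x p) (chk1_eq (h b hb))
      simp only [testBit_appWord hw, testBit_appWord hw'] at h3
      rwa [testBit_pl hN h1 hb, testBit_pl hN h2 hb] at h3
    · have hk : 2 ^ k ≤ 2 ^ b := Nat.pow_le_pow_right (by norm_num) (by omega)
      rw [Nat.testBit_lt_two_pow (lt_of_lt_of_le (lt_of_lt_of_le h1 hN) hk),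
        Nat.testBit_lt_two_pow (lt_of_lt_of_le (lt_of_lt_of_le h2 hN) hk)]
  · rw [wperm_eq_of_le hw (by omega), wperm_eq_of_le hw' (by omega)]

end Cfsg.Agent.Fischer.Fi24RepLib
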