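import Cfsg.Agent.Fischer.Fi24Rep
import Cfsg.Agent.Fischer.Fi24RepOrbData

/-!
Kernel checks on the action of the presented group `Fi24` on 306936 points: transitivity, orbits of
`H = ⟨a, …, j, l⟩` (all generators but `k`) of lengths 1, 31671, 275264.
-/

set_option autoImplicit false
set_option maxRecDepth 100000
set_option Elab.async false

namespace Cfsg.Agent.Fischer.Fi24RepOrb

open Cfsg.Agent.Lib.PermNet Cfsg.Agent.Lib.PermNetOrbit Cfsg.Agent.Fischer.Fi24RepLib
  Cfsg.Agent.Fischer.Fi24RepDef Cfsg.Agent.Fischer.Fi24Rep Cfsg.Agent.Fischer.Fi24RepOrbData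
open Cfsg.Spor (Fi24)
open Cfsg.Spor.Fi24 (Gen)

/-- all generators, as one letter words -/
def w0 : List (List Gen) := [[.l], [.k], [.a], [.b], [.c], [.d], [.e], [.f], [.g], [.j], [.h], [.i]]

/-- all generators but `k` -/
def w1 : List (List Gen) := [[.l], [.a], [.b], [.c], [.d], [.e], [.f], [.g], [.j], [.h], [.i]]

/-- a sequence of generators saturating the suborbit of `j` -/
def sW : List (List Gen) := [[.g], [.f], [.e], [.j], [.g], [.d], [.c], [.h], [.b], [.a], [.i], [.d], [.e], [.c], [.h], [.f],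
  [.d], [.e], [.h], [.c], [.g], [.b], [.c], [.a], [.i], [.d], [.h], [.c], [.f], [.e], [.g], [.i],
  [.d], [.h], [.c], [.e], [.f], [.g], [.e], [.j], [.b], [.a], [.g], [.c], [.d], [.c], [.e], [.h],
  [.b], [.a], [.f], [.g], [.e], [.d], [.c], [.b], [.j]]

/-- a sequence of generators saturating the suborbit of `k` -/
def sR : List (List Gen) := [[.l], [.a], [.b], [.c], [.d], [.e], [.h], [.f], [.g], [.i], [.d], [.c], [.e], [.h], [.b], [.a],
  [.d], [.c], [.h], [.e], [.j], [.f], [.g], [.e], [.b], [.a], [.d], [.c], [.e], [.h], [.i], [.h],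
  [.d], [.e], [.h], [.c], [.b], [.a], [.c], [.f], [.e], [.g], [.d], [.c], [.h], [.e], [.i], [.b],
  [.a], [.h], [.d], [.c], [.e], [.h], [.f], [.g], [.e], [.d], [.e], [.h], [.b], [.f], [.c], [.a]]

/-- a sequence of generators saturating the whole orbit -/
def sG : List (List Gen) := [[.k], [.l], [.a], [.b], [.c], [.k], [.a], [.d], [.e], [.h], [.f], [.g], [.i], [.d], [.c], [.e],
  [.h], [.b], [.a], [.j], [.d], [.c], [.h], [.e], [.f], [.g], [.e], [.i], [.d], [.h], [.c], [.b],
  [.a], [.c], [.e], [.k], [.l], [.f], [.e], [.d], [.c], [.e], [.h], [.i], [.h], [.b], [.a], [.c],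
  [.d], [.c], [.h], [.e], [.f], [.g], [.j], [.g], [.b], [.a], [.d], [.e], [.c], [.f], [.b], [.e]]

/-- all points -/
noncomputable def UG : ℕ := Nat.lor UW (Nat.lor UR 1)

/-- the complement of `UW` in the first 31680 positions -/
noncomputable def CW : ℕ := Nat.xor UW (Nat.sub (Nat.pow 2 (31680 : ℕ)) 1)

theorem satW : Nat.beq (sat (nws sW) 1 (2 ^ 136)) UW = true := by decide +kernel
theorem satR : Nat.beq (sat (nws sR) 1 (2 ^ 307872)) UR = true := by decide +kernel
theorem satG : Nat.beq (sat (nws sG) 1 (2 ^ 0)) UG = true := by decide +kernel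
theorem closedW : closedB (nws w1) UW = true := by decide +kernel
theorem closedR : closedB (nws w1) UR = true := by decide +kernel
theorem closedG : closedB (nws w0) UG = true := by decide +kernel
theorem tbW : tb UW 136 = true := by decide +kernel
theorem tbR : tb UR 307872 = true := by decide +kernel
theorem tbG : tb UG 0 = true := by decide +kernel
theorem fix0 : fixB (nws w1) 0 = true := by decide +kernel
theorem pcC : Nat.beq (pc 19 UC) (1592 : ℕ) = true := by decide +kernel
theorem ltC : Nat.beq (Nat.shiftRight UC (Nat.pow 2 (19 : ℕ))) 0 = true := by decide +kernel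
theorem pcCW : Nat.beq (pc 15 CW) (9 : ℕ) = true := by decide +kernel
theorem ltCW : Nat.beq (Nat.shiftRight CW (Nat.pow 2 (15 : ℕ))) 0 = true := by decide +kernel
theorem orG : Nat.beq (Nat.lor UG UC) (Nat.sub (Nat.pow 2 (308528 : ℕ)) 1) = true := by decide +kernel
theorem andG : Nat.beq (Nat.land UG UC) 0 = true := by decide +kernel
theorem orW : Nat.beq (Nat.lor UW CW) (Nat.sub (Nat.pow 2 (31680 : ℕ)) 1) = true := by decide +kernel
theorem andW : Nat.beq (Nat.land UW CW) 0 = true := by decide +kernel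
theorem andWR : Nat.beq (Nat.land UW UR) 0 = true := by decide +kernel
theorem andWR1 : Nat.beq (Nat.land (Nat.lor UW UR) 1) 0 = true := by decide +kernel

/-! ### General lemmas -/

/-- The orbit of a point under the image of a subgroup: saturation by `ws`, closure under `ws'`. -/
theorem orbit_closure_eq' {G : Type*} [Group G] (φ : G →* Equiv.Perm ℕ) (S : Set G) {N : ℕ}
    {ws ws' : List (List Net)} (hws : WsOk N ws) (hws' : WsOk N ws')
    (hS : ∀ g ∈ S, ∃ w ∈ ws', wperm w = φ g) (hS' : ∀ w ∈ ws, ∃ g ∈ S, wperm w = φ g) {r p₀ U : ℕ}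
    (hsat : Nat.beq (sat ws r (2 ^ p₀)) U = true) (hcl : closedB ws' U = true) (hp₀ : tb U p₀ = true) :
    {p : ℕ | ∃ x ∈ Subgroup.closure S, φ x p₀ = p} = {p | U.testBit p = true} := by
  have hU : sat ws r (2 ^ p₀) = U := Nat.eq_of_beq_eq_true hsat
  ext p
  rw [Set.mem_ofPred_eq, Set.mem_ofPred_eq]
  constructor
  · rintro ⟨x, hx, rfl⟩
    have hall : ∀ q, U.testBit (φ x q) = U.testBit q := by
      induction hx using Subgroup.closure_induction with
      | mem y hy =>
        obtain ⟨w, hw, hwy⟩ := hS y hy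
        intro q
        rw [← hwy]
        exact closedB_spec hws' hcl w hw q
      | one => intro q; rw [map_one]; rfl
      | mul y z _ _ hy hz => intro q; rw [map_mul, Equiv.Perm.mul_apply, hy, hz]
      | inv y _ hy => intro q; rw [← hy (φ y⁻¹ q), map_inv]; simp
    rw [hall, ← tb_eq, hp₀]
  · intro h
    rw [← hU] at h
    obtain ⟨g, ⟨x, hx, rfl⟩, hg⟩ := sat_point_spec (K := (Subgroup.closure S).map φ) hws (fun w hw => by
      obtain ⟨g, hg, e⟩ := hS' w hw
      rw [e]
      exact Subgroup.mem_map_of_mem φ (Subgroup.subset_closure hg)) r h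
    exact ⟨x, hx, hg⟩

/-- Counting bits through the complement. -/
theorem ncard_add_compl {n U C : ℕ} (h : Nat.beq (Nat.lor U C) (Nat.sub (Nat.pow 2 n) 1) = true)
    (hd : Nat.beq (Nat.land U C) 0 = true) :
    {p : ℕ | U.testBit p = true}.ncard + {p : ℕ | C.testBit p = true}.ncard = n := by
  have h1 : U ||| C = 2 ^ n - 1 := Nat.eq_of_beq_eq_true h
  have h2 : U &&& C = 0 := Nat.eq_of_beq_eq_true hd
  have hb : ∀ p, (U.testBit p || C.testBit p) = decide (p < n) := by
    intro p
    rw [← Nat.testBit_or, h1, Nat.testBit_two_pow_sub_one]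
  have hb2 : ∀ p, (U.testBit p && C.testBit p) = false := by
    intro p
    rw [← Nat.testBit_and, h2, Nat.zero_testBit]
  have hU : {p : ℕ | U.testBit p = true} ∪ {p : ℕ | C.testBit p = true} = ((Finset.range n : Finset ℕ) : Set ℕ) := by
    ext p
    have := hb p
    simp only [Set.mem_union, Set.mem_ofPred_eq, Finset.coe_range, Set.mem_Iio]
    rw [← Bool.or_eq_true, this, decide_eq_true_eq]
  have hdis : Disjoint {p : ℕ | U.testBit p = true} {p : ℕ | C.testBit p = true} := by
    rw [Set.disjoint_left]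
    intro p hp hp'
    have := hb2 p
    rw [Set.mem_ofPred_eq] at hp hp'
    rw [hp, hp'] at this
    exact absurd this (by simp)
  have hfin : ({p : ℕ | U.testBit p = true} ∪ {p : ℕ | C.testBit p = true}).Finite := by
    rw [hU]; exact Finset.finite_toSet _
  rw [← Set.ncard_union_eq hdis (hfin.subset Set.subset_union_left) (hfin.subset Set.subset_union_right), hU,
    Set.ncard_coe_finset, Finset.card_range]

/-- If `H` fixes `p₀`, the orbit of `p₀` has `n` points, and `H` has index at most `n`, then `H` is the stabiliser of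
`p₀` and has index `n`. -/
theorem index_eq_of_orbit {G : Type*} [Group G] (H : Subgroup G) (φ : G →* Equiv.Perm ℕ) (n p₀ : ℕ)
    (h0 : ∀ h ∈ H, φ h p₀ = p₀) (horb : {p : ℕ | ∃ g, φ g p₀ = p}.ncard = n) (hub : H.index ≤ n)
    (hne : H.index ≠ 0) : H.index = n ∧ (∀ g, φ g p₀ = p₀ ↔ g ∈ H) := by
  classical
  let ψ : G ⧸ H → ℕ := Quotient.lift (fun g : G => φ g p₀) (by
    intro a b hab
    have h1 : a⁻¹ * b ∈ H := QuotientGroup.leftRel_apply.1 hab
    have h2 : φ (a⁻¹ * b) p₀ = p₀ := h0 _ h1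
    rw [map_mul, map_inv, Equiv.Perm.mul_apply, Equiv.Perm.inv_eq_iff_eq] at h2
    exact h2.symm)
  have hψ : ∀ g : G, ψ (g : G ⧸ H) = φ g p₀ := fun g => rfl
  have hfi : H.FiniteIndex := ⟨hne⟩
  have hfin : Finite (G ⧸ H) := inferInstance
  have := Fintype.ofFinite (G ⧸ H)
  have hcard : Fintype.card (G ⧸ H) = H.index := by
    rw [← Nat.card_eq_fintype_card]; rfl
  have himg : {p : ℕ | ∃ g, φ g p₀ = p} = ((Finset.univ.image ψ : Finset ℕ) : Set ℕ) := by
    ext p
    simp only [Set.mem_ofPred_eq, Finset.coe_image, Finset.coe_univ, Set.image_univ, Set.mem_range]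
    constructor
    · rintro ⟨g, rfl⟩
      exact ⟨(g : G ⧸ H), rfl⟩
    · rintro ⟨x, rfl⟩
      induction x using QuotientGroup.induction_on with
      | H g => exact ⟨g, rfl⟩
  rw [himg, Set.ncard_coe_finset] at horb
  have hle : (Finset.univ.image ψ).card ≤ Fintype.card (G ⧸ H) := by
    have := Finset.card_image_le (s := (Finset.univ : Finset (G ⧸ H))) (f := ψ)
    rwa [Finset.card_univ] at this
  have hn : H.index = n := by omega
  refine ⟨hn, ?_⟩
  have hinj : Function.Injective ψ := by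
    have h1 : (Finset.univ.image ψ).card = (Finset.univ : Finset (G ⧸ H)).card := by
      rw [horb, Finset.card_univ, hcard, hn]
    have h2 := Finset.card_image_iff.1 h1
    intro x y hxy
    exact h2 (Finset.mem_coe.2 (Finset.mem_univ x)) (Finset.mem_coe.2 (Finset.mem_univ y)) hxy
  intro g
  constructor
  · intro hg
    have h3 : ψ (g : G ⧸ H) = ψ ((1 : G) : G ⧸ H) := by
      rw [hψ, hψ, hg, map_one]; rfl
    have h4 := hinj h3
    rw [QuotientGroup.eq] at h4
    have h5 : g⁻¹ ∈ H := by simpa using h4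
    simpa using H.inv_mem h5
  · exact h0 g

/-! ### The subgroup `H` -/

/-- The set of generators but `k` in the presented group. -/
def S1 : Set Fi24 := {g | ∃ l ∈ w1, word l = g}

/-- The set of all generators. -/
def S0 : Set Fi24 := {g | ∃ l ∈ w0, word l = g}

/-- The subgroup generated by all generators but `k`. -/
def H : Subgroup Fi24 := Subgroup.closure S1

theorem word_single (x : Gen) : word [x] = gen x := by
  unfold word; simp

theorem S1_eq : S1 = gen '' {x | x ≠ .k} := by
  ext g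
  unfold S1 w1
  constructor
  · rintro ⟨l, hl, rfl⟩
    simp only [List.mem_cons, List.not_mem_nil, or_false] at hl
    rcases hl with rfl | rfl | rfl | rfl | rfl | rfl | rfl | rfl | rfl | rfl | rfl <;>
      exact ⟨_, by simp, (word_single _).symm⟩
  · rintro ⟨x, hx, rfl⟩
    refine ⟨[x], ?_, word_single x⟩
    revert hx
    cases x <;> simp

theorem S0_eq : S0 = Set.range gen := by
  ext g
  unfold S0 w0
  constructor
  · rintro ⟨l, hl, rfl⟩
    simp only [List.mem_cons, List.not_mem_nil, or_false] at hl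
    rcases hl with rfl | rfl | rfl | rfl | rfl | rfl | rfl | rfl | rfl | rfl | rfl | rfl <;>
      exact ⟨_, (word_single _).symm⟩
  · rintro ⟨x, rfl⟩
    refine ⟨[x], ?_, word_single x⟩
    cases x <;> simp

theorem closure_S0 : Subgroup.closure S0 = ⊤ := by
  rw [S0_eq]
  exact PresentedGroup.closure_range_of _

theorem mem_H_gen {x : Gen} (hx : x ≠ .k) : gen x ∈ H :=
  Subgroup.subset_closure (by rw [S1_eq]; exact ⟨x, hx, rfl⟩)

theorem hS (ws : List (List Gen)) (g : Fi24) (hg : ∃ l ∈ ws, word l = g) :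
    ∃ w ∈ nws ws, wperm w = rho g := by
  obtain ⟨l, hl, rfl⟩ := hg
  exact ⟨nw l false, List.mem_map_of_mem hl, (rho_word l).symm⟩

theorem hS' (ws : List (List Gen)) (S : Set Fi24) (h : ∀ l ∈ ws, word l ∈ S) (w : List Net)
    (hw : w ∈ nws ws) : ∃ g ∈ S, wperm w = rho g := by
  obtain ⟨l, hl, rfl⟩ := List.mem_map.1 hw
  exact ⟨word l, h l hl, (rho_word l).symm⟩

theorem sW_mem : ∀ l ∈ sW, word l ∈ S1 := by
  have h : ∀ l ∈ sW, l ∈ w1 := by decide
  exact fun l hl => ⟨l, h l hl, rfl⟩

theorem sR_mem : ∀ l ∈ sR, word l ∈ S1 := by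
  have h : ∀ l ∈ sR, l ∈ w1 := by decide
  exact fun l hl => ⟨l, h l hl, rfl⟩

theorem sG_mem : ∀ l ∈ sG, word l ∈ S0 := by
  have h : ∀ l ∈ sG, l ∈ w0 := by decide
  exact fun l hl => ⟨l, h l hl, rfl⟩

/-- `H` fixes the point 0. -/
theorem H_fix (h : Fi24) (hh : h ∈ H) : rho h 0 = 0 := by
  unfold H at hh
  induction hh using Subgroup.closure_induction with
  | mem x hx =>
    obtain ⟨l, hl, rfl⟩ := hx
    rw [rho_word]
    exact fixB_spec (nws_ok w1) fix0 _ (List.mem_map_of_mem hl)
  | one => rw [map_one]; rfl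
  | mul x y _ _ hx hy => rw [map_mul, Equiv.Perm.mul_apply, hy, hx]
  | inv x _ hx => rw [map_inv, Equiv.Perm.inv_eq_iff_eq, hx]

theorem orbW : {p : ℕ | ∃ x ∈ H, rho x 136 = p} = {p | UW.testBit p = true} :=
  orbit_closure_eq' rho S1 (nws_ok sW) (nws_ok w1) (hS w1) (hS' sW S1 sW_mem) satW closedW tbW

theorem orbR : {p : ℕ | ∃ x ∈ H, rho x 307872 = p} = {p | UR.testBit p = true} :=
  orbit_closure_eq' rho S1 (nws_ok sR) (nws_ok w1) (hS w1) (hS' sR S1 sR_mem) satR closedR tbR

theorem orbG : {p : ℕ | ∃ x, rho x 0 = p} = {p | UG.testBit p = true} := by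
  have h := orbit_closure_eq' rho S0 (nws_ok sG) (nws_ok w0) (hS w0) (hS' sG S0 sG_mem) satG closedG tbG
  rw [closure_S0] at h
  rw [← h]
  ext p
  simp

theorem ncard_G : {p : ℕ | UG.testBit p = true}.ncard = 306936 := by
  have h1 := ncard_add_compl orG andG
  rw [ncard_testBit ltC pcC] at h1
  omega

theorem ncard_W : {p : ℕ | UW.testBit p = true}.ncard = 31671 := by
  have h1 := ncard_add_compl orW andW
  rw [ncard_testBit ltCW pcCW] at h1
  omega

theorem testBit_UG (p : ℕ) : UG.testBit p = (UW.testBit p || (UR.testBit p || decide (p = 0))) := by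
  have h1 : Nat.testBit 1 p = decide (p = 0) := by
    cases p with
    | zero => rfl
    | succ p => simp [Nat.testBit_succ]
  show (UW ||| (UR ||| 1)).testBit p = _
  rw [Nat.testBit_or, Nat.testBit_or, h1]

theorem disj (p : ℕ) : (UW.testBit p && UR.testBit p) = false := by
  have h : UW &&& UR = 0 := Nat.eq_of_beq_eq_true andWR
  rw [← Nat.testBit_and, h, Nat.zero_testBit]

theorem zero_not (h : UW.testBit 0 = true ∨ UR.testBit 0 = true) : False := by
  have h1 : (UW ||| UR) &&& 1 = 0 := Nat.eq_of_beq_eq_true andWR1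
  have h2 := congrArg (fun x => Nat.testBit x 0) h1
  simp only [Nat.testBit_and, Nat.testBit_or, Nat.zero_testBit] at h2
  rcases h with h | h <;> rw [h] at h2 <;> simp at h2

theorem ncard_R : {p : ℕ | UR.testBit p = true}.ncard = 275264 := by
  have h1 : {p : ℕ | UG.testBit p = true} = {p | UW.testBit p = true} ∪ ({p | UR.testBit p = true} ∪ {0}) := by
    ext p
    rw [Set.mem_ofPred_eq, testBit_UG]
    simp only [Bool.or_eq_true, decide_eq_true_eq, Set.mem_union, Set.mem_ofPred_eq, Set.mem_singleton_iff]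
  have hG : {p : ℕ | UG.testBit p = true}.Finite := by
    apply Set.finite_of_ncard_ne_zero
    rw [ncard_G]; norm_num
  have hR : {p : ℕ | UR.testBit p = true}.Finite := hG.subset (by
    intro p hp
    rw [Set.mem_ofPred_eq] at hp ⊢
    rw [testBit_UG, hp]; simp)
  have hW : {p : ℕ | UW.testBit p = true}.Finite := hG.subset (by
    intro p hp
    rw [Set.mem_ofPred_eq] at hp ⊢
    rw [testBit_UG, hp]; simp)
  have d1 : Disjoint {p : ℕ | UR.testBit p = true} {0} := by
    rw [Set.disjoint_singleton_right]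
    intro h
    exact zero_not (Or.inr h)
  have d2 : Disjoint {p : ℕ | UW.testBit p = true} ({p | UR.testBit p = true} ∪ {0}) := by
    rw [Set.disjoint_left]
    rintro p hp (hp' | hp')
    · have := disj p
      rw [Set.mem_ofPred_eq] at hp hp'
      rw [hp, hp'] at this
      exact absurd this (by simp)
    · rw [Set.mem_singleton_iff] at hp'
      subst hp'
      exact zero_not (Or.inl hp)
  have h2 := ncard_G
  rw [h1, Set.ncard_union_eq d2 hW (hR.union (Set.finite_singleton 0)), ncard_W,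
    Set.ncard_union_eq d1 hR (Set.finite_singleton 0), Set.ncard_singleton] at h2
  omega

theorem ncard_orbG : {p : ℕ | ∃ x, rho x 0 = p}.ncard = 306936 := by rw [orbG]; exact ncard_G
theorem ncard_orbW : {p : ℕ | ∃ x ∈ H, rho x 136 = p}.ncard = 31671 := by rw [orbW]; exact ncard_W
theorem ncard_orbR : {p : ℕ | ∃ x ∈ H, rho x 307872 = p}.ncard = 275264 := by rw [orbR]; exact ncard_R

/-- Index, point stabiliser and suborbits of `H`, given the upper bound for the index. -/
theorem index_and_suborbits (hub : H.index ≤ 306936) (hne : H.index ≠ 0) :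
    H.index = 306936 ∧ (∀ g, rho g 0 = 0 ↔ g ∈ H) ∧
    ∃ q₁ q₂ : Fi24 ⧸ H, (MulAction.orbit H q₁).ncard = 31671 ∧ (MulAction.orbit H q₂).ncard = 275264 := by
  obtain ⟨h1, h2⟩ := index_eq_of_orbit H rho 306936 0 H_fix ncard_orbG hub hne
  have hW : (136 : ℕ) ∈ {p : ℕ | ∃ x, rho x 0 = p} := by
    rw [orbG, Set.mem_ofPred_eq, testBit_UG, ← tb_eq, tbW]; rfl
  have hR : (307872 : ℕ) ∈ {p : ℕ | ∃ x, rho x 0 = p} := by
    rw [orbG, Set.mem_ofPred_eq, testBit_UG, ← tb_eq UR, tbR]; simp
  obtain ⟨g1, hg1⟩ := hW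
  obtain ⟨g2, hg2⟩ := hR
  refine ⟨h1, h2, (g1 : Fi24 ⧸ H), (g2 : Fi24 ⧸ H), ?_, ?_⟩
  · rw [ncard_orbit_quotient H H rho h2, hg1]; exact ncard_orbW
  · rw [ncard_orbit_quotient H H rho h2, hg2]; exact ncard_orbR

end Cfsg.Agent.Fischer.Fi24RepOrb
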