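import Cfsg.Agent.Fischer.Fi24RepResChk
import Cfsg.Agent.Fischer.Fi23Final

/-!
The action of `H = ⟨a, …, j, l⟩` on the 31671 points commuting with `l` is the action of `Fi23`; the order of `H` is
at least `2 |Fi23|`, the order of the presented group `Fi24` is at least `2 |Fi24'|`.
-/

set_option autoImplicit false
set_option maxRecDepth 100000

namespace Cfsg.Agent.Fischer.Fi24RepRes

open Cfsg.Agent.Lib.PermNet Cfsg.Agent.Lib.PermNetOrbit Cfsg.Agent.Fischer.Fi24RepLib
  Cfsg.Agent.Fischer.Fi24RepDef Cfsg.Agent.Fischer.Fi24Rep Cfsg.Agent.Fischer.Fi24RepOrbData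
  Cfsg.Agent.Fischer.Fi24RepOrb Cfsg.Agent.Fischer.Fi24RepResChk
open Cfsg.Agent.Fischer.Fi24RepSigma (sig sigr)
open Cfsg.Spor (Fi24)

/-- The bijection from the numbering of `Fi23Nets` to our positions. -/
noncomputable def σ : Equiv.Perm ℕ := sig.perm

/-- The permutation of a generator of `Fi23`. -/
noncomputable def ν (y : Cfsg.Spor.Fi23.Gen) : Equiv.Perm ℕ := (Cfsg.Agent.Fischer.Fi23Rel.net y).perm

theorem ok23 (y : Cfsg.Spor.Fi23.Gen) : (Cfsg.Agent.Fischer.Fi23Rel.net y).ok (2 ^ 15) = true :=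
  Cfsg.Agent.Fischer.Fi23Rel.ok_net y

theorem mem_g23 (y : Cfsg.Spor.Fi23.Gen) : y ∈ g23 := by cases y <;> decide

theorem resB_spec_aux {T : ℕ} : ∀ (l : List Cfsg.Spor.Fi23.Gen),
    (List.rec (motive := fun _ => Bool) true
      (fun y _ ih => and (Nat.beq (appWord (nw [up y] false ++ [sig]) T)
        (appWord [sig, Cfsg.Agent.Fischer.Fi23Rel.net y] T)) ih) l : Bool) = true →
    ∀ y ∈ l, appWord (nw [up y] false ++ [sig]) T = appWord [sig, Cfsg.Agent.Fischer.Fi23Rel.net y] T
  | [], _, y, hy => absurd hy (by simp)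
  | z :: l, h, y, hy => by
    have h' : and (Nat.beq (appWord (nw [up z] false ++ [sig]) T)
        (appWord [sig, Cfsg.Agent.Fischer.Fi23Rel.net z] T)) (List.rec (motive := fun _ => Bool) true
      (fun y _ ih => and (Nat.beq (appWord (nw [up y] false ++ [sig]) T)
        (appWord [sig, Cfsg.Agent.Fischer.Fi23Rel.net y] T)) ih) l : Bool) = true := h
    rw [Bool.and_eq_true] at h'
    rcases List.mem_cons.1 hy with rfl | hy
    · exact Nat.eq_of_beq_eq_true h'.1
    · exact resB_spec_aux l h'.2 y hy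

theorem resB_spec {T : ℕ} (h : resB T = true) (y : Cfsg.Spor.Fi23.Gen) :
    appWord (nw [up y] false ++ [sig]) T = appWord [sig, Cfsg.Agent.Fischer.Fi23Rel.net y] T :=
  resB_spec_aux g23 h y (mem_g23 y)

theorem highB_spec_aux {b : ℕ} : ∀ (l : List Cfsg.Spor.Fi23.Gen),
    (List.rec (motive := fun _ => Bool) true
      (fun y _ ih => and (Nat.beq (Nat.shiftRight (Nat.xor ((Cfsg.Agent.Fischer.Fi23Rel.net y).app (plane 15 b))
        (plane 15 b)) (31671 : ℕ)) 0) ih) l : Bool) = true →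
    ∀ y ∈ l, ((Cfsg.Agent.Fischer.Fi23Rel.net y).app (plane 15 b) ^^^ plane 15 b) >>> 31671 = 0
  | [], _, y, hy => absurd hy (by simp)
  | z :: l, h, y, hy => by
    have h' : and (Nat.beq (Nat.shiftRight (Nat.xor ((Cfsg.Agent.Fischer.Fi23Rel.net z).app (plane 15 b))
        (plane 15 b)) (31671 : ℕ)) 0) (List.rec (motive := fun _ => Bool) true
      (fun y _ ih => and (Nat.beq (Nat.shiftRight (Nat.xor ((Cfsg.Agent.Fischer.Fi23Rel.net y).app (plane 15 b))
        (plane 15 b)) (31671 : ℕ)) 0) ih) l : Bool) = true := h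
    rw [Bool.and_eq_true] at h'
    rcases List.mem_cons.1 hy with rfl | hy
    · exact Nat.eq_of_beq_eq_true h'.1
    · exact highB_spec_aux l h'.2 y hy

theorem highB_spec {b : ℕ} (h : highB b = true) (y : Cfsg.Spor.Fi23.Gen) :
    ((Cfsg.Agent.Fischer.Fi23Rel.net y).app (plane 15 b) ^^^ plane 15 b) >>> 31671 = 0 :=
  highB_spec_aux g23 h y (mem_g23 y)

theorem resAll (b : ℕ) (hb : b < 15) : resB (P b) = true := by
  interval_cases b
  · exact res0
  · exact res1
  · exact res2
  · exact res3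
  · exact res4
  · exact res5
  · exact res6
  · exact res7
  · exact res8
  · exact res9
  · exact res10
  · exact res11
  · exact res12
  · exact res13
  · exact res14

theorem highAll (b : ℕ) (hb : b < 15) : highB b = true := by
  interval_cases b
  · exact high0
  · exact high1
  · exact high2
  · exact high3
  · exact high4
  · exact high5
  · exact high6
  · exact high7
  · exact high8
  · exact high9
  · exact high10
  · exact high11
  · exact high12
  · exact high13
  · exact high14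

theorem ok_sig19 : sig.ok 327680 = true := ok_mono (by norm_num) ok_sig

/-- `σ` maps `{0, …, 31670}` onto the points commuting with `l`. -/
theorem UW_σ (i : ℕ) : UW.testBit (σ i) = decide (i < 31671) := by
  have h : sig.app UW = 2 ^ 31671 - 1 := Nat.eq_of_beq_eq_true sigU
  rw [σ, ← testBit_app ok_sig, h, Nat.testBit_two_pow_sub_one]

theorem wok_res (y : Cfsg.Spor.Fi23.Gen) : WOk 327680 (nw [up y] false ++ [sig]) :=
  WOk.append (wok _ _) (WOk.cons ok_sig19 (WOk.nil _))

theorem wok_res' (y : Cfsg.Spor.Fi23.Gen) : WOk (2 ^ 15) [sig, Cfsg.Agent.Fischer.Fi23Rel.net y] :=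
  WOk.cons ok_sig (WOk.cons (ok23 y) (WOk.nil _))

theorem wperm_res (y : Cfsg.Spor.Fi23.Gen) : wperm (nw [up y] false ++ [sig]) = rho0 (up y) * σ := by
  rw [wperm_append, prd_eq, prd_cons, prd_nil, mul_one, wperm_cons, wperm_nil, mul_one, σ]

theorem wperm_res' (y : Cfsg.Spor.Fi23.Gen) : wperm [sig, Cfsg.Agent.Fischer.Fi23Rel.net y] = σ * ν y := by
  rw [wperm_cons, wperm_cons, wperm_nil, mul_one, σ, ν]

/-- agreement on a test set -/
theorem res_testBit {T : ℕ} (h : resB T = true) (y : Cfsg.Spor.Fi23.Gen) (i : ℕ) :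
    T.testBit (rho0 (up y) (σ i)) = T.testBit (σ (ν y i)) := by
  have h1 : (appWord (nw [up y] false ++ [sig]) T).testBit i =
      (appWord [sig, Cfsg.Agent.Fischer.Fi23Rel.net y] T).testBit i := by rw [resB_spec h y]
  rw [testBit_appWord (wok_res y), testBit_appWord (wok_res' y), wperm_res, wperm_res',
    Equiv.Perm.mul_apply, Equiv.Perm.mul_apply] at h1
  exact h1

theorem up_ne (y : Cfsg.Spor.Fi23.Gen) : up y ≠ .k := by cases y <;> decide

/-- The set `UW` is invariant under `H`. -/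
theorem UW_inv {h : Fi24} (hh : h ∈ H) (q : ℕ) : UW.testBit (rho h q) = UW.testBit q := by
  unfold H at hh
  induction hh using Subgroup.closure_induction generalizing q with
  | mem x hx =>
    obtain ⟨w, hw, hwy⟩ := hS w1 x hx
    rw [← hwy]
    exact closedB_spec (nws_ok w1) closedW w hw q
  | one => rw [map_one]; rfl
  | mul x y _ _ hx hy => rw [map_mul, Equiv.Perm.mul_apply, hx, hy]
  | inv x _ hx => rw [← hx (rho x⁻¹ q), map_inv]; simp

theorem rho0_inv (y : Cfsg.Spor.Fi23.Gen) (q : ℕ) : UW.testBit (rho0 (up y) q) = UW.testBit q := by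
  rw [← rho_gen]
  exact UW_inv (mem_H_gen (up_ne y)) q

theorem UW_lt {q : ℕ} (h : UW.testBit q = true) : q < 2 ^ 15 := by
  by_contra hc
  have h1 := UW_σ (σ.symm q)
  rw [σ.apply_symm_apply, h] at h1
  have h2 : σ.symm q < 31671 := by simpa using h1.symm
  have h3 := perm_lt ok_sig (p := σ.symm q) (by omega)
  rw [← σ, σ.apply_symm_apply] at h3
  exact hc h3

/-- The generators act on the 31671 points as the networks of `Fi23`. -/
theorem res_eq (y : Cfsg.Spor.Fi23.Gen) {i : ℕ} (hi : i < 31671) : rho0 (up y) (σ i) = σ (ν y i) := by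
  have h1 : UW.testBit (rho0 (up y) (σ i)) = true := by
    rw [rho0_inv, UW_σ]; simpa using hi
  have h2 : UW.testBit (σ (ν y i)) = true := by
    rw [← res_testBit resU]; exact h1
  have l1 := UW_lt h1
  have l2 := UW_lt h2
  apply Nat.eq_of_testBit_eq
  intro b
  by_cases hb : b < 15
  · have h3 := res_testBit (resAll b hb) y i
    have e : ∀ q, (P b).testBit q = ((plane 15 b).testBit q && UW.testBit q) := by
      intro q
      show (plane 15 b &&& UW).testBit q = _
      rw [Nat.testBit_and]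
    rwa [e, e, h1, h2, Bool.and_true, Bool.and_true, testBit_plane 15 b _ l1 hb, testBit_plane 15 b _ l2 hb] at h3
  · have hk : 2 ^ 15 ≤ 2 ^ b := Nat.pow_le_pow_right (by norm_num) (by omega)
    rw [Nat.testBit_lt_two_pow (lt_of_lt_of_le l1 hk), Nat.testBit_lt_two_pow (lt_of_lt_of_le l2 hk)]

theorem ν_lt (y : Cfsg.Spor.Fi23.Gen) {i : ℕ} (hi : i < 31671) : ν y i < 31671 := by
  have h : UW.testBit (σ (ν y i)) = true := by
    rw [← res_eq y hi, rho0_inv, UW_σ]; simpa using hi
  rw [UW_σ] at h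
  simpa using h

theorem ν_high (y : Cfsg.Spor.Fi23.Gen) {i : ℕ} (hi : 31671 ≤ i) : ν y i = i := by
  by_cases h15 : i < 2 ^ 15
  · have l1 : ν y i < 2 ^ 15 := perm_lt (ok23 y) h15
    apply Nat.eq_of_testBit_eq
    intro b
    by_cases hb : b < 15
    · have h1 := congrArg (fun x => Nat.testBit x (i - 31671)) (highB_spec (highAll b hb) y)
      simp only [Nat.testBit_shiftRight, Nat.zero_testBit, Nat.testBit_xor] at h1
      rw [show 31671 + (i - 31671) = i by omega, testBit_app (ok23 y)] at h1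
      have h2 : (plane 15 b).testBit (ν y i) = (plane 15 b).testBit i := by
        rw [ν]
        revert h1
        cases (plane 15 b).testBit ((Cfsg.Agent.Fischer.Fi23Rel.net y).perm i) <;>
          cases (plane 15 b).testBit i <;> simp
      rwa [testBit_plane 15 b _ l1 hb, testBit_plane 15 b _ h15 hb] at h2
    · have hk : 2 ^ 15 ≤ 2 ^ b := Nat.pow_le_pow_right (by norm_num) (by omega)
      rw [Nat.testBit_lt_two_pow (lt_of_lt_of_le l1 hk), Nat.testBit_lt_two_pow (lt_of_lt_of_le h15 hk)]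
  · exact perm_eq_of_le (ok23 y) (by omega)

/-- The conjugated action preserves `{0, …, 31670}`. -/
theorem conj_inv (h : H) (i : ℕ) : (σ⁻¹ * rho (h : Fi24) * σ) i < 31671 ↔ i < 31671 := by
  have e1 := UW_σ ((σ⁻¹ * rho (h : Fi24) * σ) i)
  rw [show σ ((σ⁻¹ * rho (h : Fi24) * σ) i) = rho (h : Fi24) (σ i) by simp [Equiv.Perm.mul_apply],
    UW_inv h.2, UW_σ] at e1
  exact (decide_eq_decide.1 e1).symm

/-- The action of `H` on the 31671 points commuting with `l`, in the numbering of `Fi23Nets`. -/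
noncomputable def phiH : H →* Equiv.Perm ℕ where
  toFun h := Equiv.Perm.ofSubtype (p := fun i => i < 31671)
    ((σ⁻¹ * rho (h : Fi24) * σ).subtypePerm (conj_inv h))
  map_one' := by
    rw [← map_one (Equiv.Perm.ofSubtype (p := fun i => i < 31671))]
    congr 1
    ext i
    simp [Equiv.Perm.subtypePerm_apply]
  map_mul' := by
    intro h h'
    rw [← map_mul, Equiv.Perm.subtypePerm_mul]
    congr 1
    ext i
    show (σ⁻¹ * rho ((h * h' : H) : Fi24) * σ) i = (σ⁻¹ * rho (h : Fi24) * σ * (σ⁻¹ * rho (h' : Fi24) * σ)) i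
    rw [Subgroup.coe_mul, map_mul]
    congr 1
    group

theorem phiH_of_lt (h : H) {i : ℕ} (hi : i < 31671) : phiH h i = σ⁻¹ (rho (h : Fi24) (σ i)) := by
  show Equiv.Perm.ofSubtype (p := fun i => i < 31671)
    ((σ⁻¹ * rho (h : Fi24) * σ).subtypePerm (conj_inv h)) i = _
  rw [Equiv.Perm.ofSubtype_apply_of_mem (p := fun i => i < 31671) (a := i) _ hi]
  rfl

theorem phiH_of_ge (h : H) {i : ℕ} (hi : ¬ i < 31671) : phiH h i = i :=
  Equiv.Perm.ofSubtype_apply_of_not_mem (p := fun i => i < 31671) _ hi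

/-- On the generators of `Fi23` the action is given by its networks. -/
theorem phiH_gen (y : Cfsg.Spor.Fi23.Gen) : phiH ⟨gen (up y), mem_H_gen (up_ne y)⟩ = ν y := by
  ext i
  by_cases hi : i < 31671
  · rw [phiH_of_lt _ hi]
    show σ⁻¹ (rho (gen (up y)) (σ i)) = ν y i
    rw [rho_gen, res_eq y hi]
    exact σ.symm_apply_apply _
  · rw [phiH_of_ge _ hi, ν_high y (by omega)]

theorem trivAll (b : ℕ) (hb : b < 15) : trivB b = true := by
  interval_cases b
  · exact triv0
  · exact triv1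
  · exact triv2
  · exact triv3
  · exact triv4
  · exact triv5
  · exact triv6
  · exact triv7
  · exact triv8
  · exact triv9
  · exact triv10
  · exact triv11
  · exact triv12
  · exact triv13
  · exact triv14

theorem testBit_P (b q : ℕ) : (P b).testBit q = ((plane 15 b).testBit q && UW.testBit q) := by
  show (plane 15 b &&& UW).testBit q = _
  rw [Nat.testBit_and]

/-- `l` fixes the 31671 points. -/
theorem l_fix {q : ℕ} (h : UW.testBit q = true) : rho0 .l q = q := by
  have h1 : UW.testBit (rho0 .l q) = true := by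
    rw [← rho_gen, UW_inv (mem_H_gen (by decide))]; exact h
  have l1 := UW_lt h1
  have l2 := UW_lt h
  apply Nat.eq_of_testBit_eq
  intro b
  by_cases hb : b < 15
  · have e : (net .l).app (P b) = P b := Nat.eq_of_beq_eq_true (trivAll b hb)
    have h3 : ((net .l).app (P b)).testBit q = (P b).testBit q := by rw [e]
    rw [testBit_app (ok_net .l), ← rho0_fst (x := .l) rfl, testBit_P, testBit_P, h1, h, Bool.and_true,
      Bool.and_true, testBit_plane 15 b _ l1 hb, testBit_plane 15 b _ l2 hb] at h3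
    exact h3
  · have hk : 2 ^ 15 ≤ 2 ^ b := Nat.pow_le_pow_right (by norm_num) (by omega)
    rw [Nat.testBit_lt_two_pow (lt_of_lt_of_le l1 hk), Nat.testBit_lt_two_pow (lt_of_lt_of_le l2 hk)]

/-- The element `l` of `H`. -/
noncomputable def lH : H := ⟨gen .l, mem_H_gen (by decide)⟩

/-- `l` acts trivially on the 31671 points. -/
theorem phiH_l : phiH lH = 1 := by
  ext i
  by_cases hi : i < 31671
  · rw [phiH_of_lt _ hi]
    show σ⁻¹ (rho (gen .l) (σ i)) = i
    have h : UW.testBit (σ i) = true := by rw [UW_σ]; simpa using hi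
    rw [rho_gen, l_fix h]
    exact σ.symm_apply_apply _
  · rw [phiH_of_ge _ hi]; rfl

theorem rho_l_ne : rho (gen .l) ≠ 1 := by
  intro h
  have h1 : rho0 .l 307872 = 307872 := by rw [← rho_gen, h]; rfl
  rw [rho0_fst (x := .l) rfl, ← Net.pt_eq (ok_net .l)] at h1
  have h2 := l_moves
  rw [h1] at h2
  exact absurd h2 (by simp)

theorem lH_ne : lH ≠ 1 := by
  intro h
  apply rho_l_ne
  have : gen .l = 1 := congrArg Subtype.val h
  rw [this, map_one]

/-! ### The stabiliser chain of `Fi23` -/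

/-- The element of `H` of a word in the generators of `Fi23`. -/
noncomputable def wordH (l : List Cfsg.Spor.Fi23.Gen) : H :=
  (l.map (fun y => (⟨gen (up y), mem_H_gen (up_ne y)⟩ : H))).prod

theorem phiH_wordH (l : List Cfsg.Spor.Fi23.Gen) :
    phiH (wordH l) = wperm (l.map Cfsg.Agent.Fischer.Fi23Rel.net) := by
  unfold wordH
  induction l with
  | nil => simp
  | cons x l ih =>
    rw [List.map_cons, List.prod_cons, map_mul, phiH_gen, List.map_cons, wperm_cons, ih, ν]

theorem nwH_img (ws : List (List Cfsg.Spor.Fi23.Gen)) :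
    ∀ w ∈ Cfsg.Agent.Fischer.Fi23Orb.nw ws, ∃ g, phiH g = wperm w := by
  intro w hw
  obtain ⟨l, _, rfl⟩ := List.mem_map.1 hw
  exact ⟨wordH l, phiH_wordH l⟩

theorem gen_cases {z : Cfsg.Spor.Fi24.Gen} (hz : z ≠ .k) : z = .l ∨ ∃ y, z = up y := by
  revert hz
  cases z <;> intro hz
  · exact Or.inl rfl
  · exact absurd rfl hz
  · exact Or.inr ⟨.a, rfl⟩
  · exact Or.inr ⟨.b, rfl⟩
  · exact Or.inr ⟨.c, rfl⟩
  · exact Or.inr ⟨.d, rfl⟩
  · exact Or.inr ⟨.e, rfl⟩
  · exact Or.inr ⟨.f, rfl⟩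
  · exact Or.inr ⟨.g, rfl⟩
  · exact Or.inr ⟨.j, rfl⟩
  · exact Or.inr ⟨.h, rfl⟩
  · exact Or.inr ⟨.i, rfl⟩

/-- The action of `H` on the 31671 points has the same image as the action of the presented group `Fi23`. -/
theorem range_phiH : phiH.range = Cfsg.Agent.Fischer.Fi23Hom.rho.range := by
  have h1 : ∀ y, Cfsg.Agent.Fischer.Fi23Hom.rho (Cfsg.Agent.Fischer.Fi23Hom.gen y) = ν y :=
    fun y => Cfsg.Agent.Fischer.Fi23Hom.rho_gen y
  have e1 : (⊤ : Subgroup H) = Subgroup.closure (((↑) : H → Fi24) ⁻¹' S1) :=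
    (Subgroup.closure_closure_coe_preimage (k := S1)).symm
  have e2 : (⊤ : Subgroup Cfsg.Spor.Fi23) = Subgroup.closure (Set.range Cfsg.Agent.Fischer.Fi23Hom.gen) :=
    (PresentedGroup.closure_range_of _).symm
  apply le_antisymm
  · rw [MonoidHom.range_eq_map, e1, MonoidHom.map_closure, Subgroup.closure_le]
    rintro _ ⟨⟨x, hx⟩, hx', rfl⟩
    have hx2 : x ∈ S1 := hx'
    rw [S1_eq] at hx2
    obtain ⟨z, hz, rfl⟩ := hx2
    rcases gen_cases hz with rfl | ⟨y, rfl⟩
    · exact (congrArg (· ∈ Cfsg.Agent.Fischer.Fi23Hom.rho.range) phiH_l).mpr (Subgroup.one_mem _)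
    · exact (congrArg (· ∈ Cfsg.Agent.Fischer.Fi23Hom.rho.range) (phiH_gen y)).mpr ⟨_, h1 y⟩
  · rw [MonoidHom.range_eq_map, e2, MonoidHom.map_closure, Subgroup.closure_le]
    rintro _ ⟨_, ⟨y, rfl⟩, rfl⟩
    exact ⟨⟨gen (up y), mem_H_gen (up_ne y)⟩, by rw [phiH_gen]; exact (h1 y).symm⟩

/-- The stabiliser chain of `Fi23`, for `H` acting on the 31671 points. -/
theorem card_H_mul_ge [Finite H] :
    4089470473293004800 * Nat.card (stabL phiH [1086, 224, 11589, 1, 0]) ≤ Nat.card H := by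
  have h0 := stabL_step_of_check (k := 15) phiH [] 0 31671 9 (Cfsg.Agent.Fischer.Fi23Orb.nw_ok
    Cfsg.Agent.Fischer.Fi23Orb.w0) (nwH_img _) Cfsg.Agent.Fischer.Fi23Orb.cfix0
    Cfsg.Agent.Fischer.Fi23Orb.cm0 Cfsg.Agent.Fischer.Fi23Orb.clt0
  have h1 := stabL_step_of_check (k := 15) phiH [0] 1 28160 9 (Cfsg.Agent.Fischer.Fi23Orb.nw_ok
    Cfsg.Agent.Fischer.Fi23Orb.w1) (nwH_img _) Cfsg.Agent.Fischer.Fi23Orb.cfix1
    Cfsg.Agent.Fischer.Fi23Orb.cm1 Cfsg.Agent.Fischer.Fi23Orb.clt1
  have h2 := stabL_step_of_check (k := 15) phiH [1, 0] 11589 351 7 (Cfsg.Agent.Fischer.Fi23Orb.nw_ok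
    Cfsg.Agent.Fischer.Fi23Orb.w2) (nwH_img _) Cfsg.Agent.Fischer.Fi23Orb.cfix2
    Cfsg.Agent.Fischer.Fi23Orb.cm2 Cfsg.Agent.Fischer.Fi23Orb.clt2
  have h3 := stabL_step_of_check (k := 15) phiH [11589, 1, 0] 224 20160 6 (Cfsg.Agent.Fischer.Fi23Orb.nw_ok
    Cfsg.Agent.Fischer.Fi23Orb.w3) (nwH_img _) Cfsg.Agent.Fischer.Fi23Orb.cfix3
    Cfsg.Agent.Fischer.Fi23Orb.cm3 Cfsg.Agent.Fischer.Fi23Orb.clt3
  have h4 := stabL_step_of_check (k := 15) phiH [224, 11589, 1, 0] 1086 648 3 (Cfsg.Agent.Fischer.Fi23Orb.nw_ok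
    Cfsg.Agent.Fischer.Fi23Orb.w4) (nwH_img _) Cfsg.Agent.Fischer.Fi23Orb.cfix4
    Cfsg.Agent.Fischer.Fi23Orb.cm4 Cfsg.Agent.Fischer.Fi23Orb.clt4
  have h6 : Nat.card (stabL phiH []) ≤ Nat.card H :=
    Nat.card_le_card_of_injective _ Subtype.val_injective
  calc 4089470473293004800 * Nat.card (stabL phiH [1086, 224, 11589, 1, 0])
      = 31671 * (28160 * (351 * (20160 * (648 * Nat.card (stabL phiH [1086, 224, 11589, 1, 0]))))) := by
        ring
    _ ≤ 31671 * (28160 * (351 * (20160 * Nat.card (stabL phiH [224, 11589, 1, 0])))) := by gcongr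
    _ ≤ 31671 * (28160 * (351 * Nat.card (stabL phiH [11589, 1, 0]))) := by gcongr
    _ ≤ 31671 * (28160 * Nat.card (stabL phiH [1, 0])) := by gcongr
    _ ≤ 31671 * Nat.card (stabL phiH [0]) := by gcongr
    _ ≤ Nat.card (stabL phiH []) := h0
    _ ≤ Nat.card H := h6

theorem lH_mem : lH ∈ stabL phiH [1086, 224, 11589, 1, 0] := by
  intro q _
  rw [phiH_l]; rfl

theorem two_le_stab [Finite H] : 2 ≤ Nat.card (stabL phiH [1086, 224, 11589, 1, 0]) := by
  have : Nontrivial (stabL phiH [1086, 224, 11589, 1, 0]) :=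
    ⟨⟨⟨lH, lH_mem⟩, 1, fun h => lH_ne (congrArg Subtype.val h)⟩⟩
  exact Finite.one_lt_card_iff_nontrivial.2 this

theorem card_H_ge [Finite H] : 8178940946586009600 ≤ Nat.card H := by
  have h1 := card_H_mul_ge
  have h2 := two_le_stab
  omega

/-- The index of a subgroup fixing a point is at least the length of the orbit. -/
theorem orbit_le_index {G : Type*} [Group G] (H : Subgroup G) (φ : G →* Equiv.Perm ℕ) (p₀ : ℕ)
    (h0 : ∀ h ∈ H, φ h p₀ = p₀) (hne : H.index ≠ 0) : {p : ℕ | ∃ g, φ g p₀ = p}.ncard ≤ H.index := by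
  classical
  let ψ : G ⧸ H → ℕ := Quotient.lift (fun g : G => φ g p₀) (by
    intro a b hab
    have h1 : a⁻¹ * b ∈ H := QuotientGroup.leftRel_apply.1 hab
    have h2 : φ (a⁻¹ * b) p₀ = p₀ := h0 _ h1
    rw [map_mul, map_inv, Equiv.Perm.mul_apply, Equiv.Perm.inv_eq_iff_eq] at h2
    exact h2.symm)
  have hfi : H.FiniteIndex := ⟨hne⟩
  have hfin : Finite (G ⧸ H) := inferInstance
  have := Fintype.ofFinite (G ⧸ H)
  have himg : {p : ℕ | ∃ g, φ g p₀ = p} = ((Finset.univ.image ψ : Finset ℕ) : Set ℕ) := by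
    ext p
    simp only [Set.mem_ofPred_eq, Finset.coe_image, Finset.coe_univ, Set.image_univ, Set.mem_range]
    constructor
    · rintro ⟨g, rfl⟩
      exact ⟨(g : G ⧸ H), rfl⟩
    · rintro ⟨x, rfl⟩
      induction x using QuotientGroup.induction_on with
      | H g => exact ⟨g, rfl⟩
  rw [himg, Set.ncard_coe_finset]
  refine Finset.card_image_le.trans ?_
  rw [Finset.card_univ, ← Nat.card_eq_fintype_card]
  rfl

theorem index_ge (hne : H.index ≠ 0) : 306936 ≤ H.index := by
  rw [← ncard_orbG]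
  exact orbit_le_index H rho 0 H_fix hne

/-- Lower bound for the order of the presented group. -/
theorem card_ge [Finite Fi24] : 2510411418381323442585600 ≤ Nat.card Fi24 := by
  rw [← Subgroup.card_mul_index H]
  calc 2510411418381323442585600 = 8178940946586009600 * 306936 := by norm_num
    _ ≤ Nat.card H * H.index := Nat.mul_le_mul card_H_ge (index_ge Subgroup.index_ne_zero_of_finite)

/-! ### Exact values, given the upper bounds -/

theorem card_H_eq (hfin : Finite H) (hH : Nat.card H ≤ 8178940946586009600) :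
    Nat.card H = 8178940946586009600 := le_antisymm hH card_H_ge

theorem finite_Fi24 (hne : H.index ≠ 0) (hfin : Finite H) : Finite Fi24 := Nat.finite_of_card_ne_zero (by
  rw [← Subgroup.card_mul_index H]
  exact Nat.mul_ne_zero Nat.card_pos.ne' hne)

theorem card_eq (hub : H.index ≤ 306936) (hne : H.index ≠ 0) (hfin : Finite H)
    (hH : Nat.card H ≤ 8178940946586009600) : Nat.card Fi24 = 2510411418381323442585600 := by
  rw [← Subgroup.card_mul_index H, card_H_eq hfin hH, le_antisymm hub (index_ge hne)]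

theorem card_stab_eq (hfin : Finite H) (hH : Nat.card H ≤ 8178940946586009600) :
    Nat.card (stabL phiH [1086, 224, 11589, 1, 0]) = 2 := by
  have h1 := card_H_mul_ge
  have h2 := two_le_stab
  omega

/-- `l` generates the kernel of the action of `H` on the 31671 points. -/
theorem eq_of_mem_stab (hfin : Finite H) (hH : Nat.card H ≤ 8178940946586009600) {g : H}
    (hg : g ∈ stabL phiH [1086, 224, 11589, 1, 0]) : g = 1 ∨ g = lH := by
  have h2 := card_stab_eq hfin hH
  rw [Nat.card_eq_two_iff' (⟨1, Subgroup.one_mem _⟩ : stabL phiH [1086, 224, 11589, 1, 0])] at h2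
  obtain ⟨y, _, hy⟩ := h2
  have hl : (⟨lH, lH_mem⟩ : stabL phiH [1086, 224, 11589, 1, 0]) = y :=
    hy _ (fun h => lH_ne (congrArg Subtype.val h))
  by_cases h : g = 1
  · exact Or.inl h
  · right
    have hg' : (⟨g, hg⟩ : stabL phiH [1086, 224, 11589, 1, 0]) = y :=
      hy _ (fun h' => h (congrArg Subtype.val h'))
    rw [← hl] at hg'
    exact congrArg Subtype.val hg'

theorem ker_phiH (hfin : Finite H) (hH : Nat.card H ≤ 8178940946586009600) {g : H} :
    phiH g = 1 ↔ g = 1 ∨ g = lH := by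
  constructor
  · intro h
    refine eq_of_mem_stab hfin hH ?_
    intro q _
    rw [h]; rfl
  · rintro (rfl | rfl)
    · exact map_one _
    · exact phiH_l

/-- The action on the 306936 points is faithful. -/
theorem rho_injective (hub : H.index ≤ 306936) (hne : H.index ≠ 0) (hfin : Finite H)
    (hH : Nat.card H ≤ 8178940946586009600) : Function.Injective rho := by
  rw [injective_iff_map_eq_one]
  intro g hg
  obtain ⟨_, hst, _⟩ := index_and_suborbits hub hne
  have hgH : g ∈ H := (hst g).1 (by rw [hg]; rfl)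
  have h1 : phiH ⟨g, hgH⟩ = 1 := by
    ext i
    by_cases hi : i < 31671
    · rw [phiH_of_lt _ hi]
      show σ⁻¹ (rho g (σ i)) = i
      rw [hg]
      exact σ.symm_apply_apply _
    · rw [phiH_of_ge _ hi]; rfl
  rcases (ker_phiH hfin hH).1 h1 with h | h
  · exact congrArg Subtype.val h
  · exfalso
    apply rho_l_ne
    have : gen .l = g := (congrArg Subtype.val h).symm
    rw [this, hg]

end Cfsg.Agent.Fischer.Fi24RepRes
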