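import Cfsg.Agent.Fischer.Fi24RepOrb
import Cfsg.Agent.Fischer.Fi24RepSigma
import Cfsg.Agent.Fischer.Fi23Rel

/-!
Kernel checks: the action of `a, …, j, h, i` on the 31671 points commuting with `l` is the action of the
generators of `Fi23` given by the networks of `Fi23Nets`.
-/

set_option autoImplicit false
set_option maxRecDepth 100000
set_option Elab.async false

namespace Cfsg.Agent.Fischer.Fi24RepResChk

open Cfsg.Agent.Lib.PermNet Cfsg.Agent.Fischer.Fi24RepLib Cfsg.Agent.Fischer.Fi24RepDef
  Cfsg.Agent.Fischer.Fi24Rep Cfsg.Agent.Fischer.Fi24RepOrbData
open Cfsg.Agent.Fischer.Fi24RepSigma (sig sigr)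

/-- The generator of `Fi24` with the same name. -/
def up : Cfsg.Spor.Fi23.Gen → Cfsg.Spor.Fi24.Gen
  | .a => .a
  | .b => .b
  | .c => .c
  | .d => .d
  | .e => .e
  | .f => .f
  | .g => .g
  | .j => .j
  | .h => .h
  | .i => .i

/-- the generators of `Fi23` -/
def g23 : List Cfsg.Spor.Fi23.Gen := [.a, .b, .c, .d, .e, .f, .g, .j, .h, .i]

/-- Both actions agree on the test set `T`. -/
noncomputable def resB (T : ℕ) : Bool :=
  List.rec (motive := fun _ => Bool) true
    (fun y _ ih => and (Nat.beq (appWord (nw [up y] false ++ [sig]) T)
      (appWord [sig, Cfsg.Agent.Fischer.Fi23Rel.net y] T)) ih) g23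

/-- The network does not move the points from 31671 on. -/
noncomputable def highB (b : ℕ) : Bool :=
  List.rec (motive := fun _ => Bool) true
    (fun y _ ih => and (Nat.beq (Nat.shiftRight (Nat.xor ((Cfsg.Agent.Fischer.Fi23Rel.net y).app (plane 15 b))
      (plane 15 b)) (31671 : ℕ)) 0) ih) g23

/-- The bit planes of the positions, cut to the 31671 points. -/
noncomputable def P (b : ℕ) : ℕ := Nat.land (plane 15 b) UW

theorem ok_sig : sig.ok (2 ^ 15) = true := by decide +kernel
theorem sigU : Nat.beq (sig.app UW) (Nat.sub (Nat.pow 2 (31671 : ℕ)) 1) = true := by decide +kernel
theorem resU : resB UW = true := by decide +kernel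
theorem res0 : resB (P 0) = true := by decide +kernel
theorem res1 : resB (P 1) = true := by decide +kernel
theorem res2 : resB (P 2) = true := by decide +kernel
theorem res3 : resB (P 3) = true := by decide +kernel
theorem res4 : resB (P 4) = true := by decide +kernel
theorem res5 : resB (P 5) = true := by decide +kernel
theorem res6 : resB (P 6) = true := by decide +kernel
theorem res7 : resB (P 7) = true := by decide +kernel
theorem res8 : resB (P 8) = true := by decide +kernel
theorem res9 : resB (P 9) = true := by decide +kernel
theorem res10 : resB (P 10) = true := by decide +kernel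
theorem res11 : resB (P 11) = true := by decide +kernel
theorem res12 : resB (P 12) = true := by decide +kernel
theorem res13 : resB (P 13) = true := by decide +kernel
theorem res14 : resB (P 14) = true := by decide +kernel
theorem high0 : highB 0 = true := by decide +kernel
theorem high1 : highB 1 = true := by decide +kernel
theorem high2 : highB 2 = true := by decide +kernel
theorem high3 : highB 3 = true := by decide +kernel
theorem high4 : highB 4 = true := by decide +kernel
theorem high5 : highB 5 = true := by decide +kernel
theorem high6 : highB 6 = true := by decide +kernel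
theorem high7 : highB 7 = true := by decide +kernel
theorem high8 : highB 8 = true := by decide +kernel
theorem high9 : highB 9 = true := by decide +kernel
theorem high10 : highB 10 = true := by decide +kernel
theorem high11 : highB 11 = true := by decide +kernel
theorem high12 : highB 12 = true := by decide +kernel
theorem high13 : highB 13 = true := by decide +kernel
theorem high14 : highB 14 = true := by decide +kernel

/-- `l` does not move the 31671 points. -/
noncomputable def trivB (b : ℕ) : Bool := Nat.beq ((net .l).app (P b)) (P b)

theorem triv0 : trivB 0 = true := by decide +kernel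
theorem triv1 : trivB 1 = true := by decide +kernel
theorem triv2 : trivB 2 = true := by decide +kernel
theorem triv3 : trivB 3 = true := by decide +kernel
theorem triv4 : trivB 4 = true := by decide +kernel
theorem triv5 : trivB 5 = true := by decide +kernel
theorem triv6 : trivB 6 = true := by decide +kernel
theorem triv7 : trivB 7 = true := by decide +kernel
theorem triv8 : trivB 8 = true := by decide +kernel
theorem triv9 : trivB 9 = true := by decide +kernel
theorem triv10 : trivB 10 = true := by decide +kernel
theorem triv11 : trivB 11 = true := by decide +kernel
theorem triv12 : trivB 12 = true := by decide +kernel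
theorem triv13 : trivB 13 = true := by decide +kernel
theorem triv14 : trivB 14 = true := by decide +kernel
theorem l_moves : Nat.beq ((net .l).pt 307872) (307872 : ℕ) = false := by decide +kernel

end Cfsg.Agent.Fischer.Fi24RepResChk
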