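import Cfsg.Agent.Fischer.Fi24Final
import Cfsg.Agent.Fischer.Derived

/-!
The spider relation `(dcbdefdhi)^10 = 1` in the presented group `Fi24`, and the bound `|H| ≤ 2 |Fi23|` for
`H = ⟨a, …, j, l⟩`, given the upper bound for the index of `H`.

Conjugates of `l` are determined by their points. The element `s = (dcbdefdhi)^10` fixes the points of all generators,
so it is central; an identity in the Coxeter group gives `s³ = 1`, an element interchanging two arms of `Y₂₂₂` gives
`s² = 1`.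
-/

set_option autoImplicit false
set_option maxRecDepth 100000

namespace Cfsg.Agent.Fischer.Fi24Spider

open Cfsg.Agent.Lib.PermNet Cfsg.Agent.Fischer.Fi24RepDef Cfsg.Agent.Fischer.Fi24Rep
  Cfsg.Agent.Fischer.Fi24RepOrbData Cfsg.Agent.Fischer.Fi24RepOrb Cfsg.Agent.Fischer.Fi24RepResChk
  Cfsg.Agent.Fischer.Fi24RepRes Cfsg.Agent.Fischer.Fi24Final
open Cfsg.Agent.Fischer.Derived (M8 lab ev ev_append ev_cons ev_nil ev_rep ev_reverse ev_eq_ev chk)
open Cfsg.Spor Cfsg.Spor.Fi24

theorem word_append (l l' : List Gen) : word (l ++ l') = word l * word l' := by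
  unfold word; rw [List.map_append, List.prod_append]

theorem word_cons (x : Gen) (l : List Gen) : word (x :: l) = gen x * word l := by
  unfold word; rw [List.map_cons, List.prod_cons]

theorem word_nil : word [] = 1 := rfl

/-- A word carrying the point of `l` to the point of the generator. -/
def gword : Gen → List Gen
  | .l => []
  | .k => [.l, .k]
  | .a => [.k, .a, .l, .k]
  | .b => [.a, .b, .k, .a, .l, .k]
  | .c => [.b, .c, .a, .b, .k, .a, .l, .k]
  | .d => [.c, .d, .b, .c, .a, .b, .k, .a, .l, .k]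
  | .e => [.d, .e, .c, .d, .b, .c, .a, .b, .k, .a, .l, .k]
  | .f => [.e, .f, .d, .e, .c, .d, .b, .c, .a, .b, .k, .a, .l, .k]
  | .g => [.f, .g, .e, .f, .d, .e, .c, .d, .b, .c, .a, .b, .k, .a, .l, .k]
  | .j => [.g, .j, .f, .g, .e, .f, .d, .e, .c, .d, .b, .c, .a, .b, .k, .a, .l, .k]
  | .h => [.d, .h, .c, .d, .b, .c, .a, .b, .k, .a, .l, .k]
  | .i => [.h, .i, .d, .h, .c, .d, .b, .c, .a, .b, .k, .a, .l, .k]

/-- The generators are the conjugates of `l` by these words. -/
theorem gen_conj (x : Gen) : gen x = word (gword x) * gen .l * (word (gword x))⁻¹ := by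
  have step : ∀ x y : Gen, coxLabel edges x y = 3 → gword y = [x, y] ++ gword x →
      gen x = word (gword x) * gen .l * (word (gword x))⁻¹ →
      gen y = word (gword y) * gen .l * (word (gword y))⁻¹ := by
    intro x y hl hw hx
    have h := gen_rel x y
    rw [hl] at h
    have e : word (gword y) = gen x * gen y * word (gword x) := by
      rw [hw, word_append, word_cons, word_cons, word_nil, mul_one]
    rw [e]
    conv_lhs => rw [conj_of_edge (gen_sq x) (gen_sq y) h]
    conv_lhs =>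
      lhs
      rw [show gen x * gen y * gen x = gen x * gen y * (word (gword x) * gen .l * (word (gword x))⁻¹) by
        rw [← hx]]
    group
  have hl : gen .l = word (gword .l) * gen .l * (word (gword .l))⁻¹ := by
    show gen .l = 1 * gen .l * 1⁻¹
    group
  have hk := step .l .k (by decide) rfl hl
  have ha := step .k .a (by decide) rfl hk
  have hb := step .a .b (by decide) rfl ha
  have hc := step .b .c (by decide) rfl hb
  have hd := step .c .d (by decide) rfl hc
  have he := step .d .e (by decide) rfl hd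
  have hf := step .e .f (by decide) rfl he
  have hg := step .f .g (by decide) rfl hf
  have hj := step .g .j (by decide) rfl hg
  have hh := step .d .h (by decide) rfl hd
  have hi := step .h .i (by decide) rfl hh
  cases x <;> assumption

/-- The point of a generator. -/
noncomputable def pnt (x : Gen) : ℕ := rho (word (gword x)) 0

theorem pnt_eq (x : Gen) : pnt x = ptWord (nw (gword x) false) 0 := by
  unfold pnt
  rw [rho_word, ptWord_eq (wok _ _)]

/-! ### Conjugates of `l` are determined by their points -/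

theorem conj_eq (hst : ∀ g, rho g 0 = 0 ↔ g ∈ H) {g g' : Cfsg.Spor.Fi24} (h : rho g 0 = rho g' 0) :
    g * gen .l * g⁻¹ = g' * gen .l * g'⁻¹ := by
  have h1 : g'⁻¹ * g ∈ H := by
    rw [← hst, map_mul, map_inv, Equiv.Perm.mul_apply, h]
    exact (rho g').symm_apply_apply _
  have h2 := h_comm _ h1
  calc g * gen .l * g⁻¹ = g' * ((g'⁻¹ * g) * gen .l) * g⁻¹ := by group
    _ = g' * (gen .l * (g'⁻¹ * g)) * g⁻¹ := by rw [h2]
    _ = g' * gen .l * g'⁻¹ := by group

theorem conj_gen (hst : ∀ g, rho g 0 = 0 ↔ g ∈ H) {g : Cfsg.Spor.Fi24} {x y : Gen}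
    (h : rho g (pnt x) = pnt y) : g * gen x * g⁻¹ = gen y := by
  have h1 : rho (g * word (gword x)) 0 = rho (word (gword y)) 0 := by
    rw [map_mul, Equiv.Perm.mul_apply]; exact h
  have h2 := conj_eq hst h1
  rw [← gen_conj y] at h2
  rw [← h2]
  conv_lhs => rw [gen_conj x]
  group

/-- An element fixing the points of all generators is central. -/
theorem comm_of_fix (hst : ∀ g, rho g 0 = 0 ↔ g ∈ H) {g : Cfsg.Spor.Fi24} {x : Gen}
    (h : rho g (pnt x) = pnt x) : g * gen x = gen x * g := by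
  have h1 := conj_gen hst h
  calc g * gen x = g * gen x * g⁻¹ * g := by group
    _ = gen x * g := by rw [h1]

theorem central_of_comm {g : Cfsg.Spor.Fi24} (h : ∀ x, g * gen x = gen x * g) (y : Cfsg.Spor.Fi24) :
    g * y = y * g := by
  have hy : y ∈ Subgroup.closure (Set.range gen) := by rw [gens_top]; trivial
  induction hy using Subgroup.closure_induction with
  | mem z hz => obtain ⟨x, rfl⟩ := hz; exact h x
  | one => simp
  | mul z w _ _ hz hw => rw [← mul_assoc, hz, mul_assoc, hw, mul_assoc]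
  | inv z _ hz =>
    calc g * z⁻¹ = z⁻¹ * (z * g) * z⁻¹ := by group
      _ = z⁻¹ * (g * z) * z⁻¹ := by rw [hz]
      _ = z⁻¹ * g := by group

/-! ### The spider element -/

/-- The nodes `b, …, i` in the order of `Derived`. -/
def node8 : Fin 8 → Gen := ![.b, .c, .d, .e, .f, .g, .h, .i]

/-- The elements `b, …, i`. -/
def s8 (k : Fin 8) : Cfsg.Spor.Fi24 := gen (node8 k)

theorem ev_s8 (w : List (Fin 8)) : ev s8 w = word (w.map node8) := by
  unfold ev word
  rw [List.map_map]
  rfl

theorem lab_eq : ∀ i j : Fin 8, lab i j = coxLabel edges (node8 i) (node8 j) := by decide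

theorem lift8 : M8.IsLiftable s8 := by
  intro i j
  show (gen (node8 i) * gen (node8 j)) ^ lab i j = 1
  rw [lab_eq]
  exact gen_rel _ _

/-- The spider word. -/
def sp : List (Fin 8) := Derived.spider

theorem chk_cube : chk (Derived.rep 10 sp ++ ([7, 6, 4, 1] ++ (Derived.rep 10 sp ++ ([1, 4, 6, 7] ++
    ([2, 3, 1, 2] ++ (Derived.rep 10 sp ++ [2, 1, 3, 2])))))) [] = true := by decide +kernel

/-- The image of the spider word under the exchange of two arms is conjugate to its inverse. -/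
theorem chk_conj : chk ([6, 7, 6, 4, 0] ++ ([2, 3, 4, 2, 1, 0, 2, 6, 7] ++ [0, 4, 6, 7, 6])) sp.reverse = true := by
  decide +kernel

/-- The spider element. -/
def t : Cfsg.Spor.Fi24 := ev s8 sp

/-- Its tenth power. -/
def s : Cfsg.Spor.Fi24 := t ^ 10

theorem s_eq : s = ev s8 (Derived.rep 10 sp) := by rw [s, t, ev_rep]

theorem s_word : s = word ((Derived.rep 10 sp).map node8) := by rw [s_eq, ev_s8]

/-- `s` commutes with `k`, `l`. -/
theorem s_comm_kl {x : Gen} (hx : x = .k ∨ x = .l) : s * gen x = gen x * s := by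
  rw [s_word]
  have key : ∀ w : List Gen, (∀ y ∈ w, coxLabel edges y x = 2) → word w * gen x = gen x * word w := by
    intro w hw
    induction w with
    | nil => simp [word_nil]
    | cons y w ih =>
      rw [word_cons, mul_assoc, ih (fun z hz => hw z (List.mem_cons_of_mem _ hz)), ← mul_assoc,
        gen_comm (hw y List.mem_cons_self), mul_assoc]
  apply key
  rcases hx with rfl | rfl <;> decide

/-- the spider word in the generators of `Fi23` -/
def sp23 : List Cfsg.Spor.Fi23.Gen := [.d, .c, .b, .d, .e, .f, .d, .h, .i]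

theorem wordH_coe (l : List Cfsg.Spor.Fi23.Gen) : ((wordH l : H) : Cfsg.Spor.Fi24) = word (l.map up) := by
  unfold wordH word
  induction l with
  | nil => rfl
  | cons x l ih =>
    rw [List.map_cons, List.prod_cons, Subgroup.coe_mul, ih, List.map_cons, List.map_cons, List.prod_cons]

theorem wordH_sp : ((wordH sp23 : H) : Cfsg.Spor.Fi24) = t := by
  rw [wordH_coe, t, ev_s8]
  rfl

theorem phiH_sp : phiH (wordH sp23 ^ 10) = 1 := by
  rw [map_pow, phiH_wordH]
  have h := Cfsg.Agent.Fischer.Fi23Hom.spider_rel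
  have e : wperm (sp23.map Cfsg.Agent.Fischer.Fi23Rel.net) =
      Cfsg.Agent.Fischer.Fi23Hom.f .d * Cfsg.Agent.Fischer.Fi23Hom.f .c * Cfsg.Agent.Fischer.Fi23Hom.f .b *
        Cfsg.Agent.Fischer.Fi23Hom.f .d * Cfsg.Agent.Fischer.Fi23Hom.f .e * Cfsg.Agent.Fischer.Fi23Hom.f .f *
        Cfsg.Agent.Fischer.Fi23Hom.f .d * Cfsg.Agent.Fischer.Fi23Hom.f .h * Cfsg.Agent.Fischer.Fi23Hom.f .i := by
    unfold sp23
    simp only [List.map_cons, List.map_nil, wperm_cons, wperm_nil, mul_one, mul_assoc]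
    rfl
  rw [e, h]

/-- `s` fixes all points commuting with `l`. -/
theorem s_fix {q : ℕ} (hq : UW.testBit q = true) : rho s q = q := by
  have h1 := UW_σ (σ.symm q)
  rw [σ.apply_symm_apply, hq] at h1
  have hi : σ.symm q < 31671 := by simpa using h1.symm
  have h2 : phiH (wordH sp23 ^ 10) (σ.symm q) = σ.symm q := by rw [phiH_sp]; rfl
  rw [phiH_of_lt _ hi, σ.apply_symm_apply] at h2
  have h3 : ((wordH sp23 ^ 10 : H) : Cfsg.Spor.Fi24) = s := by
    rw [Subgroup.coe_pow, wordH_sp, s]
  rw [h3] at h2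
  have h4 : σ (σ⁻¹ (rho s q)) = σ (σ.symm q) := by rw [h2]
  rw [σ.apply_symm_apply] at h4
  have h5 : σ (σ⁻¹ (rho s q)) = rho s q := σ.apply_symm_apply _
  rw [← h5, h4]

/-- The points of the generators but `k`, `l` commute with `l`. -/
noncomputable def inW (l : List Gen) : Bool :=
  List.rec (motive := fun _ => Bool) true (fun x _ ih => and (tb UW (ptWord (nw (gword x) false) 0)) ih) l

theorem chk_inW : inW [.a, .b, .c, .d, .e, .f, .g, .j, .h, .i] = true := by decide +kernel

theorem inW_spec (l : List Gen) (h : inW l = true) : ∀ x ∈ l, UW.testBit (pnt x) = true := by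
  induction l with
  | nil => intro x hx; exact absurd hx (by simp)
  | cons y l ih =>
    have h' : and (tb UW (ptWord (nw (gword y) false) 0)) (inW l) = true := h
    rw [Bool.and_eq_true] at h'
    intro x hx
    rcases List.mem_cons.1 hx with rfl | hx
    · rw [pnt_eq, ← tb_eq]; exact h'.1
    · exact ih h'.2 x hx

theorem pnt_W {x : Gen} (hk : x ≠ .k) (hl : x ≠ .l) : UW.testBit (pnt x) = true :=
  inW_spec _ chk_inW x (by revert hk hl; cases x <;> decide)

theorem s_comm_gen (hst : ∀ g, rho g 0 = 0 ↔ g ∈ H) (x : Gen) : s * gen x = gen x * s := by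
  by_cases hk : x = .k
  · exact s_comm_kl (Or.inl hk)
  · by_cases hl : x = .l
    · exact s_comm_kl (Or.inr hl)
    · exact comm_of_fix hst (s_fix (pnt_W hk hl))

theorem s_central (hst : ∀ g, rho g 0 = 0 ↔ g ∈ H) (y : Cfsg.Spor.Fi24) : s * y = y * s :=
  central_of_comm (s_comm_gen hst) y

theorem s_cube (hst : ∀ g, rho g 0 = 0 ↔ g ∈ H) : s ^ 3 = 1 := by
  have h := ev_eq_ev lift8 chk_cube
  simp only [ev_append, ← s_eq, ev_nil] at h
  have e1 : ev s8 [1, 4, 6, 7] = (ev s8 [7, 6, 4, 1])⁻¹ := by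
    rw [← ev_reverse lift8]; rfl
  have e2 : ev s8 [2, 1, 3, 2] = (ev s8 [2, 3, 1, 2])⁻¹ := by
    rw [← ev_reverse lift8]; rfl
  rw [e1, e2] at h
  have h1 : ev s8 [7, 6, 4, 1] * (s * ((ev s8 [7, 6, 4, 1])⁻¹ * (ev s8 [2, 3, 1, 2] * (s * (ev s8 [2, 3, 1, 2])⁻¹)))) =
      s * s := by
    have a1 := s_central hst (ev s8 [7, 6, 4, 1])
    have a2 := s_central hst (ev s8 [2, 3, 1, 2])
    calc ev s8 [7, 6, 4, 1] * (s * ((ev s8 [7, 6, 4, 1])⁻¹ * (ev s8 [2, 3, 1, 2] * (s * (ev s8 [2, 3, 1, 2])⁻¹))))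
        = (ev s8 [7, 6, 4, 1] * s) * (ev s8 [7, 6, 4, 1])⁻¹ * ((ev s8 [2, 3, 1, 2] * s) * (ev s8 [2, 3, 1, 2])⁻¹) := by
          group
      _ = (s * ev s8 [7, 6, 4, 1]) * (ev s8 [7, 6, 4, 1])⁻¹ * ((s * ev s8 [2, 3, 1, 2]) * (ev s8 [2, 3, 1, 2])⁻¹) := by
          rw [a1, a2]
      _ = s * s := by group
  rw [h1] at h
  rw [pow_succ, pow_two, mul_assoc]
  exact h

/-- An element exchanging the arms `c – b` and `e – f`. -/
def gex : List Gen := [.h, .d, .e, .c, .d, .h, .f, .g, .e, .f, .d, .e, .c, .d, .h, .j, .g, .f, .e, .d, .c, .b, .k, .a,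
  .l, .k, .l, .k, .l, .a, .k, .b, .c, .d, .e, .f, .g, .j, .h, .d, .c, .e, .d, .f, .e, .g, .f, .h, .d, .c, .e, .d, .h,
  .j, .g, .f, .e, .d, .c, .b, .a, .l, .k, .l, .k, .l, .a, .b, .c, .d, .e, .f, .g, .j, .g, .f, .e, .d, .c, .b, .a, .k,
  .l, .k, .a, .b, .c, .d, .e, .f, .g, .b, .c, .b, .d, .c, .b, .e, .d, .c, .b, .f, .e, .d, .c, .b]

theorem gex_b : Nat.beq (ptWord (nw (gex ++ gword .b) false) 0) (ptWord (nw (gword .f) false) 0) = true := by
  decide +kernel
theorem gex_c : Nat.beq (ptWord (nw (gex ++ gword .c) false) 0) (ptWord (nw (gword .e) false) 0) = true := by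
  decide +kernel
theorem gex_d : Nat.beq (ptWord (nw (gex ++ gword .d) false) 0) (ptWord (nw (gword .d) false) 0) = true := by
  decide +kernel
theorem gex_e : Nat.beq (ptWord (nw (gex ++ gword .e) false) 0) (ptWord (nw (gword .c) false) 0) = true := by
  decide +kernel
theorem gex_f : Nat.beq (ptWord (nw (gex ++ gword .f) false) 0) (ptWord (nw (gword .b) false) 0) = true := by
  decide +kernel
theorem gex_h : Nat.beq (ptWord (nw (gex ++ gword .h) false) 0) (ptWord (nw (gword .h) false) 0) = true := by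
  decide +kernel
theorem gex_i : Nat.beq (ptWord (nw (gex ++ gword .i) false) 0) (ptWord (nw (gword .i) false) 0) = true := by
  decide +kernel

theorem gex_pnt {x y : Gen}
    (h : Nat.beq (ptWord (nw (gex ++ gword x) false) 0) (ptWord (nw (gword y) false) 0) = true) :
    rho (word gex) (pnt x) = pnt y := by
  have h1 := Nat.eq_of_beq_eq_true h
  rw [← pnt_eq, ptWord_eq (wok _ _), ← rho_word, word_append, map_mul, Equiv.Perm.mul_apply] at h1
  exact h1

theorem t_conj (hst : ∀ g, rho g 0 = 0 ↔ g ∈ H) :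
    word gex * t * (word gex)⁻¹ = ev s8 [2, 3, 4, 2, 1, 0, 2, 6, 7] := by
  have hb := conj_gen hst (gex_pnt gex_b)
  have hc := conj_gen hst (gex_pnt gex_c)
  have hd := conj_gen hst (gex_pnt gex_d)
  have he := conj_gen hst (gex_pnt gex_e)
  have hf := conj_gen hst (gex_pnt gex_f)
  have hh := conj_gen hst (gex_pnt gex_h)
  have hi := conj_gen hst (gex_pnt gex_i)
  have e1 : t = gen .d * gen .c * gen .b * gen .d * gen .e * gen .f * gen .d * gen .h * gen .i := by
    unfold t ev sp Derived.spider s8 node8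
    simp [mul_assoc]
  have e2 : ev s8 [2, 3, 4, 2, 1, 0, 2, 6, 7] =
      gen .d * gen .e * gen .f * gen .d * gen .c * gen .b * gen .d * gen .h * gen .i := by
    unfold ev s8 node8
    simp [mul_assoc]
  rw [e1, e2]
  calc word gex * (gen .d * gen .c * gen .b * gen .d * gen .e * gen .f * gen .d * gen .h * gen .i) * (word gex)⁻¹
      = (word gex * gen .d * (word gex)⁻¹) * (word gex * gen .c * (word gex)⁻¹) *
        (word gex * gen .b * (word gex)⁻¹) * (word gex * gen .d * (word gex)⁻¹) *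
        (word gex * gen .e * (word gex)⁻¹) * (word gex * gen .f * (word gex)⁻¹) *
        (word gex * gen .d * (word gex)⁻¹) * (word gex * gen .h * (word gex)⁻¹) *
        (word gex * gen .i * (word gex)⁻¹) := by group
    _ = _ := by rw [hb, hc, hd, he, hf, hh, hi]

theorem s_sq (hst : ∀ g, rho g 0 = 0 ↔ g ∈ H) : s ^ 2 = 1 := by
  have h1 := t_conj hst
  have h2 := ev_eq_ev lift8 chk_conj
  rw [ev_append, ev_append, ← h1, ev_reverse lift8] at h2
  have e1 : ev s8 [0, 4, 6, 7, 6] = (ev s8 [6, 7, 6, 4, 0])⁻¹ := by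
    rw [← ev_reverse lift8]; rfl
  rw [e1] at h2
  have h3 : (ev s8 [6, 7, 6, 4, 0] * word gex) * t * (ev s8 [6, 7, 6, 4, 0] * word gex)⁻¹ = t⁻¹ := by
    rw [show t⁻¹ = (ev s8 sp)⁻¹ from rfl, ← h2]; group
  have h4 : (ev s8 [6, 7, 6, 4, 0] * word gex) * s * (ev s8 [6, 7, 6, 4, 0] * word gex)⁻¹ = s⁻¹ := by
    rw [s, ← conj_pow, h3, inv_pow]
  have h5 : (ev s8 [6, 7, 6, 4, 0] * word gex) * s * (ev s8 [6, 7, 6, 4, 0] * word gex)⁻¹ = s := by
    rw [← s_central hst]; group
  rw [h5] at h4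
  rw [pow_two]
  nth_rewrite 2 [h4]
  group

/-- The spider relation in `Fi24`. -/
theorem s_eq_one (hst : ∀ g, rho g 0 = 0 ↔ g ∈ H) : s = 1 := by
  have h2 := s_sq hst
  have h3 := s_cube hst
  rw [pow_succ, h2, one_mul] at h3
  exact h3

theorem spider_rel (hst : ∀ g, rho g 0 = 0 ↔ g ∈ H) :
    (gen .d * gen .c * gen .b * gen .d * gen .e * gen .f * gen .d * gen .h * gen .i) ^ 10 = 1 := by
  have e1 : t = gen .d * gen .c * gen .b * gen .d * gen .e * gen .f * gen .d * gen .h * gen .i := by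
    unfold t ev sp Derived.spider s8 node8
    simp [mul_assoc]
  rw [← e1]
  exact s_eq_one hst

/-! ### The quotient of `H` by `⟨l⟩` -/

theorem lH_central (h : H) : h * lH = lH * h := Subtype.ext (h_comm h h.2)

theorem zpowers_normal : (Subgroup.zpowers lH).Normal := by
  refine ⟨fun x hx g => ?_⟩
  obtain ⟨k, rfl⟩ := Subgroup.mem_zpowers_iff.1 hx
  have h1 : Commute g lH := lH_central g
  rw [(h1.zpow_right k).eq, mul_assoc, mul_inv_cancel, mul_one]
  exact hx

theorem lH_sq : lH * lH = 1 := Subtype.ext (gen_sq .l)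

theorem card_zpowers_le : Nat.card (Subgroup.zpowers lH) ≤ 2 := by
  rw [Nat.card_zpowers]
  exact Nat.le_of_dvd (by norm_num) (orderOf_dvd_of_pow_eq_one (by rw [pow_two]; exact lH_sq))

/-- The element of `H` of a generator of `Fi23`. -/
noncomputable def gH (y : Cfsg.Spor.Fi23.Gen) : H := ⟨gen (up y), mem_H_gen (up_ne y)⟩

theorem up_label : ∀ x y : Cfsg.Spor.Fi23.Gen,
    coxLabel Cfsg.Spor.Fi23.edges x y = coxLabel edges (up x) (up y) := by
  intro x y
  cases x <;> cases y <;> decide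

/-- `(abcdefh)^9 = l` in `Fi24`. -/
theorem e7_rel : (gen .a * gen .b * gen .c * gen .d * gen .e * gen .f * gen .h) ^ 9 = gen .l := by
  have h : Fi24.l * (((Fi24.a * Fi24.b * Fi24.c * Fi24.d * Fi24.e * Fi24.f * Fi24.h) ^ 9)⁻¹) ∈
      coxRelators edges ∪ {r | r ∈ extra} := by
    right
    show _ ∈ extra
    unfold extra
    simp
  have h1 := PresentedGroup.one_of_mem h
  simp only [map_mul, map_pow, map_inv] at h1
  exact (mul_inv_eq_one.1 h1).symm

section Quotient

attribute [local instance] zpowers_normal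

theorem rels_quot (hst : ∀ g, rho g 0 = 0 ↔ g ∈ H) :
    ∀ r ∈ coxRelators Cfsg.Spor.Fi23.edges ∪ {r | r ∈ Cfsg.Spor.Fi23.extra},
      FreeGroup.lift (fun y => (QuotientGroup.mk' (Subgroup.zpowers lH)) (gH y)) r = 1 := by
  rintro r (⟨x, _, y, _, rfl⟩ | hr)
  · rw [map_pow, map_mul, FreeGroup.lift_apply_of, FreeGroup.lift_apply_of, ← map_mul, ← map_pow, up_label]
    have e : (gH x * gH y) ^ coxLabel edges (up x) (up y) = 1 := Subtype.ext (gen_rel _ _)
    rw [e, map_one]
  · have hr' : r = (Fi23.d * Fi23.c * Fi23.b * Fi23.d * Fi23.e * Fi23.f * Fi23.d * Fi23.h * Fi23.i) ^ 10 ∨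
        r = (Fi23.a * Fi23.b * Fi23.c * Fi23.d * Fi23.e * Fi23.f * Fi23.h) ^ 9 := by
      have hr2 : r ∈ Cfsg.Spor.Fi23.extra := hr
      unfold Cfsg.Spor.Fi23.extra at hr2
      simpa using hr2
    rcases hr' with rfl | rfl
    · simp only [map_pow, map_mul, FreeGroup.lift_apply_of]
      rw [← map_mul, ← map_mul, ← map_mul, ← map_mul, ← map_mul, ← map_mul, ← map_mul, ← map_mul, ← map_pow]
      have e : (gH .d * gH .c * gH .b * gH .d * gH .e * gH .f * gH .d * gH .h * gH .i) ^ 10 = 1 :=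
        Subtype.ext (spider_rel hst)
      rw [e, map_one]
    · simp only [map_pow, map_mul, FreeGroup.lift_apply_of]
      rw [← map_mul, ← map_mul, ← map_mul, ← map_mul, ← map_mul, ← map_mul, ← map_pow]
      have e : (gH .a * gH .b * gH .c * gH .d * gH .e * gH .f * gH .h) ^ 9 = lH := Subtype.ext e7_rel
      rw [e]
      exact (QuotientGroup.eq_one_iff _).2 (Subgroup.mem_zpowers _)

/-- The homomorphism from `Fi23` onto `H / ⟨l⟩`. -/
noncomputable def psi (hst : ∀ g, rho g 0 = 0 ↔ g ∈ H) : Cfsg.Spor.Fi23 →* H ⧸ Subgroup.zpowers lH :=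
  PresentedGroup.toGroup (rels_quot hst)

theorem psi_surjective (hst : ∀ g, rho g 0 = 0 ↔ g ∈ H) : Function.Surjective (psi hst) := by
  rw [← MonoidHom.range_eq_top, eq_top_iff]
  have e1 : (⊤ : Subgroup H) = Subgroup.closure (((↑) : H → Cfsg.Spor.Fi24) ⁻¹' S1) :=
    (Subgroup.closure_closure_coe_preimage (k := S1)).symm
  have e2 : (⊤ : Subgroup (H ⧸ Subgroup.zpowers lH)) =
      (⊤ : Subgroup H).map (QuotientGroup.mk' (Subgroup.zpowers lH)) :=
    (Subgroup.map_top_of_surjective _ (QuotientGroup.mk'_surjective _)).symm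
  rw [e2, e1, MonoidHom.map_closure, Subgroup.closure_le]
  rintro _ ⟨⟨x, hx⟩, hx', rfl⟩
  have hx2 : x ∈ S1 := hx'
  rw [S1_eq] at hx2
  obtain ⟨z, hz, rfl⟩ := hx2
  rcases gen_cases hz with rfl | ⟨y, rfl⟩
  · refine ⟨1, ?_⟩
    rw [map_one]
    exact ((QuotientGroup.eq_one_iff _).2 (Subgroup.mem_zpowers _)).symm
  · exact ⟨PresentedGroup.of y, PresentedGroup.toGroup.of _⟩

/-- `|H| ≤ 2 |Fi23|`. -/
theorem card_H_le (hst : ∀ g, rho g 0 = 0 ↔ g ∈ H) (hF : Nat.card Cfsg.Spor.Fi23 = 4089470473293004800) :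
    Finite H ∧ Nat.card H ≤ 8178940946586009600 := by
  have hf : Finite Cfsg.Spor.Fi23 := Nat.finite_of_card_ne_zero (by rw [hF]; norm_num)
  have hQ : Finite (H ⧸ Subgroup.zpowers lH) := Finite.of_surjective _ (psi_surjective hst)
  have hQ' : Nat.card (H ⧸ Subgroup.zpowers lH) ≤ 4089470473293004800 := by
    rw [← hF]
    exact Nat.card_le_card_of_surjective _ (psi_surjective hst)
  have h1 := Subgroup.card_mul_index (Subgroup.zpowers lH)
  have h2 : (Subgroup.zpowers lH).index = Nat.card (H ⧸ Subgroup.zpowers lH) := rfl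
  have hz : Finite (Subgroup.zpowers lH) := by
    have : IsOfFinOrder lH := isOfFinOrder_iff_pow_eq_one.2 ⟨2, by norm_num, by rw [pow_two]; exact lH_sq⟩
    exact Nat.finite_of_card_ne_zero (by rw [Nat.card_zpowers]; exact (orderOf_pos_iff.2 this).ne')
  have hcard : Nat.card H ≤ 8178940946586009600 := by
    rw [← h1, h2]
    calc Nat.card (Subgroup.zpowers lH) * Nat.card (H ⧸ Subgroup.zpowers lH)
        ≤ 2 * 4089470473293004800 := Nat.mul_le_mul card_zpowers_le hQ'
      _ = 8178940946586009600 := by norm_num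
  refine ⟨?_, hcard⟩
  apply Nat.finite_of_card_ne_zero
  rw [← h1, h2]
  exact Nat.mul_ne_zero Nat.card_pos.ne' Nat.card_pos.ne'

end Quotient

/-- Everything from the index bound and the order of `Fi23`. -/
theorem main (hub : H.index ≤ 306936) (hne : H.index ≠ 0) (hF : Nat.card Cfsg.Spor.Fi23 = 4089470473293004800) :
    Finite H ∧ Nat.card H ≤ 8178940946586009600 :=
  card_H_le (index_and_suborbits hub hne).2.1 hF

end Cfsg.Agent.Fischer.Fi24Spider
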