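import Cfsg.Agent.Fischer.Fi24RepOrb

/-!
The index of `⟨a, …, j, l⟩` in the presented group `Fi24`, given the upper bound.
-/

set_option autoImplicit false

namespace Cfsg.Agent.Fischer.Fi24WordIndex

open Cfsg.Agent.Fischer.Fi24Rep Cfsg.Agent.Fischer.Fi24RepOrb
open Cfsg.Spor.Fi24 (Gen edges extra)

/-- The words of the statement. -/
def wset : Set (FreeGroup Gen) := {Cfsg.Spor.Fi24.a, Cfsg.Spor.Fi24.b, Cfsg.Spor.Fi24.c, Cfsg.Spor.Fi24.d,
  Cfsg.Spor.Fi24.e, Cfsg.Spor.Fi24.f, Cfsg.Spor.Fi24.g, Cfsg.Spor.Fi24.h, Cfsg.Spor.Fi24.i, Cfsg.Spor.Fi24.j,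
  Cfsg.Spor.Fi24.l}

theorem wset_eq : wset = FreeGroup.of '' {x : Gen | x ≠ .k} := by
  ext w
  unfold wset
  constructor
  · intro h
    simp only [Set.mem_insert_iff, Set.mem_singleton_iff] at h
    rcases h with rfl | rfl | rfl | rfl | rfl | rfl | rfl | rfl | rfl | rfl | rfl <;>
      exact ⟨_, by simp, rfl⟩
  · rintro ⟨x, hx, rfl⟩
    revert hx
    cases x <;> simp

theorem map_closure_eq : (Subgroup.closure wset).map
    (PresentedGroup.mk (Cfsg.Spor.coxRelators edges ∪ {r | r ∈ extra})) = H := by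
  rw [MonoidHom.map_closure, wset_eq, Set.image_image]
  unfold H
  rw [S1_eq]
  rfl

/-- The index, given the upper bound. -/
theorem index_of_upper (hub : H.index ≤ 306936) (hne : H.index ≠ 0) :
    ((Subgroup.closure wset).map
      (PresentedGroup.mk (Cfsg.Spor.coxRelators edges ∪ {r | r ∈ extra}))).index = 306936 := by
  rw [map_closure_eq]
  exact (index_and_suborbits hub hne).1

end Cfsg.Agent.Fischer.Fi24WordIndex
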