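import Cfsg.Agent.Fischer.Check22
import Cfsg.Agent.Fischer.Centralizer

/-!
# The Fischer group Fi22 as a permutation group on 3510 points
-/

set_option autoImplicit false

namespace Cfsg.Agent.Fischer.Group22

open Cfsg Cfsg.Agent.Fischer.Cert Cfsg.Agent.Fischer.Data22 Cfsg.Agent.Fischer.Check22
  Cfsg.Agent.Fischer.Abstract

/-! ### the certificate is checked -/

theorem code_inj (s s' : Gen) (h : code s = code s') : s = s' := by
  cases s <;> cases s' <;> first | rfl | exact absurd h (by decide)

theorem edge_all (s : Gen) :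
    allGrid 54 65 (edgeCheck 3510 nx tm ri par ps isH code rules s) = true := by
  cases s
  · exact edge_a
  · exact edge_b
  · exact edge_c
  · exact edge_d
  · exact edge_e
  · exact edge_f
  · exact edge_g
  · exact edge_h
  · exact edge_i
  · exact edge_l

theorem D_n : D.n = 3510 := rfl
theorem D_nx : D.nx = nx := rfl

theorem checked : D.Checked where
  edge s := by
    have h := edge_all s
    intro x hx
    exact allGrid_spec h x hx
  tree := by
    intro i hi
    have h := Check22.tree
    exact allGrid_spec h i hi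
  code_inj := code_inj

theorem nx_lt (s : Gen) {x : ℕ} (hx : x < 3510) : nx s x < 3510 := Data.edge_lt checked s hx
theorem nx_nx (s : Gen) {x : ℕ} (hx : x < 3510) : nx s (nx s x) = x := Data.edge_invol checked s hx

/-! ### the permutations -/

/-- the points -/
abbrev X : Type := Fin 3510

/-- a generator as a permutation -/
noncomputable def perm (s : Gen) : Equiv.Perm X :=
  Function.Involutive.toPerm (fun x : X => (⟨nx s x.1, nx_lt s x.2⟩ : X)) (by
    intro x
    apply Fin.ext
    exact nx_nx s x.2)

theorem perm_apply (s : Gen) (x : X) : ((perm s x : X) : ℕ) = nx s x := rfl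

theorem perm_sq (s : Gen) : perm s * perm s = 1 := by
  ext x
  rw [Equiv.Perm.mul_apply, perm_apply, perm_apply, nx_nx s x.2]
  rfl

theorem prod_apply (r : List Gen) (x : X) :
    (((r.reverse.map perm).prod x : X) : ℕ) = walk nx r x := by
  induction r generalizing x with
  | nil => rfl
  | cons s r ih =>
    rw [List.reverse_cons, List.map_append, List.prod_append, Equiv.Perm.mul_apply, walk_cons]
    rw [ih]
    rfl

theorem isRel_perm_of_check {r : List Gen} (h : relCheck nx 54 65 r = true) : IsRel perm r := by
  have h1 : IsRel perm r.reverse := by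
    rw [isRel_def]
    ext x
    rw [prod_apply, relCheck_spec h x.1 x.2]
    rfl
  have h2 := isRel_reverse perm perm_sq h1
  rwa [List.reverse_reverse] at h2

theorem isRel_perm (r : List Gen) (hr : r ∈ base) : IsRel perm r := by
  apply isRel_perm_of_check
  unfold base at hr
  rw [List.mem_append, List.mem_append, List.mem_append] at hr
  rcases hr with hr | hr | hr | hr
  · exact allList_spec relS1 r hr
  · exact allList_spec relS2 r hr
  · exact allList_spec relS3 r hr
  · simp only [List.mem_cons, List.not_mem_nil, or_false] at hr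
    rcases hr with rfl | rfl | rfl | rfl
    · exact rel1_ok
    · exact rel2_ok
    · exact rel3_ok
    · exact rel4_ok

/-! ### the group -/

/-- the Fischer group Fi22 as a subgroup of the symmetric group -/
def GS : Subgroup (Equiv.Perm X) := Subgroup.closure (Set.range perm)

/-- the Fischer group Fi22 -/
abbrev G : Type := GS

/-- generators -/
noncomputable def g (s : Gen) : G := ⟨perm s, Subgroup.subset_closure ⟨s, rfl⟩⟩

theorem coe_g (s : Gen) : ((g s : G) : Equiv.Perm X) = perm s := rfl

theorem g_sq (s : Gen) : g s * g s = 1 := Subtype.ext (perm_sq s)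

theorem g_inv (s : Gen) : (g s)⁻¹ = g s := inv_eq_of_mul_eq_one_left (g_sq s)

theorem g_smul (s : Gen) (x : X) : ((g s • x : X) : ℕ) = nx s x := rfl

theorem closure_g : Subgroup.closure (Set.range g) = ⊤ := by
  rw [eq_top_iff]
  rintro ⟨k, hk⟩ -
  have : ∀ (k : Equiv.Perm X) (hk : k ∈ Subgroup.closure (Set.range perm)),
      (⟨k, hk⟩ : G) ∈ Subgroup.closure (Set.range g) := by
    intro k hk
    induction hk using Subgroup.closure_induction with
    | mem x hx =>
      obtain ⟨s, rfl⟩ := hx
      exact Subgroup.subset_closure ⟨s, rfl⟩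
    | one => exact Subgroup.one_mem _
    | mul x y hx hy ihx ihy => exact Subgroup.mul_mem _ ihx ihy
    | inv x hx ihx => exact Subgroup.inv_mem _ ihx
  exact this k hk

/-- induction on the group -/
theorem g_induction {p : G → Prop} (h1 : p 1) (hg : ∀ s k, p k → p (g s * k)) (k : G) : p k := by
  have hk : k ∈ Subgroup.closure (Set.range g) := by rw [closure_g]; trivial
  induction hk using Subgroup.closure_induction_left with
  | one => exact h1
  | mul_left x hx y _ ih =>
    obtain ⟨s, rfl⟩ := hx
    exact hg s y ih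
  | inv_mul_cancel x hx y _ ih =>
    obtain ⟨s, rfl⟩ := hx
    rw [g_inv]
    exact hg s y ih

theorem isRel_g (r : List Gen) (hr : r ∈ base) : IsRel g r := by
  have h := isRel_perm r hr
  rw [isRel_def] at h ⊢
  apply Subtype.ext
  rw [← Subgroup.coe_subtype, map_list_prod, List.map_map]
  exact h

theorem rules_all (s : Gen) : (rules s).map (fun w => s :: w) =
    (Gen.rec wits_a wits_b wits_c wits_d wits_e wits_f wits_g wits_h wits_i wits_l s :
      List (ℕ × ℕ × Bool)).map (mkRule base) := by
  cases s
  · exact rules_eq_a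
  · exact rules_eq_b
  · exact rules_eq_c
  · exact rules_eq_d
  · exact rules_eq_e
  · exact rules_eq_f
  · exact rules_eq_g
  · exact rules_eq_h
  · exact rules_eq_i
  · exact rules_eq_l

theorem isRel_rule (s : Gen) (w : List Gen) (hw : w ∈ rules s) : IsRel g (s :: w) := by
  have h1 : (s :: w) ∈ (rules s).map (fun w => s :: w) := List.mem_map.2 ⟨w, hw, rfl⟩
  rw [rules_all s] at h1
  obtain ⟨c, _, hc⟩ := List.mem_map.1 h1
  rw [← hc]
  exact isRel_mkRule g g_sq base isRel_g c

/-- the base point -/
def x0 : X := ⟨0, by decide⟩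

/-- the subgroup generated by the generators fixing the base point -/
def H1 : Subgroup G := Subgroup.closure (g '' {s | isH s = true})

theorem exists_f : ∃ f : ℕ → G ⧸ H1, f 0 = ((1 : G) : G ⧸ H1) ∧
    ∀ x < 3510, ∀ s, f (nx s x) = g s • f x := by
  refine Data.exists_equivariant (D := D) (fun s y => g s • y) ((1 : G) : G ⧸ H1) checked ?_ ?_ ?_
  · intro s y
    show g s • g s • y = y
    rw [← mul_smul, g_sq, one_smul]
  · intro s hs
    show g s • ((1 : G) : G ⧸ H1) = ((1 : G) : G ⧸ H1)
    rw [MulAction.Quotient.smul_coe, smul_eq_mul, mul_one, QuotientGroup.eq, mul_one]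
    exact H1.inv_mem (Subgroup.subset_closure ⟨s, hs, rfl⟩)
  · intro s w hw y
    exact rule_of_isRel g g_sq (isRel_rule s w hw) y

theorem mem_H1_of_fix {k : G} (hk : k • x0 = x0) : k ∈ H1 := by
  obtain ⟨f, hf0, hf⟩ := exists_f
  have key : ∀ k : G, ∀ x : X, f ((k • x : X) : ℕ) = k • f x := by
    intro k
    refine g_induction (p := fun k => ∀ x : X, f ((k • x : X) : ℕ) = k • f x) ?_ ?_ k
    · intro x; rw [one_smul, one_smul]
    · intro s k ih x
      rw [mul_smul, mul_smul, g_smul, hf _ (k • x).2 s, ih x]
  have h1 := key k x0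
  rw [hk] at h1
  have h2 : f ((x0 : X) : ℕ) = ((1 : G) : G ⧸ H1) := hf0
  rw [h2, MulAction.Quotient.smul_coe, smul_eq_mul, mul_one] at h1
  rw [QuotientGroup.eq] at h1
  simpa using h1

theorem H1_le {K : Subgroup G} (h : ∀ s, isH s = true → g s ∈ K) : H1 ≤ K := by
  unfold H1
  rw [Subgroup.closure_le]
  rintro _ ⟨s, hs, rfl⟩
  exact h s hs

theorem edge_zero (s : Gen) (hs : isH s = true) : nx s 0 = 0 := by
  cases s
  all_goals first | exact absurd hs (by decide) | exact (by decide +kernel)

theorem fix_of_mem_H1 {k : G} (hk : k ∈ H1) : k • x0 = x0 := by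
  have : H1 ≤ MulAction.stabilizer G x0 := by
    apply H1_le
    intro s hs
    rw [MulAction.mem_stabilizer_iff]
    apply Fin.ext
    rw [g_smul]
    exact edge_zero s hs
  exact MulAction.mem_stabilizer_iff.1 (this hk)

theorem H1_eq : H1 = MulAction.stabilizer G x0 := by
  ext k
  rw [MulAction.mem_stabilizer_iff]
  exact ⟨fix_of_mem_H1, mem_H1_of_fix⟩

end Cfsg.Agent.Fischer.Group22
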