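import Mathlib
import Cfsg.Agent.Involutions.BaerSuzuki

/-!
# Groups generated by involutions with all products of order three

`D` a set of involutions of a finite group closed under conjugation such that
`d * e * d = e * d * e` for all `d, e ∈ D` (Hall triple systems).  Then the products `d * e`
generate a `3`-group.
-/

set_option autoImplicit false

namespace Cfsg.Agent.Fischer.Hall

open scoped commutatorElement

/-! ### Loop calculus in a Hall triple system -/

section Abstract

variable {α : Type*} (s : α → α → α)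

/-- the axioms of a Hall triple system (distributive Steiner quasigroup) -/
structure IsHTS : Prop where
  comm : ∀ a b, s a b = s b a
  idem : ∀ a, s a a = a
  inv : ∀ a b, s a (s a b) = b
  dist : ∀ a b c, s a (s b c) = s (s a b) (s a c)

variable {s}

/-- the three "pairings" of four points are collinear -/
theorem IsHTS.pairing (h : IsHTS s) (a b c d : α) :
    s (s (s a b) (s c d)) (s (s a c) (s b d)) = s (s a d) (s b c) := by
  have hm1 : s (s a (s b c)) (s d (s b c)) = s (s a d) (s b c) := by
    rw [h.comm a (s b c), h.comm d (s b c), ← h.dist, h.comm]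
  have hm2 : s (s b (s a d)) (s c (s a d)) = s (s a d) (s b c) := by
    rw [h.comm b (s a d), h.comm c (s a d), ← h.dist]
  set m := s (s a d) (s b c) with hm
  set P1 := s a (s b c) with hP1
  set P2 := s d (s b c) with hP2
  set Q1 := s b (s a d) with hQ1
  set Q2 := s c (s a d) with hQ2
  have e1 : s (s (s a b) (s c d)) (s a c) = s P1 Q2 := by
    rw [h.comm, h.dist]
    rw [← h.dist a c b, h.comm c b, h.comm a c, ← h.dist c a d]
  have e2 : s (s (s a b) (s c d)) (s b d) = s Q1 P2 := by
    rw [h.comm, h.dist]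
    rw [h.comm a b, ← h.dist b d a, h.comm d a, h.comm b d, h.comm c d, ← h.dist d b c]
  have e3 : s (s (s a b) (s c d)) (s (s a c) (s b d)) = s (s P1 Q2) (s Q1 P2) := by
    rw [h.dist, e1, e2]
  rw [e3]
  have f1 : s m P1 = P2 := by rw [← hm1, h.comm, h.inv]
  have f2 : s m Q2 = Q1 := by rw [← hm2, h.comm (s Q1 Q2), h.comm Q1 Q2, h.inv]
  have f3 : s m (s P1 Q2) = s Q1 P2 := by rw [h.dist, f1, f2, h.comm]
  rw [← f3, h.comm m, h.inv]

variable (s)

/-- addition with origin `x` -/
def add (x p q : α) : α := s x (s q p)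
/-- negation with origin `x` -/
def neg (x p : α) : α := s x p

variable {s}

theorem add_def' (x p q : α) : add s x p q = s x (s q p) := rfl
theorem neg_def' (x p : α) : neg s x p = s x p := rfl

theorem IsHTS.add_comm (h : IsHTS s) (x p q : α) : add s x p q = add s x q p := by
  simp only [add]; rw [h.comm q p]

theorem IsHTS.add_zero (h : IsHTS s) (x p : α) : add s x p x = p := by
  simp only [add]; rw [h.inv]

theorem IsHTS.zero_add (h : IsHTS s) (x p : α) : add s x x p = p := by
  rw [h.add_comm, h.add_zero]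

theorem IsHTS.neg_neg (h : IsHTS s) (x p : α) : neg s x (neg s x p) = p := h.inv _ _

theorem IsHTS.neg_add (h : IsHTS s) (x p q : α) :
    neg s x (add s x p q) = add s x (neg s x p) (neg s x q) := by
  simp only [add, neg]; rw [h.dist x q p]

theorem IsHTS.add_neg_cancel (h : IsHTS s) (x w p : α) :
    add s x (add s x w p) (neg s x p) = w := by
  simp only [add, neg]; rw [← h.dist, h.inv, h.inv]

theorem IsHTS.neg_add_cancel (h : IsHTS s) (x w p : α) :
    add s x (add s x w (neg s x p)) p = w := by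
  have := h.add_neg_cancel x w (neg s x p)
  rwa [h.neg_neg] at this

theorem IsHTS.add_self_neg (h : IsHTS s) (x p : α) : add s x p (neg s x p) = x := by
  simp only [add, neg]
  rw [h.comm (s x p) p, h.comm x p, h.inv, h.idem]

theorem IsHTS.add_add_self (h : IsHTS s) (x w p : α) :
    add s x (add s x w p) p = add s x w (neg s x p) := by
  simp only [add, neg]
  congr 1
  rw [h.comm x p, h.dist p x (s p w), h.inv]

end Abstract


/-! ### The group generated by a Hall triple system -/

section Grp

variable {G : Type*} [Group G]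

/-- a conjugation-closed set of involutions satisfying all braid relations -/
structure HTSet (D : Set G) : Prop where
  sq : ∀ d ∈ D, d * d = 1
  br : ∀ d ∈ D, ∀ e ∈ D, d * e * d = e * d * e
  cj : ∀ g : G, ∀ d ∈ D, g * d * g⁻¹ ∈ D

variable {D : Set G}

theorem HTSet.inv_eq (h : HTSet D) {d : G} (hd : d ∈ D) : d⁻¹ = d :=
  inv_eq_of_mul_eq_one_left (h.sq d hd)

theorem HTSet.op_mem (h : HTSet D) (a b : D) : (a : G) * b * a ∈ D := by
  have := h.cj a b b.2
  rwa [h.inv_eq a.2] at this

/-- the point `a b a = b a b` -/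
def op (h : HTSet D) (a b : D) : D := ⟨(a : G) * b * a, h.op_mem a b⟩

theorem op_coe (h : HTSet D) (a b : D) : ((op h a b : D) : G) = (a : G) * b * a := rfl

theorem HTSet.isHTS (h : HTSet D) : IsHTS (op h) where
  comm a b := Subtype.ext (h.br a a.2 b b.2)
  idem a := Subtype.ext (by
    change (a : G) * a * a = a
    rw [h.sq a a.2, one_mul])
  inv a b := Subtype.ext (by
    change (a : G) * (a * b * a) * a = b
    calc (a : G) * (a * b * a) * a = (a * a) * b * (a * a) := by simp only [mul_assoc]
      _ = b := by rw [h.sq a a.2, one_mul, mul_one])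
  dist a b c := Subtype.ext (by
    change (a : G) * (b * c * b) * a = (a * b * a) * (a * c * a) * (a * b * a)
    calc (a : G) * (b * c * b) * a = a * b * 1 * c * 1 * b * a := by simp only [mul_assoc, one_mul]
      _ = a * b * (a * a) * c * (a * a) * b * a := by rw [h.sq a a.2]
      _ = (a * b * a) * (a * c * a) * (a * b * a) := by simp only [mul_assoc])

/-- the action by conjugation -/
def act (h : HTSet D) (g : G) (w : D) : D := ⟨g * w * g⁻¹, h.cj g w w.2⟩

theorem act_coe (h : HTSet D) (g : G) (w : D) : ((act h g w : D) : G) = g * w * g⁻¹ := rfl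

theorem act_mul (h : HTSet D) (g k : G) (w : D) : act h (g * k) w = act h g (act h k w) :=
  Subtype.ext (by simp only [act_coe]; group)

theorem act_one (h : HTSet D) (w : D) : act h 1 w = w :=
  Subtype.ext (by simp only [act_coe]; group)

theorem act_inv_eq (h : HTSet D) {g : G} {w v : D} (e : act h g w = v) : act h g⁻¹ v = w := by
  rw [← e, ← act_mul, inv_mul_cancel, act_one]

theorem act_inj (h : HTSet D) {g : G} {w v : D} (e : act h g w = act h g v) : w = v := by
  have := congrArg (act h g⁻¹) e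
  rwa [← act_mul, ← act_mul, inv_mul_cancel, act_one, act_one] at this

theorem act_eq_iff (h : HTSet D) {g : G} {w : D} : act h g w = w ↔ g * w = w * g := by
  rw [Subtype.ext_iff, act_coe, mul_inv_eq_iff_eq_mul]

theorem act_op (h : HTSet D) (g : G) (a b : D) :
    act h g (op h a b) = op h (act h g a) (act h g b) :=
  Subtype.ext (by simp only [act_coe, op_coe]; group)

theorem act_add (h : HTSet D) {g : G} {x : D} (hx : act h g x = x) (a b : D) :
    act h g (add (op h) x a b) = add (op h) x (act h g a) (act h g b) := by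
  simp only [add_def', act_op, hx]

theorem act_neg (h : HTSet D) {g : G} {x : D} (hx : act h g x = x) (a : D) :
    act h g (neg (op h) x a) = neg (op h) x (act h g a) := by
  simp only [neg_def', act_op, hx]

/-- translation -/
def T (x p : D) : G := (x : G) * p

theorem T_inv (h : HTSet D) (x p : D) : (T x p)⁻¹ = (p : G) * x := by
  rw [T, mul_inv_rev, h.inv_eq x.2, h.inv_eq p.2]

theorem act_T (h : HTSet D) (x p w : D) : act h (T x p) w = add (op h) x w p :=
  Subtype.ext (by
    rw [act_coe, T_inv h]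
    change (x : G) * p * w * (p * x) = x * (p * w * p) * x
    simp only [mul_assoc])

theorem sq_cancel (h : HTSet D) (x : D) (g : G) : (x : G) * (x * g) = g := by
  rw [← mul_assoc, h.sq x x.2, one_mul]

theorem act_T_inv (h : HTSet D) (x p w : D) :
    act h (T x p)⁻¹ w = add (op h) x w (neg (op h) x p) :=
  Subtype.ext (by
    rw [act_coe, T_inv h, ← T_inv h, inv_inv, T_inv h]
    change (p : G) * x * w * (x * p) = x * ((x * p * x) * w * (x * p * x)) * x
    simp only [mul_assoc, sq_cancel h, h.sq x x.2, mul_one])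

theorem T_add (h : HTSet D) (x p q : D) :
    T x (add (op h) x p q) = (T x q)⁻¹ * T x p * (T x q)⁻¹ := by
  rw [T_inv h]
  change (x : G) * (x * (q * p * q) * x) = q * x * (x * p) * (q * x)
  simp only [mul_assoc, sq_cancel h]

theorem T_neg (h : HTSet D) (x p : D) : T x (neg (op h) x p) = (T x p)⁻¹ := by
  rw [T_inv h]
  change (x : G) * (x * p * x) = p * x
  simp only [mul_assoc, sq_cancel h]

theorem T_cube (h : HTSet D) (x p : D) : T x p * T x p * T x p = 1 := by
  have hb := h.br x x.2 p p.2
  calc (x : G) * p * (x * p) * (x * p) = x * (p * x * p) * (x * p) := by simp only [mul_assoc]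
    _ = x * (x * p * x) * (x * p) := by rw [hb]
    _ = 1 := by simp only [mul_assoc, sq_cancel h, h.sq p p.2]

theorem T_act (h : HTSet D) {g : G} {x : D} (hx : act h g x = x) (p : D) :
    T x (act h g p) = g * T x p * g⁻¹ := by
  have := (act_eq_iff h).1 hx
  simp only [T, act_coe]
  rw [← mul_assoc, ← mul_assoc, ← mul_assoc, this]

/-- commutator of translations -/
def U (x b c : D) : G := T x b * T x c * (T x b)⁻¹ * (T x c)⁻¹

theorem act_U (h : HTSet D) (x b c w : D) : act h (U x b c) w =
    add (op h) x (add (op h) x (add (op h) x (add (op h) x w (neg (op h) x c))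
      (neg (op h) x b)) c) b := by
  rw [U, act_mul, act_mul, act_mul, act_T_inv, act_T_inv, act_T, act_T]

theorem U_fix_x (h : HTSet D) (x b c : D) : act h (U x b c) x = x := by
  have H := h.isHTS
  rw [act_U, H.zero_add, H.add_comm x (neg _ x c), H.neg_add_cancel, H.add_comm, H.add_self_neg]

theorem U_fix_b (h : HTSet D) (x b c : D) : act h (U x b c) b = b := by
  have H := h.isHTS
  rw [act_U, H.add_comm x b, H.add_neg_cancel, H.add_comm x (neg _ x c), H.add_self_neg, H.zero_add]

theorem U_fix_c (h : HTSet D) (x b c : D) : act h (U x b c) c = c := by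
  have H := h.isHTS
  rw [act_U, H.add_self_neg, H.zero_add, H.add_comm x (neg _ x b) c, H.neg_add_cancel]

theorem U_comm_x (h : HTSet D) (x b c : D) : U x b c * x = x * U x b c :=
  (act_eq_iff h).1 (U_fix_x h x b c)

theorem U_comm_Tb (h : HTSet D) (x b c : D) : Commute (U x b c) (T x b) :=
  Commute.mul_right ((act_eq_iff h).1 (U_fix_x h x b c)) ((act_eq_iff h).1 (U_fix_b h x b c))

theorem U_comm_Tc (h : HTSet D) (x b c : D) : Commute (U x b c) (T x c) :=
  Commute.mul_right ((act_eq_iff h).1 (U_fix_x h x b c)) ((act_eq_iff h).1 (U_fix_c h x b c))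

theorem U_cube (h : HTSet D) (x b c : D) : U x b c * U x b c * U x b c = 1 := by
  have h1 := U_comm_Tb h x b c
  set u := U x b c with hu
  have h2 : T x c * (T x b)⁻¹ * (T x c)⁻¹ = (T x b)⁻¹ * u := by rw [hu, U]; group
  have h3 : (T x c * (T x b)⁻¹ * (T x c)⁻¹) ^ 3 = 1 := by
    rw [conj_pow]
    have : (T x b)⁻¹ ^ 3 = 1 := by
      rw [inv_pow, pow_succ, pow_two, T_cube h, inv_one]
    rw [this]; group
  rw [h2, (h1.symm.inv_left).mul_pow, inv_pow] at h3
  have h4 : T x b ^ 3 = 1 := by rw [pow_succ, pow_two, T_cube h]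
  rw [h4, inv_one, one_mul, pow_succ, pow_two] at h3
  exact h3

/-- `u = T_{b+c}⁻¹ T_c T_b` -/
theorem TcTb (h : HTSet D) (x b c : D) :
    T x c * T x b = T x (add (op h) x b c) * U x b c := by
  have h1 := U_comm_Tb h x b c
  have h2 := U_comm_Tc h x b c
  have h3 : T x b * T x c = U x b c * T x c * T x b := by rw [U]; group
  have hc3 := T_cube h x c
  have hcinv : (T x c)⁻¹ = T x c * T x c := by
    rw [inv_eq_iff_mul_eq_one, ← mul_assoc]; exact hc3
  rw [T_add h, hcinv]
  -- T c² T b T c² u
  have hu := h2.eq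
  calc T x c * T x b = T x c * T x c * T x c * (T x c * T x b) := by rw [hc3, one_mul]
    _ = T x c * T x c * (T x c * T x c * T x b) := by simp only [mul_assoc]
    _ = T x c * T x c * (T x b * (T x c * T x c) * U x b c) := by
        congr 1
        have h4 : T x b * (T x c * T x c) = U x b c * T x c * T x b * T x c := by
          rw [← mul_assoc, h3]
        have h5 : U x b c * T x c * T x b * T x c = U x b c * U x b c * (T x c * T x c * T x b) := by
          calc U x b c * T x c * T x b * T x c = U x b c * T x c * (T x b * T x c) := by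
                simp only [mul_assoc]
            _ = U x b c * (T x c * U x b c) * T x c * T x b := by rw [h3]; simp only [mul_assoc]
            _ = U x b c * (U x b c * T x c) * T x c * T x b := by rw [hu]
            _ = _ := by simp only [mul_assoc]
        rw [h4, h5]
        have h6 : Commute (U x b c) (T x c * T x c * T x b) := (h2.mul_right h2).mul_right h1
        rw [mul_assoc _ _ (U x b c), ← h6.eq, ← mul_assoc, U_cube h, one_mul]
    _ = _ := by simp only [mul_assoc]


theorem U_fix_add (h : HTSet D) (x b c : D) :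
    act h (U x b c) (add (op h) x b c) = add (op h) x b c := by
  rw [act_add h (U_fix_x h x b c), U_fix_b, U_fix_c]

theorem U_comm_Ts (h : HTSet D) (x b c : D) : Commute (U x b c) (T x (add (op h) x b c)) :=
  Commute.mul_right ((act_eq_iff h).1 (U_fix_x h x b c)) ((act_eq_iff h).1 (U_fix_add h x b c))

theorem U_inv (h : HTSet D) (x b c : D) : (U x b c)⁻¹ = U x b c * U x b c := by
  rw [inv_eq_iff_mul_eq_one, ← mul_assoc]; exact U_cube h x b c

theorem TbTc (h : HTSet D) (x b c : D) :
    T x b * T x c = T x (add (op h) x b c) * (U x b c)⁻¹ := by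
  have h3 : T x b * T x c = U x b c * T x c * T x b := by rw [U]; group
  rw [h3, mul_assoc, TcTb h, ← mul_assoc, (U_comm_Ts h x b c).eq, mul_assoc, U_inv h]

/-- `(a + b) + c` -/
def ptA (h : HTSet D) (x a b c : D) : D := add (op h) x (add (op h) x a b) c

theorem ptA_eq (h : HTSet D) (x a b c : D) :
    ptA h x a b c = act h (T x (add (op h) x b c)) (act h (U x b c) a) := by
  rw [ptA, ← act_T, ← act_T, ← act_mul, ← act_mul, TcTb]

/-- `(b + c) + a` in terms of translations -/
theorem ptB_eq (h : HTSet D) (x a b c : D) :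
    ptA h x b c a = act h (T x (add (op h) x b c)) a := by
  rw [ptA, act_T, h.isHTS.add_comm]

theorem ptC_eq (h : HTSet D) (x a b c : D) :
    ptA h x c a b = act h (T x (add (op h) x b c)) (act h (U x b c)⁻¹ a) := by
  rw [ptA, h.isHTS.add_comm x c a, ← act_T, ← act_T, ← act_mul, ← act_mul, TbTc]

theorem pt_collinear (h : HTSet D) (x a b c : D) :
    op h (ptA h x a b c) (ptA h x c a b) = ptA h x b c a := by
  have H := h.isHTS
  have key := H.pairing a b c x
  have e : ∀ a b c : D, ptA h x a b c = op h (op h a b) (op h c x) := by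
    intro a b c
    simp only [ptA, add_def']
    rw [H.dist x c, H.inv, H.comm b a, H.comm x c, H.comm]
  rw [e, e, e, H.comm c a, H.comm b c, H.comm (op h c b) (op h a x), H.comm c b]
  exact key

/-- `U x q r` fixes `p` -/
def Fix (h : HTSet D) (x p q r : D) : Prop := act h (U x q r) p = p

theorem fix_iff (h : HTSet D) (x p q r : D) :
    Fix h x p q r ↔ ptA h x p q r = ptA h x q r p := by
  rw [Fix, ptA_eq h x p q r, ptB_eq h x p q r]
  constructor
  · intro e; rw [e]
  · intro e; exact act_inj h e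

theorem Fix.cyc (h : HTSet D) {x p q r : D} (hf : Fix h x p q r) : Fix h x q r p := by
  rw [fix_iff] at hf ⊢
  have H := h.isHTS
  have h1 := pt_collinear h x p q r
  rw [hf] at h1
  -- op B C = B
  have h2 := H.inv (ptA h x q r p) (ptA h x r p q)
  rw [h1, H.idem] at h2
  exact h2

theorem Fix.swap (h : HTSet D) {x p q r : D} (hf : Fix h x p q r) : Fix h x p r q := by
  have h1 : U x r q = (U x q r)⁻¹ := by simp only [U]; group
  rw [Fix, h1]
  exact act_inv_eq h hf

/-- the associator `A - B` -/
def del (h : HTSet D) (x a b c : D) : D :=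
  add (op h) x (ptA h x a b c) (neg (op h) x (ptA h x b c a))

theorem neg_op (h : HTSet D) (x p q : D) :
    neg (op h) x (op h p q) = add (op h) x p q := by
  rw [h.isHTS.comm]; rfl

theorem del_cyc (h : HTSet D) (x a b c : D) : del h x a b c = del h x b c a := by
  have H := h.isHTS
  simp only [del]
  have h1 := pt_collinear h x a b c
  set A := ptA h x a b c
  set B := ptA h x b c a
  set C := ptA h x c a b
  -- C = op A B
  have h2 : C = op h A B := by rw [← h1, H.inv]
  rw [h2, neg_op, H.add_comm x B, H.add_add_self]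

theorem U_act_del (h : HTSet D) (x a b c : D) : Fix h x (del h x a b c) b c := by
  have H := h.isHTS
  have hx := U_fix_x h x b c
  have hB : act h (U x b c) (ptA h x b c a) = ptA h x a b c := by
    rw [ptB_eq, ptA_eq, ← act_mul, ← act_mul, (U_comm_Ts h x b c).eq]
  have hA : act h (U x b c) (ptA h x a b c) = ptA h x c a b := by
    rw [ptA_eq, ptC_eq, U_inv h, ← act_mul, ← act_mul, ← act_mul]
    congr 1
    rw [mul_assoc, ← mul_assoc _ (T x _), (U_comm_Ts h x b c).eq]
    simp only [mul_assoc]
  rw [Fix]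
  conv_lhs => rw [del, act_add h hx, act_neg h hx, hA, hB]
  -- add C (neg A) = add A (neg B)
  rw [del_cyc, del_cyc]
  rfl


theorem U_del_c_commute (h : HTSet D) (x a b c : D) :
    Commute (U x (del h x a b c) c) (x : G) ∧ Commute (U x (del h x a b c) c) (a : G) ∧
    Commute (U x (del h x a b c) c) (b : G) ∧ Commute (U x (del h x a b c) c) (c : G) := by
  set d := del h x a b c with hd
  have f1 : Fix h x d b c := U_act_del h x a b c
  have f2 : Fix h x d c a := by
    have := U_act_del h x b c a
    rwa [← del_cyc] at this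
  refine ⟨(act_eq_iff h).1 (U_fix_x h x _ _), ?_, ?_, (act_eq_iff h).1 (U_fix_c h x _ _)⟩
  · exact (act_eq_iff h).1 f2.cyc.cyc
  · exact (act_eq_iff h).1 f1.cyc.swap

theorem U_del_a_commute (h : HTSet D) (x a b c : D) :
    Commute (U x (del h x a b c) a) (x : G) ∧ Commute (U x (del h x a b c) a) (a : G) ∧
    Commute (U x (del h x a b c) a) (b : G) ∧ Commute (U x (del h x a b c) a) (c : G) := by
  have := U_del_c_commute h x b c a
  rw [← del_cyc] at this
  exact ⟨this.1, this.2.2.2, this.2.1, this.2.2.1⟩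

theorem U_del_b_commute (h : HTSet D) (x a b c : D) :
    Commute (U x (del h x a b c) b) (x : G) ∧ Commute (U x (del h x a b c) b) (a : G) ∧
    Commute (U x (del h x a b c) b) (b : G) ∧ Commute (U x (del h x a b c) b) (c : G) := by
  have := U_del_a_commute h x b c a
  rw [← del_cyc] at this
  exact ⟨this.1, this.2.2.2, this.2.1, this.2.2.1⟩

theorem T_add_mem (h : HTSet D) {M : Subgroup G} {x p q : D} (hp : T x p ∈ M) (hq : T x q ∈ M) :
    T x (add (op h) x p q) ∈ M := by
  rw [T_add]
  exact M.mul_mem (M.mul_mem (M.inv_mem hq) hp) (M.inv_mem hq)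

theorem T_neg_mem (h : HTSet D) {M : Subgroup G} {x p : D} (hp : T x p ∈ M) :
    T x (neg (op h) x p) ∈ M := by
  rw [T_neg]; exact M.inv_mem hp

theorem T_del_mem (h : HTSet D) {M : Subgroup G} {x a b c : D} (ha : T x a ∈ M) (hb : T x b ∈ M)
    (hc : T x c ∈ M) : T x (del h x a b c) ∈ M := by
  refine T_add_mem h (T_add_mem h (T_add_mem h ha hb) hc) (T_neg_mem h ?_)
  exact T_add_mem h (T_add_mem h hb hc) ha

theorem ucs_succ_of_gen {M : Type*} [Group M] {S : Set M} (hS : Subgroup.closure S = ⊤) {n : ℕ}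
    {z : M} (hz : ∀ t ∈ S, ⁅z, t⁆ ∈ Subgroup.upperCentralSeries M n) :
    z ∈ Subgroup.upperCentralSeries M (n + 1) := by
  rw [Subgroup.mem_upperCentralSeries_succ_iff]
  intro y
  have hy : y ∈ Subgroup.closure S := hS ▸ Subgroup.mem_top y
  have hN : (Subgroup.upperCentralSeries M n).Normal := inferInstance
  induction hy using Subgroup.closure_induction with
  | mem t ht => exact hz t ht
  | one => rw [commutatorElement_one_right]; exact Subgroup.one_mem _
  | mul u v _ _ hu hv =>
    have : ⁅z, u * v⁆ = ⁅z, u⁆ * (u * ⁅z, v⁆ * u⁻¹) := by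
      simp only [commutatorElement_def]; group
    rw [this]
    exact Subgroup.mul_mem _ hu (hN.conj_mem _ hv _)
  | inv u _ hu =>
    have : ⁅z, u⁻¹⁆ = u⁻¹ * ⁅z, u⁆⁻¹ * u⁻¹⁻¹ := by
      simp only [commutatorElement_def]; group
    rw [this]
    exact hN.conj_mem _ (Subgroup.inv_mem _ hu) _

/-- the translation group of the points `x, a, b, c` -/
def Mg (x a b c : D) : Subgroup G := Subgroup.closure {T x a, T x b, T x c}

theorem Mg_cyc (x a b c : D) : Mg x b c a = Mg x a b c := by
  unfold Mg
  congr 1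
  ext y
  simp only [Set.mem_insert_iff, Set.mem_singleton_iff]
  tauto

theorem Mg_a (x a b c : D) : T x a ∈ Mg x a b c := Subgroup.subset_closure (by simp)
theorem Mg_b (x a b c : D) : T x b ∈ Mg x a b c := Subgroup.subset_closure (by simp)
theorem Mg_c (x a b c : D) : T x c ∈ Mg x a b c := Subgroup.subset_closure (by simp)

theorem Mg_gen (x a b c : D) : Subgroup.closure
    ({⟨T x a, Mg_a x a b c⟩, ⟨T x b, Mg_b x a b c⟩, ⟨T x c, Mg_c x a b c⟩} : Set (Mg x a b c)) = ⊤ := by
  refine Eq.trans ?_ (Subgroup.closure_closure_coe_preimage (k := ({T x a, T x b, T x c} : Set G)))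
  congr 1
  ext y
  simp only [Set.mem_insert_iff, Set.mem_singleton_iff, Subtype.ext_iff]
  rfl

theorem mem_center_of_commute {x a b c : D} {g : G} (hg : g ∈ Mg x a b c) (hx : Commute g (x : G))
    (ha : Commute g (a : G)) (hb : Commute g (b : G)) (hc : Commute g (c : G)) :
    (⟨g, hg⟩ : Mg x a b c) ∈ Subgroup.upperCentralSeries (Mg x a b c) 1 := by
  rw [Subgroup.upperCentralSeries_one, Subgroup.mem_center_iff]
  rintro ⟨y, hy⟩
  apply Subtype.ext
  change y * g = g * y
  unfold Mg at hy
  induction hy using Subgroup.closure_induction with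
  | mem t ht =>
    simp only [Set.mem_insert_iff, Set.mem_singleton_iff] at ht
    rcases ht with rfl | rfl | rfl
    · exact (hx.mul_right ha).eq.symm
    · exact (hx.mul_right hb).eq.symm
    · exact (hx.mul_right hc).eq.symm
  | one => simp
  | mul u v _ _ hu hv => rw [mul_assoc, hv, ← mul_assoc, hu, mul_assoc]
  | inv u _ hu => exact (Commute.inv_left hu).eq

theorem U_mem {M : Subgroup G} {x p q : D} (hp : T x p ∈ M) (hq : T x q ∈ M) : U x p q ∈ M :=
  M.mul_mem (M.mul_mem (M.mul_mem hp hq) (M.inv_mem hp)) (M.inv_mem hq)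

/-- `T_δ` lies in the second centre -/
theorem del_mem_two (h : HTSet D) (x a b c : D) (hm : T x (del h x a b c) ∈ Mg x a b c) :
    (⟨T x (del h x a b c), hm⟩ : Mg x a b c) ∈ Subgroup.upperCentralSeries (Mg x a b c) 2 := by
  apply ucs_succ_of_gen (Mg_gen x a b c)
  intro t ht
  simp only [Set.mem_insert_iff, Set.mem_singleton_iff] at ht
  rcases ht with rfl | rfl | rfl
  · obtain ⟨h1, h2, h3, h4⟩ := U_del_a_commute h x a b c
    exact mem_center_of_commute (U_mem hm (Mg_a x a b c)) h1 h2 h3 h4
  · obtain ⟨h1, h2, h3, h4⟩ := U_del_b_commute h x a b c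
    exact mem_center_of_commute (U_mem hm (Mg_b x a b c)) h1 h2 h3 h4
  · obtain ⟨h1, h2, h3, h4⟩ := U_del_c_commute h x a b c
    exact mem_center_of_commute (U_mem hm (Mg_c x a b c)) h1 h2 h3 h4

/-- `[U, T_a]` is a product of conjugates of `T_δ⁻¹` -/
theorem U_T_a (h : HTSet D) (x a b c : D) :
    U x b c * T x a * (U x b c)⁻¹ * (T x a)⁻¹ =
      T x (add (op h) x b c) * ((T x (del h x a b c))⁻¹ *
        (T x (ptA h x b c a) * (T x (del h x a b c))⁻¹ * (T x (ptA h x b c a))⁻¹)) *
          (T x (add (op h) x b c))⁻¹ := by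
  have H := h.isHTS
  set S := add (op h) x b c with hS
  set A := ptA h x a b c with hA
  set B := ptA h x b c a with hB
  set dl := del h x a b c with hdl
  have e1 : act h (U x b c) a = add (op h) x A (neg (op h) x S) := by
    rw [← act_T_inv, eq_comm]
    apply act_inv_eq
    rw [hA, ptA_eq]
  have e2 : a = add (op h) x B (neg (op h) x S) := by
    rw [← act_T_inv, eq_comm]
    apply act_inv_eq
    rw [hB, ptB_eq]
  have e3 : A = add (op h) x B dl := by
    rw [H.add_comm, hdl, del, H.neg_add_cancel]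
  have e4 : U x b c * T x a * (U x b c)⁻¹ = T x (act h (U x b c) a) :=
    (T_act h (U_fix_x h x b c) a).symm
  have e5 : (T x a)⁻¹ = (T x S)⁻¹ * (T x B)⁻¹ * (T x S)⁻¹ := by
    conv_lhs => rw [e2]
    rw [T_add h x B (neg (op h) x S), T_neg]; group
  rw [e4, e1, T_add h x A (neg (op h) x S), T_neg, e5, e3, T_add h x B dl]
  group

theorem U_mem_three (h : HTSet D) (x a b c : D) (hm : U x b c ∈ Mg x a b c) :
    (⟨U x b c, hm⟩ : Mg x a b c) ∈ Subgroup.upperCentralSeries (Mg x a b c) 3 := by
  have hb := Mg_b x a b c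
  have hc := Mg_c x a b c
  have ha := Mg_a x a b c
  have hd := T_del_mem h ha hb hc
  have hN : (Subgroup.upperCentralSeries (Mg x a b c) 2).Normal := inferInstance
  apply ucs_succ_of_gen (Mg_gen x a b c)
  intro t ht
  simp only [Set.mem_insert_iff, Set.mem_singleton_iff] at ht
  rcases ht with rfl | rfl | rfl
  · have hS : T x (add (op h) x b c) ∈ Mg x a b c := T_add_mem h hb hc
    have hB : T x (ptA h x b c a) ∈ Mg x a b c := T_add_mem h hS ha
    have e : ⁅(⟨U x b c, hm⟩ : Mg x a b c), (⟨T x a, ha⟩ : Mg x a b c)⁆ =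
        ⟨T x (add (op h) x b c), hS⟩ * ((⟨T x (del h x a b c), hd⟩ : Mg x a b c)⁻¹ *
        (⟨T x (ptA h x b c a), hB⟩ * (⟨T x (del h x a b c), hd⟩ : Mg x a b c)⁻¹ *
          (⟨T x (ptA h x b c a), hB⟩ : Mg x a b c)⁻¹)) *
          (⟨T x (add (op h) x b c), hS⟩ : Mg x a b c)⁻¹ :=
      Subtype.ext (U_T_a h x a b c)
    rw [e]
    have hdm := Subgroup.inv_mem _ (del_mem_two h x a b c hd)
    exact hN.conj_mem _ (Subgroup.mul_mem _ hdm (hN.conj_mem _ hdm _)) _
  · have : ⁅(⟨U x b c, hm⟩ : Mg x a b c), (⟨T x b, hb⟩ : Mg x a b c)⁆ = 1 :=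
      commutatorElement_eq_one_iff_mul_comm.2 (Subtype.ext (U_comm_Tb h x b c).eq)
    rw [this]; exact Subgroup.one_mem _
  · have : ⁅(⟨U x b c, hm⟩ : Mg x a b c), (⟨T x c, hc⟩ : Mg x a b c)⁆ = 1 :=
      commutatorElement_eq_one_iff_mul_comm.2 (Subtype.ext (U_comm_Tc h x b c).eq)
    rw [this]; exact Subgroup.one_mem _


theorem U_mem_three' (h : HTSet D) {x a b c : D} {M : Subgroup G} (hM : M = Mg x a b c)
    (hm : U x b c ∈ M) : (⟨U x b c, hm⟩ : M) ∈ Subgroup.upperCentralSeries M 3 := by
  subst hM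
  exact U_mem_three h x a b c hm

theorem Ta_mem_four (h : HTSet D) (x a b c : D) :
    (⟨T x a, Mg_a x a b c⟩ : Mg x a b c) ∈ Subgroup.upperCentralSeries (Mg x a b c) 4 := by
  have hb := Mg_b x a b c
  have hc := Mg_c x a b c
  have ha := Mg_a x a b c
  apply ucs_succ_of_gen (Mg_gen x a b c)
  intro t ht
  simp only [Set.mem_insert_iff, Set.mem_singleton_iff] at ht
  rcases ht with rfl | rfl | rfl
  · rw [commutatorElement_self]; exact Subgroup.one_mem _
  · exact U_mem_three' h (M := Mg x a b c) (x := x) (a := c) (b := a) (c := b)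
      (by rw [← Mg_cyc, ← Mg_cyc]) (U_mem ha hb)
  · have h1 := U_mem_three' h (M := Mg x a b c) (x := x) (a := b) (b := c) (c := a)
      (by rw [← Mg_cyc]) (U_mem hc ha)
    have h2 := Subgroup.inv_mem _ h1
    convert h2 using 1
    apply Subtype.ext
    change T x a * T x c * (T x a)⁻¹ * (T x c)⁻¹ = (T x c * T x a * (T x c)⁻¹ * (T x a)⁻¹)⁻¹
    group

theorem Ta_mem_four' (h : HTSet D) {x a b c : D} {M : Subgroup G} (hM : M = Mg x a b c)
    (hm : T x a ∈ M) : (⟨T x a, hm⟩ : M) ∈ Subgroup.upperCentralSeries M 4 := by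
  subst hM
  exact Ta_mem_four h x a b c

theorem Mg_nilpotent (h : HTSet D) (x a b c : D) : Group.IsNilpotent (Mg x a b c) := by
  refine ⟨⟨4, ?_⟩⟩
  rw [eq_top_iff, ← Mg_gen x a b c, Subgroup.closure_le]
  intro t ht
  simp only [Set.mem_insert_iff, Set.mem_singleton_iff] at ht
  rcases ht with rfl | rfl | rfl
  · exact Ta_mem_four h x a b c
  · exact Ta_mem_four' h (x := x) (a := b) (b := c) (c := a) (by rw [← Mg_cyc]) _
  · exact Ta_mem_four' h (x := x) (a := c) (b := a) (c := b) (by rw [← Mg_cyc, ← Mg_cyc]) _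

/-- A finite nilpotent group generated by elements of order dividing `p` is a `p`-group. -/
theorem isPGroup_of_nilpotent {M : Type*} [Group M] [Finite M] [Group.IsNilpotent M] {p : ℕ}
    [Fact p.Prime] {S : Set M} (hS : Subgroup.closure S = ⊤) (hp : ∀ s ∈ S, s ^ p = 1) :
    IsPGroup p M := by
  obtain ⟨P⟩ : Nonempty (Sylow p M) := Sylow.nonempty
  have hP : (P : Subgroup M).Normal := inferInstance
  have _ := P.unique_of_normal hP
  have : (P : Subgroup M) = ⊤ := by
    rw [eq_top_iff, ← hS, Subgroup.closure_le]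
    intro s hs
    have hz : IsPGroup p (Subgroup.zpowers s) := by
      rintro ⟨y, hy⟩
      refine ⟨1, ?_⟩
      apply Subtype.ext
      obtain ⟨k, rfl⟩ := Subgroup.mem_zpowers_iff.1 hy
      change (s ^ k) ^ (p ^ 1) = 1
      rw [pow_one, ← zpow_natCast, ← zpow_mul, mul_comm, zpow_mul, zpow_natCast, hp s hs, one_zpow]
    obtain ⟨Q, hQ⟩ := hz.exists_le_sylow
    rw [Subsingleton.elim P Q]
    exact hQ (Subgroup.mem_zpowers s)
  exact IsPGroup.of_equiv (this ▸ P.2) Subgroup.topEquiv

theorem T_pow_three (h : HTSet D) (x p : D) : T x p ^ 3 = 1 := by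
  rw [pow_succ, pow_two, T_cube h]

theorem Mg_isPGroup [Finite G] (h : HTSet D) (x a b c : D) : IsPGroup 3 (Mg x a b c) := by
  have := Mg_nilpotent h x a b c
  have : Fact (Nat.Prime 3) := ⟨Nat.prime_three⟩
  apply isPGroup_of_nilpotent (Mg_gen x a b c)
  intro t ht
  simp only [Set.mem_insert_iff, Set.mem_singleton_iff] at ht
  rcases ht with rfl | rfl | rfl <;> exact Subtype.ext (T_pow_three h x _)

/-- **Hall triple system lemma**: in a finite group, a conjugation-closed set `D` of involutions
with `d e d = e d e` for all `d, e ∈ D` has the property that the products `d e` generate a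
3-group. -/
theorem isPGroup_closure_products [Finite G] (h : HTSet D) :
    IsPGroup 3 (Subgroup.closure {g : G | ∃ d ∈ D, ∃ e ∈ D, g = d * e}) := by
  have : Fact (Nat.Prime 3) := ⟨Nat.prime_three⟩
  apply Cfsg.Agent.Involutions.BaerSuzuki.baer_suzuki_set
  · rintro g _ ⟨d, hd, e, he, rfl⟩
    exact ⟨g * d * g⁻¹, h.cj g d hd, g * e * g⁻¹, h.cj g e he, by group⟩
  · rintro _ ⟨x, hx, a, ha, rfl⟩ _ ⟨b, hb, c, hc, rfl⟩
    refine (Mg_isPGroup h ⟨x, hx⟩ ⟨a, ha⟩ ⟨b, hb⟩ ⟨c, hc⟩).to_le ?_
    rw [Subgroup.closure_le]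
    intro t ht
    simp only [Set.mem_insert_iff, Set.mem_singleton_iff] at ht
    rcases ht with rfl | rfl
    · exact Mg_a _ _ _ _
    · have e1 : b * c = (T (⟨x, hx⟩ : D) ⟨b, hb⟩)⁻¹ * T (⟨x, hx⟩ : D) ⟨c, hc⟩ := by
        simp only [T]; group
        rw [show (b : G) ^ (-1 : ℤ) = b by rw [zpow_neg_one]; exact h.inv_eq hb]
      rw [e1]
      exact Subgroup.mul_mem _ (Subgroup.inv_mem _ (Mg_b _ _ _ _)) (Mg_c _ _ _ _)

end Grp

end Cfsg.Agent.Fischer.Hall
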