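import Cfsg.Prelude.Def_Spor_He
import Cfsg.Agent.Fischer.Fi24RepDef
import Cfsg.Agent.Lib.PermNetPt

/-!
Words in the generators of the presented group `Fi24` satisfying the relations of the presented group `He`.
-/

set_option autoImplicit false

namespace Cfsg.Agent.Fischer.HeInFi24Def

open Cfsg.Agent.Lib.PermNet Cfsg.Agent.Lib.PermNetPt Cfsg.Agent.Fischer.Fi24RepDef

/-- The word of a generator of `He`. -/
def W : Cfsg.Spor.He.Gen → List Cfsg.Spor.Fi24.Gen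
  | .a => [.l, .i]
  | .b => [.f, .g, .e, .f, .d, .e, .c, .d, .h, .i, .d, .e, .b, .c, .d, .h, .e, .f, .b, .c, .d, .e, .a, .b, .c, .d,
      .h, .i, .f, .c, .d, .e, .b, .c, .d, .h, .g, .f, .e, .d, .c, .b, .a, .k, .a, .b, .c, .d, .e, .f, .g, .h, .d, .c,
      .b, .e, .d, .c, .f, .i, .h, .d, .c, .b, .a, .e, .d, .c, .b, .f, .e, .h, .d, .c, .b, .e, .d, .i, .h, .d, .c, .e,
      .d, .f, .e, .g, .f, .j]
  | .c => [.g, .b]
  | .d => [.f, .d, .h, .i, .e, .d, .h, .f, .e, .d, .c, .d, .e, .f, .h, .d, .e, .i, .h, .d, .l, .i]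
  | .e => [.b, .h, .i, .d, .h, .e, .d, .c, .b, .a, .b, .c, .d, .e, .h, .d, .i, .h, .l, .i]
  | .f => [.l, .i, .e, .c, .b, .a, .b, .c]
  | .g => [.l, .i, .e, .d, .h, .i, .c, .d, .h, .e, .d, .c, .b, .c, .d, .e, .h, .d, .c, .i, .h, .d, .e, .d]

/-- The word of a word in the generators of `He`. -/
def ww (l : List Cfsg.Spor.He.Gen) : List Cfsg.Spor.Fi24.Gen :=
  List.rec (motive := fun _ => List Cfsg.Spor.Fi24.Gen) [] (fun x _ ih => W x ++ ih) l

theorem ww_nil : ww [] = [] := rfl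

theorem ww_cons (x : Cfsg.Spor.He.Gen) (l : List Cfsg.Spor.He.Gen) : ww (x :: l) = W x ++ ww l := rfl

/-- The relations to be checked (the other ones follow). -/
def hrels : List (List Cfsg.Spor.He.Gen) :=
  [[.a, .a], [.b, .b], [.c, .c], [.d, .d], [.e, .e], [.f, .f], [.g, .g],
   [.a, .c, .a, .c], [.a, .d, .a, .d], [.a, .e, .a, .e], [.a, .f, .a, .f], [.a, .g, .a, .g],
   [.b, .d, .b, .d], [.b, .e, .b, .e], [.b, .f, .b, .f], [.b, .g, .b, .g],
   [.c, .e, .c, .e], [.c, .f, .c, .f], [.c, .g, .c, .g], [.e, .f, .e, .f], [.e, .g, .e, .g],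
   [.a, .b, .a, .b, .a, .b, .a, .b], [.b, .c, .b, .c, .b, .c], [.d, .e, .d, .e, .d, .e], [.d, .f, .d, .f, .d, .f],
   [.d, .g, .d, .g, .d, .g], [.e, .f, .g, .f, .g], [.e, .a, .b, .c, .a, .b, .c, .a, .b, .c],
   [.a, .c, .d, .c, .d, .c, .d, .c, .d, .c, .d], [.c, .d, .f, .g, .c, .d, .f, .g, .c, .d, .f, .g, .c, .d, .f, .g]]

/-- A word taking the point of `l` to the point of `x`. -/
def stdW : Cfsg.Spor.Fi24.Gen → List Cfsg.Spor.Fi24.Gen
  | .l => []
  | .k => [.l, .k]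
  | .a => [.k, .a, .l, .k]
  | .b => [.a, .b, .k, .a, .l, .k]
  | .c => [.b, .c, .a, .b, .k, .a, .l, .k]
  | .d => [.c, .d, .b, .c, .a, .b, .k, .a, .l, .k]
  | .e => [.d, .e, .c, .d, .b, .c, .a, .b, .k, .a, .l, .k]
  | .f => [.e, .f, .d, .e, .c, .d, .b, .c, .a, .b, .k, .a, .l, .k]
  | .g => [.f, .g, .e, .f, .d, .e, .c, .d, .b, .c, .a, .b, .k, .a, .l, .k]
  | .j => [.g, .j, .f, .g, .e, .f, .d, .e, .c, .d, .b, .c, .a, .b, .k, .a, .l, .k]
  | .h => [.d, .h, .c, .d, .b, .c, .a, .b, .k, .a, .l, .k]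
  | .i => [.h, .i, .d, .h, .c, .d, .b, .c, .a, .b, .k, .a, .l, .k]

/-- The network words of the relations. -/
noncomputable def rws : List (List Net) := hrels.map (fun l => nw (ww l) false)

theorem rws_ok : ∀ w ∈ rws, WOk 327680 w := by
  intro w hw
  obtain ⟨l, _, rfl⟩ := List.mem_map.1 hw
  exact wok (ww l) false

/-- All the relations fix the point of `x`. -/
noncomputable def chk (x : Cfsg.Spor.Fi24.Gen) : Bool :=
  force (winv (nw (stdW x).reverse false) 0) fun p => chkFix rws [p]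

end Cfsg.Agent.Fischer.HeInFi24Def
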