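import Cfsg.Agent.SporadicRecognition.CosetCertHyp

/-!
One level of a certified coset enumeration for an arbitrary group `G` with elements `s : Fin k → G` satisfying
Coxeter relations `(s i * s j) ^ lab i j = 1` and further relations `ev s w = 1`, `w ∈ E`.
-/

set_option autoImplicit false
set_option linter.unusedSectionVars false

namespace Cfsg.Agent.Fischer.Level

open Cfsg.Agent.SporadicRecognition.CosetCert (Cert Part Hyp card_closure_le index_le closure_covered trans
  trans_isTrans Rel)
open Cfsg.Agent.SporadicRecognition.CosetCertHyp (checkHyp hyp_of_checks)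

variable {G : Type*} [Group G] {k : ℕ} [NeZero k]

/-- Value of a word. -/
def ev (s : Fin k → G) (w : List (Fin k)) : G := (w.map s).prod

theorem ev_append (s : Fin k → G) (v w : List (Fin k)) : ev s (v ++ w) = ev s v * ev s w := by
  rw [ev, ev, ev, List.map_append, List.prod_append]

theorem ev_nil (s : Fin k → G) : ev s [] = 1 := rfl

theorem ev_cons (s : Fin k → G) (i : Fin k) (w : List (Fin k)) : ev s (i :: w) = s i * ev s w := by
  rw [ev, ev, List.map_cons, List.prod_cons]

/-- Repetition of a word. -/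
def rep (m : ℕ) (w : List (Fin k)) : List (Fin k) := (List.replicate m w).flatten

theorem ev_rep (s : Fin k → G) (m : ℕ) (w : List (Fin k)) : ev s (rep m w) = ev s w ^ m := by
  induction m with
  | zero => simp [rep, ev_nil]
  | succ m ih =>
    rw [rep, List.replicate_succ, List.flatten_cons, ev_append, ← rep, ih, pow_succ']

/-- The letters of a subdiagram as a function on the natural numbers. -/
def gl (s : Fin k → G) (L : List (Fin k)) (n : ℕ) : G := if n < L.length then s (L.getD n 0) else 1

/-- Translation of a word. -/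
def toW (L : List (Fin k)) (r : List ℕ) : List (Fin k) := r.map fun n => L.getD n 0

/-- The subgroup generated by a subdiagram. -/
def Hl (s : Fin k → G) (L : List (Fin k)) : Subgroup G := Subgroup.closure (s '' {i | i ∈ L})

/-- A relator of the Coxeter group. -/
def okCox (lab : Fin k → Fin k → ℕ) (w : List (Fin k)) : Bool :=
  (List.finRange k).any fun i => (List.finRange k).any fun j => w == rep (lab i j) [i, j]

/-- Check of a relator. -/
def okR (lab : Fin k → Fin k → ℕ) (E : List (List (Fin k))) (L : List (Fin k)) (r : List ℕ) : Bool :=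
  (r.all fun n => decide (n < L.length)) && (okCox lab (toW L r) || E.any fun w => toW L r == w)

/-- Check of a subgroup word. -/
def okS (L M : List (Fin k)) : List ℕ → Bool
  | [] => true
  | [x] => decide (x < L.length) && M.contains (L.getD x 0)
  | _ => false

theorem ev_gl (s : Fin k → G) (L : List (Fin k)) (r : List ℕ) (h : ∀ n ∈ r, n < L.length) :
    Cfsg.Agent.SporadicRecognition.CosetCert.ev (gl s L) r = ev s (toW L r) := by
  rw [Cfsg.Agent.SporadicRecognition.CosetCert.ev, ev, toW, List.map_map]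
  congr 1
  refine List.map_congr_left fun n hn => ?_
  rw [gl, if_pos (h n hn)]
  rfl

theorem okR_sound {s : Fin k → G} {lab : Fin k → Fin k → ℕ} {E : List (List (Fin k))}
    (hs : ∀ i j, (s i * s j) ^ lab i j = 1) (hE : ∀ w ∈ E, ev s w = 1)
    {L : List (Fin k)} {r : List ℕ} (h : okR lab E L r = true) :
    Cfsg.Agent.SporadicRecognition.CosetCert.ev (gl s L) r = 1 := by
  rw [okR, Bool.and_eq_true, Bool.or_eq_true] at h
  obtain ⟨h1, h2⟩ := h
  rw [ev_gl s L r fun n hn => of_decide_eq_true (List.all_eq_true.1 h1 n hn)]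
  rcases h2 with h2 | h2
  · rw [okCox, List.any_eq_true] at h2
    obtain ⟨i, _, h2⟩ := h2
    rw [List.any_eq_true] at h2
    obtain ⟨j, _, h2⟩ := h2
    rw [eq_of_beq h2, ev_rep, ev_cons, ev_cons, ev_nil, mul_one]
    exact hs i j
  · obtain ⟨w, hw, h3⟩ := List.any_eq_true.1 h2
    rw [eq_of_beq h3]; exact hE w hw

theorem gl_image (s : Fin k → G) (L : List (Fin k)) :
    gl s L '' {x | x < L.length} = s '' {i | i ∈ L} := by
  ext y
  constructor
  · rintro ⟨n, hn, rfl⟩
    have hn' : n < L.length := hn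
    refine ⟨L[n], List.getElem_mem _, ?_⟩
    rw [gl, if_pos hn', List.getD_eq_getElem _ _ hn']
  · rintro ⟨i, hi, rfl⟩
    obtain ⟨n, hn, rfl⟩ := List.mem_iff_getElem.1 (show i ∈ L from hi)
    refine ⟨n, hn, ?_⟩
    rw [gl, if_pos hn, List.getD_eq_getElem _ _ hn]

/-- The hypotheses of a certificate. -/
theorem hyp {s : Fin k → G} {lab : Fin k → Fin k → ℕ} (E : List (List (Fin k))) (hdiag : ∀ i, lab i i = 1)
    (hs : ∀ i j, (s i * s j) ^ lab i j = 1) (hE : ∀ w ∈ E, ev s w = 1)
    (L M : List (Fin k)) (C : Cert) (rels subw : List (List ℕ)) (hk : C.k = L.length)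
    (hinv : ∀ x, C.inv x = x) (hr : rels.all (okR lab E L) = true) (hsub : subw.all (okS L M) = true)
    (hc : checkHyp C rels subw = true) : Hyp C (Hl s M) (gl s L) := by
  refine hyp_of_checks (Hl s M) (gl s L) C rels subw ?_ ?_ ?_ ?_ hc
  · rw [hk, gl, if_neg (lt_irrefl _)]
  · intro x hx
    rw [hinv x]
    refine ⟨hx, ?_⟩
    rw [hk] at hx
    rw [gl, if_pos hx]
    have := hs (L.getD x 0) (L.getD x 0)
    rwa [hdiag, pow_one] at this
  · intro r hr'
    exact okR_sound hs hE (List.all_eq_true.1 hr r hr')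
  · intro w hw
    have h1 := List.all_eq_true.1 hsub w hw
    match w, h1 with
    | [], _ => exact (Hl s M).one_mem
    | [x], h1 =>
      rw [okS, Bool.and_eq_true] at h1
      have hx : x < L.length := of_decide_eq_true h1.1
      rw [Cfsg.Agent.SporadicRecognition.CosetCert.ev_cons,
        Cfsg.Agent.SporadicRecognition.CosetCert.ev_nil, mul_one, gl, if_pos hx]
      exact Subgroup.subset_closure ⟨_, by simpa using h1.2, rfl⟩

/-- Order bound. -/
theorem card_le {s : Fin k → G} {lab : Fin k → Fin k → ℕ} (E : List (List (Fin k))) (hdiag : ∀ i, lab i i = 1)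
    (hs : ∀ i j, (s i * s j) ^ lab i j = 1) (hE : ∀ w ∈ E, ev s w = 1)
    (L M : List (Fin k)) (C : Cert) (rels subw : List (List ℕ)) (n : ℕ) (hk : C.k = L.length)
    (hinv : ∀ x, C.inv x = x) (hr : rels.all (okR lab E L) = true) (hsub : subw.all (okS L M) = true)
    (hc : checkHyp C rels subw = true) (hP : Part C 0 C.N n) (h : Finite (Hl s M)) :
    Finite (Hl s L) ∧ Nat.card (Hl s L) ≤ n * Nat.card (Hl s M) := by
  have h2 := card_closure_le C (Hl s M) (gl s L) (hyp E hdiag hs hE L M C rels subw hk hinv hr hsub hc) hP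
  rw [hk, gl_image] at h2
  exact h2

/-- Index bound. -/
theorem index_le' {s : Fin k → G} {lab : Fin k → Fin k → ℕ} (E : List (List (Fin k))) (hdiag : ∀ i, lab i i = 1)
    (hs : ∀ i j, (s i * s j) ^ lab i j = 1) (hE : ∀ w ∈ E, ev s w = 1)
    (L M : List (Fin k)) (C : Cert) (rels subw : List (List ℕ)) (n : ℕ) (hk : C.k = L.length)
    (hinv : ∀ x, C.inv x = x) (hr : rels.all (okR lab E L) = true) (hsub : subw.all (okS L M) = true)
    (hc : checkHyp C rels subw = true) (hP : Part C 0 C.N n) (htop : Hl s L = ⊤) :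
    (Hl s M).index ≠ 0 ∧ (Hl s M).index ≤ n := by
  refine index_le C (Hl s M) (gl s L) (hyp E hdiag hs hE L M C rels subw hk hinv hr hsub hc) hP ?_
  rw [hk, gl_image]
  exact htop

/-- Covering by cosets: every element of `Hl s L` lies in one of the cosets `(Hl s M) t`, `t ∈ T`, `|T| ≤ n`. -/
theorem covered {s : Fin k → G} {lab : Fin k → Fin k → ℕ} (E : List (List (Fin k))) (hdiag : ∀ i, lab i i = 1)
    (hs : ∀ i j, (s i * s j) ^ lab i j = 1) (hE : ∀ w ∈ E, ev s w = 1)
    (L M : List (Fin k)) (C : Cert) (rels subw : List (List ℕ)) (n : ℕ) (hk : C.k = L.length)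
    (hinv : ∀ x, C.inv x = x) (hr : rels.all (okR lab E L) = true) (hsub : subw.all (okS L M) = true)
    (hc : checkHyp C rels subw = true) (hP : Part C 0 C.N n) :
    ∃ T : Finset G, T.card ≤ n ∧ ∀ x ∈ Hl s L, ∃ t ∈ T, x * t⁻¹ ∈ Hl s M := by
  classical
  obtain ⟨S, hS, hcov⟩ := closure_covered C (Hl s M) (gl s L) (trans C (gl s L))
    (hyp E hdiag hs hE L M C rels subw hk hinv hr hsub hc) (trans_isTrans C _) hP
  refine ⟨S.image (trans C (gl s L)), Finset.card_image_le.trans hS, fun x hx => ?_⟩
  rw [hk, gl_image] at hcov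
  obtain ⟨l, hl, h⟩ := hcov x hx
  exact ⟨_, Finset.mem_image_of_mem _ hl, h⟩

end Cfsg.Agent.Fischer.Level
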