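import Cfsg.Prelude.Def_Classical
import Cfsg.Agent.Fischer.Derived

/-!
Eight reflections of the quadratic space `(ZMod 3)^7`, `Q = x₀² + x₁y₁ + x₂y₂ + x₃y₃`, up to sign: the vectors
`root k` have norm `-1` and form the diagram `Y₂₃₂`; `mO k = - r_{root k}`. The words of the Fischer presentation
are evaluated on tuples of elements of `ZMod 3`.
-/

set_option autoImplicit false

namespace Cfsg.Agent.Fischer.O73

open Cfsg Matrix
open Cfsg.Agent.Fischer.Derived

/-- Index type. -/
abbrev Ix : Type := Unit ⊕ (Fin 3 ⊕ Fin 3)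

/-- The quadratic form. -/
abbrev Q : (Ix → ZMod 3) → ZMod 3 := quadFormOdd 3 (ZMod 3)

theorem Q_def (v : Ix → ZMod 3) : Q v = v (.inl ()) ^ 2 + (v (.inr (.inl 0)) * v (.inr (.inr 0)) +
    v (.inr (.inl 1)) * v (.inr (.inr 1)) + v (.inr (.inl 2)) * v (.inr (.inr 2))) := by
  show v (.inl ()) ^ 2 + ∑ i : Fin 3, v (.inr (.inl i)) * v (.inr (.inr i)) = _
  rw [Fin.sum_univ_three]

/-- The covector `B(v, ·)`. -/
def cov (v : Ix → ZMod 3) : Ix → ZMod 3
  | .inl _ => 2 * v (.inl ())
  | .inr (.inl i) => v (.inr (.inr i))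
  | .inr (.inr i) => v (.inr (.inl i))

/-- The polar form. -/
def B (v x : Ix → ZMod 3) : ZMod 3 := cov v ⬝ᵥ x

theorem B_def (v x : Ix → ZMod 3) : B v x = 2 * v (.inl ()) * x (.inl ()) +
    ((v (.inr (.inr 0)) * x (.inr (.inl 0)) + v (.inr (.inr 1)) * x (.inr (.inl 1)) +
      v (.inr (.inr 2)) * x (.inr (.inl 2))) +
     (v (.inr (.inl 0)) * x (.inr (.inr 0)) + v (.inr (.inl 1)) * x (.inr (.inr 1)) +
      v (.inr (.inl 2)) * x (.inr (.inr 2)))) := by
  rw [B, dotProduct, Fintype.sum_sum_type, Fintype.sum_sum_type, Fin.sum_univ_three, Fin.sum_univ_three]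
  simp [cov]

theorem Q_add (x y : Ix → ZMod 3) : Q (x + y) = Q x + Q y + B x y := by
  rw [Q_def, Q_def, Q_def, B_def]
  simp only [Pi.add_apply]
  ring

theorem Q_neg (x : Ix → ZMod 3) : Q (-x) = Q x := by
  rw [Q_def, Q_def]
  simp only [Pi.neg_apply]
  ring

theorem Q_smul (c : ZMod 3) (x : Ix → ZMod 3) : Q (c • x) = c ^ 2 * Q x := by
  rw [Q_def, Q_def]
  simp only [Pi.smul_apply, smul_eq_mul]
  ring

theorem B_self (x : Ix → ZMod 3) : B x x = 2 * Q x := by
  rw [Q_def, B_def]
  ring

theorem B_comm (x y : Ix → ZMod 3) : B x y = B y x := by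
  rw [B_def, B_def]
  ring

theorem B_smul (c : ZMod 3) (x y : Ix → ZMod 3) : B x (c • y) = c * B x y := by
  rw [B_def, B_def]
  simp only [Pi.smul_apply, smul_eq_mul]
  ring

theorem B_add (x y z : Ix → ZMod 3) : B x (y + z) = B x y + B x z := by
  rw [B_def, B_def, B_def]
  simp only [Pi.add_apply]
  ring

theorem B_neg (x y : Ix → ZMod 3) : B x (-y) = - B x y := by
  rw [B_def, B_def]
  simp only [Pi.neg_apply]
  ring

theorem B_eq (x y : Ix → ZMod 3) : B x y = Q (x + y) - Q x - Q y := by
  rw [Q_add]; ring

/-- The matrix of `x ↦ - x - B(v,x) v`. -/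
def mM (v : Ix → ZMod 3) : Matrix Ix Ix (ZMod 3) := -1 - vecMulVec v (cov v)

theorem mM_mulVec (v x : Ix → ZMod 3) : mM v *ᵥ x = - x - B v x • v := by
  rw [mM, sub_mulVec, neg_mulVec, one_mulVec, vecMulVec_mulVec, op_smul_eq_smul]
  rfl

theorem mM_mul_self (v : Ix → ZMod 3) (hv : Q v = -1) : mM v * mM v = 1 := by
  refine Matrix.ext_of_mulVec_single fun i => ?_
  generalize (Pi.single i 1 : Ix → ZMod 3) = x
  rw [← mulVec_mulVec, mM_mulVec, mM_mulVec, one_mulVec]
  have h1 : B v (-x - B v x • v) = - B v x - B v x * (2 * Q v) := by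
    rw [sub_eq_add_neg, B_add, B_neg, B_neg, B_smul, B_self]; ring
  rw [h1, hv]
  ext j
  simp only [Pi.sub_apply, Pi.neg_apply, Pi.smul_apply, smul_eq_mul]
  ring

theorem Q_mM (v x : Ix → ZMod 3) (hv : Q v = -1) : Q (mM v *ᵥ x) = Q x := by
  rw [mM_mulVec, sub_eq_add_neg, Q_add, Q_neg, Q_neg, Q_smul, B_neg, B_smul, B_comm (-x) v, B_neg, hv]
  ring

/-- The element `- r_v` of the isometry group. -/
def mO (v : Ix → ZMod 3) (hv : Q v = -1) : isometryGroup (ZMod 3) Q :=
  ⟨⟨mM v, mM v, mM_mul_self v hv, mM_mul_self v hv⟩, fun x _ => Q_mM v x hv⟩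

theorem mO_coe (v : Ix → ZMod 3) (hv : Q v = -1) :
    (((mO v hv : isometryGroup (ZMod 3) Q) : GeneralLinearGroup Ix (ZMod 3)) : Matrix Ix Ix (ZMod 3)) = mM v := rfl

/-- The matrix of an isometry. -/
def mat (g : isometryGroup (ZMod 3) Q) : Matrix Ix Ix (ZMod 3) :=
  ((g : GeneralLinearGroup Ix (ZMod 3)) : Matrix Ix Ix (ZMod 3))

theorem mat_mul (g h : isometryGroup (ZMod 3) Q) : mat (g * h) = mat g * mat h := rfl

theorem mat_one : mat 1 = 1 := rfl

theorem mat_mO (v : Ix → ZMod 3) (hv : Q v = -1) : mat (mO v hv) = mM v := rfl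

theorem mat_injective {g h : isometryGroup (ZMod 3) Q} (e : mat g = mat h) : g = h :=
  Subtype.ext (Units.ext e)

theorem Q_mat (g : isometryGroup (ZMod 3) Q) (x : Ix → ZMod 3) : Q (mat g *ᵥ x) = Q x := g.2 x x

theorem B_mat (g : isometryGroup (ZMod 3) Q) (x y : Ix → ZMod 3) : B (mat g *ᵥ x) (mat g *ᵥ y) = B x y := by
  rw [B_eq, B_eq x y, ← mulVec_add, Q_mat, Q_mat, Q_mat]

/-- Conjugation of `- r_v`. -/
theorem conj_mO (g : isometryGroup (ZMod 3) Q) (v : Ix → ZMod 3) (hv : Q v = -1) :
    g * mO v hv * g⁻¹ = mO (mat g *ᵥ v) ((Q_mat g v).trans hv) := by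
  rw [mul_inv_eq_iff_eq_mul]
  apply mat_injective
  rw [mat_mul, mat_mul, mat_mO, mat_mO]
  refine Matrix.ext_of_mulVec_single fun i => ?_
  generalize (Pi.single i 1 : Ix → ZMod 3) = x
  rw [← mulVec_mulVec, ← mulVec_mulVec, mM_mulVec, mM_mulVec, B_mat, mulVec_sub, mulVec_neg, mulVec_smul]

theorem mO_congr {v w : Ix → ZMod 3} (hv : Q v = -1) (hw : Q w = -1) (h : v = w ∨ v = -w) : mO v hv = mO w hw := by
  rcases h with rfl | rfl
  · rfl
  · apply mat_injective
    rw [mat_mO, mat_mO]
    refine Matrix.ext_of_mulVec_single fun i => ?_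
    generalize (Pi.single i 1 : Ix → ZMod 3) = x
    rw [mM_mulVec, mM_mulVec, B_comm (-w) x, B_neg, B_comm x w]
    simp

/-! ### Tuples -/

/-- Seven elements of `ZMod 3`. -/
structure V7 where
  (a b c d e f g : ZMod 3)
  deriving DecidableEq

/-- The vector of a tuple: `x₀; x₁ x₂ x₃; y₁ y₂ y₃`. -/
def V7.toFun (v : V7) : Ix → ZMod 3 := Sum.elim (fun _ => v.a) (Sum.elim ![v.b, v.c, v.d] ![v.e, v.f, v.g])

/-- The tuple of a vector. -/
def ofFun (v : Ix → ZMod 3) : V7 :=
  ⟨v (.inl ()), v (.inr (.inl 0)), v (.inr (.inl 1)), v (.inr (.inl 2)), v (.inr (.inr 0)), v (.inr (.inr 1)),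
    v (.inr (.inr 2))⟩

theorem toFun_ofFun (v : Ix → ZMod 3) : (ofFun v).toFun = v := by
  funext i
  rcases i with ⟨⟩ | i | i
  · rfl
  · fin_cases i <;> rfl
  · fin_cases i <;> rfl

/-- The polar form on tuples. -/
def V7.dot (v x : V7) : ZMod 3 := 2 * v.a * x.a + (v.e * x.b + v.f * x.c + v.g * x.d + (v.b * x.e + v.c * x.f + v.d * x.g))

/-- The quadratic form on tuples. -/
def V7.q (v : V7) : ZMod 3 := v.a * v.a + (v.b * v.e + v.c * v.f + v.d * v.g)

/-- `x ↦ - x - k v`. -/
def V7.comb (k : ZMod 3) (v x : V7) : V7 :=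
  ⟨-x.a - k * v.a, -x.b - k * v.b, -x.c - k * v.c, -x.d - k * v.d, -x.e - k * v.e, -x.f - k * v.f, -x.g - k * v.g⟩

/-- The action of `- r_v` on tuples. -/
def V7.act (v x : V7) : V7 := V7.comb (v.dot x) v x

theorem B_toFun (v x : V7) : B v.toFun x.toFun = v.dot x := by
  rw [B_def]
  simp [V7.toFun, V7.dot, add_assoc]

theorem Q_toFun (v : V7) : Q v.toFun = v.q := by
  rw [Q_def]
  simp [V7.toFun, V7.q, pow_two]

theorem mM_toFun (v x : V7) : mM v.toFun *ᵥ x.toFun = (v.act x).toFun := by
  rw [mM_mulVec, B_toFun]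
  funext i
  rcases i with ⟨⟩ | i | i
  · simp [V7.toFun, V7.act, V7.comb]
  · fin_cases i <;> simp [V7.toFun, V7.act, V7.comb]
  · fin_cases i <;> simp [V7.toFun, V7.act, V7.comb]

/-- The eight roots `b, c, d, e, f, g, h, i`. -/
def root : Fin 8 → V7
  | 0 => ⟨0, 0, 0, 1, 0, 0, 2⟩
  | 1 => ⟨0, 0, 0, 1, 0, 1, 2⟩
  | 2 => ⟨0, 0, 1, 0, 0, 2, 0⟩
  | 3 => ⟨0, 1, 0, 0, 2, 1, 0⟩
  | 4 => ⟨1, 0, 0, 1, 1, 0, 1⟩
  | 5 => ⟨1, 0, 0, 1, 0, 0, 1⟩
  | 6 => ⟨2, 0, 0, 1, 0, 1, 1⟩
  | 7 => ⟨2, 0, 0, 1, 0, 0, 1⟩

theorem root_q : ∀ k : Fin 8, (root k).q = -1 := by decide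

/-- The eight generators. -/
def gen (k : Fin 8) : isometryGroup (ZMod 3) Q := mO (root k).toFun ((Q_toFun _).trans (root_q k))

/-- Action of a word on tuples. -/
def actW : List (Fin 8) → V7 → V7
  | [], x => x
  | k :: w, x => (root k).act (actW w x)

theorem mat_ev (w : List (Fin 8)) (x : V7) : mat (ev gen w) *ᵥ x.toFun = (actW w x).toFun := by
  induction w with
  | nil => rw [ev_nil, mat_one, one_mulVec]; rfl
  | cons k w ih => rw [ev_cons, mat_mul, ← mulVec_mulVec, ih, gen, mat_mO, mM_toFun]; rfl

/-- The basis tuples. -/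
def basis : List V7 :=
  [⟨1, 0, 0, 0, 0, 0, 0⟩, ⟨0, 1, 0, 0, 0, 0, 0⟩, ⟨0, 0, 1, 0, 0, 0, 0⟩, ⟨0, 0, 0, 1, 0, 0, 0⟩,
    ⟨0, 0, 0, 0, 1, 0, 0⟩, ⟨0, 0, 0, 0, 0, 1, 0⟩, ⟨0, 0, 0, 0, 0, 0, 1⟩]

theorem single_mem (i : Ix) : ofFun (Pi.single i 1) ∈ basis := by
  revert i; decide

/-- The kernel check that a word acts trivially. -/
def trivW (w : List (Fin 8)) : Bool := basis.all fun x => decide (actW w x = x)

theorem ev_eq_one {w : List (Fin 8)} (h : trivW w = true) : ev gen w = 1 := by
  apply mat_injective
  refine Matrix.ext_of_mulVec_single fun i => ?_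
  rw [mat_one, one_mulVec, ← toFun_ofFun (Pi.single i 1), mat_ev]
  have h1 := List.all_eq_true.1 h _ (single_mem i)
  rw [of_decide_eq_true h1]

theorem cox_check : ∀ i j : Fin 8, trivW (rep (lab i j) [i, j]) = true := by decide +kernel

theorem spider_check : trivW (rep 10 spider) = true := by decide +kernel

theorem e7_check : trivW (rep 9 [0, 1, 2, 3, 4, 5, 6]) = true := by decide +kernel

theorem gen_liftable : M8.IsLiftable gen := by
  intro i j
  have h := ev_eq_one (cox_check i j)
  rw [ev_rep, ev_cons, ev_cons, ev_nil, mul_one] at h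
  exact h

theorem gen_spider : ev gen spider ^ 10 = 1 := by
  rw [← ev_rep]; exact ev_eq_one spider_check

theorem gen_e7 : ev gen [0, 1, 2, 3, 4, 5, 6] ^ 9 = 1 := by
  rw [← ev_rep]; exact ev_eq_one e7_check

/-! ### All the `- r_v`, `Q v = -1`, are products of the eight -/

/-- The code of a tuple. -/
def V7.code (v : V7) : ℕ :=
  v.a.val + 3 * (v.b.val + 3 * (v.c.val + 3 * (v.d.val + 3 * (v.e.val + 3 * (v.f.val + 3 * v.g.val)))))

/-- Table of ranks and generators. -/
def tab : ℕ := 0xa53f0000007b62830000008400000000004a0000005b7e004f4b0000004600000000008a0000008a7c000000009eae0000007300004f000000817300000000268c0000007a9252000000ae0000007c360000000000007c00009d56830000000000000000006e6d770000001b78780000000000000000007b7b7b00a3a50000000000007b0000000000697974003f950000000000008d00009492610000000000004f00003900008d0000000000000000003c67005a6e006c32000000000000000000003a3f003f3e008c8d0000006a0000700000094c35008146002f850000003a00003f00008c0000000000000000005e7b0000008c000000000000853f0000007d00005e000000646e00000083000000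8384007171000000230000000000009c9d000000830000002a94000000730000800000008e850096600000009b0000000000955a8b000000009c310000000000006b00000000005f63760000000000008282820000003e434700000000a5a40000000000007b378d000000000000850000000000438673000000a492620000000000000000000000000000004f00003e00007c527600455c00753f003637004742009495000000000000000000000000690000620000100000360000470000848056005f24001e84000000000000000000000000430000006382000000620000006c720000005f000000436f0000000096a50000007a00000094950000008a000000adab000000738b4e000000a50000008e6800000093000000a661000000ab000000000000000072757f000000000000576b7a0000000000005e4d63009d9c000000000000829d9c00000000000082a6a60000000000006b00008c8b690000000000009c8b5e000000000000a6a17000000000345f00567200742e004e7a003d54007d37005c6600656f0054460000006600007800001200007100005e00001a00007800007100000000000000000000000000000000000000000000000000000000000047430000003e000000000082000000828400000000a4a50000007b000000319c0000006b8b5a0000009500000000005f0000007663000000430000007386000000008d3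7000000856292000000a40000000000237171000000000000000000838383009d9c000000000000833f850000000000007d00008c7b5e0000000000000000005e6e6400000000000080858e00942a0000000000007300009b60960000000000000000000000000042470037360094950000006200006900001000003e00004f00007c0000000000000000005c45007652003f7500245f00568000841e0000004700003600008400000000000000000000007b0000007b7b0078780000001b000000000000a4a50000007b83560000009d000000000000367c0000007c00006e000000776d00000000953f0000008b00006900000074790061920000009400000000000000008a7c8d000000464b4f00000000ad9e000000000000730000848362000000003fa50000000000007b00000000004a7e5b008c260000000000007a00000000004f7381000000ad5292000000003e3f003f3a008d8c0000000000000000000000007000006a00000900000000000000000000003900004f00008d6e5a00673c00326c0000003f00003a00008c468100354c00852f000000000000000000000000009c9d000000820000009d9b00000082000000a6a60000006b0000570000007a6b000000720000007f750000005e000000634d005e8b0000009c000000698b0000008c00000070a1000000a600000095940000000000008aa5960000000000007aaeae00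000000000073000000000062726c0000000000004382630000000000005f6f4300000093688e000000000000a54e8b000000000000ae61a60000000000005e00007100001a000078000066000012000071000078000000543d007a4e00377d007256005f34002e74006f6500665c00465400000000000000000000000000000000000000000000000000000000000057000000887b000000002e84000000849a5a000000a600000000003b0000006b8900000000952f0000008a5a8a0000009c0000000000730000007373000000008c8d0000008657520000004a000000000000000070807c00379d0000000000008300009c9a68000000000000000000797d87008c320000000000007b0000a3599a0000000000000000009374850095940000000000008a000032666600000000542d00884e00278d000000320000470000950000000000000000002c57004e79007c260000004f00002e00008c00000000000000000046470047410085840000006a000066000021000000000000000000000000328c0000007b000079000000877d009a59000000a50000000000009d37000000830000700000007c8000689a0000009c00000000000094950000008a0000930000008574006666000000320000002f950000000000008d00000000003b896b0000009c8a5a00000000842e000000000000820000000000577b88000000a65a9a000000008d8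c0000000000008600000000007373730000004a52570000000000002e00004f00008c794e00572c00267c000000000000000000000000470000320000944e88002d54008d270000000000000000000000006600006a00002141470047460084850000000000000000000093560000009e00000093610000009b0000009e68000000a3000000568300000094000000709300000094000000699e000000ae0000004f4b000000460000006a6a0000002b0000005667000000530000000000949370000000000000948356000000000000ac9e690000000000009d61930000000000009e5693000000000000a3689e0000000000002b6a6a000000000000464b4f00000000000053675600000000000000000000000000000000000000000000000000000000000000000000000000000000000000000000000000000000000000000000000000000000000000000000000000000000000000000000000000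

/-- The table entry. -/
def V7.entry (v : V7) : ℕ := (tab >>> (8 * v.code)) % 256

/-- The rank. -/
def V7.rk (v : V7) : ℕ := v.entry / 8

/-- The generator. -/
def V7.nx (v : V7) : Fin 8 := Fin.ofNat 8 (v.entry % 8)

/-- The local check. -/
def V7.chk (v : V7) : Bool :=
  !(decide (v.q = -1)) || (decide (v = root 0) || decide (v = ⟨-(root 0).a, -(root 0).b, -(root 0).c, -(root 0).d,
    -(root 0).e, -(root 0).f, -(root 0).g⟩)) || Nat.blt (((root v.nx).act v).rk) v.rk

theorem chk_all : ∀ a b c d e f g : Fin 3, (V7.chk ⟨a, b, c, d, e, f, g⟩) = true := by decide +kernel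

theorem chk_V7 (v : V7) : v.chk = true := chk_all v.a v.b v.c v.d v.e v.f v.g

/-- The subgroup generated by the eight elements. -/
def J : Subgroup (isometryGroup (ZMod 3) Q) := Subgroup.closure (Set.range gen)

theorem gen_mem (k : Fin 8) : gen k ∈ J := Subgroup.subset_closure ⟨k, rfl⟩

theorem mO_mem_aux : ∀ (n : ℕ) (v : V7) (hv : Q v.toFun = -1), v.rk = n → mO v.toFun hv ∈ J := by
  intro n
  induction n using Nat.strong_induction_on with
  | _ n ih =>
    intro v hv hn
    have hc := chk_V7 v
    have hq : v.q = -1 := by rw [← Q_toFun]; exact hv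
    rw [V7.chk, decide_eq_true hq, Bool.not_true, Bool.false_or, Bool.or_eq_true, Bool.or_eq_true,
      decide_eq_true_eq, decide_eq_true_eq] at hc
    rcases hc with (hc | hc) | hc
    · rw [mO_congr hv ((Q_toFun _).trans (root_q 0)) (Or.inl (by rw [hc]))]
      exact gen_mem 0
    · rw [mO_congr hv ((Q_toFun _).trans (root_q 0)) (Or.inr ?_)]
      · exact gen_mem 0
      · rw [hc]
        funext i
        rcases i with ⟨⟩ | i | i
        · rfl
        · fin_cases i <;> rfl
        · fin_cases i <;> rfl
    · have hlt : ((root v.nx).act v).rk < n := by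
        rw [← hn]; exact Nat.blt_eq.mp hc
      have hQ : Q ((root v.nx).act v).toFun = -1 := by
        rw [← mM_toFun, Q_mM _ _ ((Q_toFun _).trans (root_q _)), hv]
      have h1 := ih _ hlt _ hQ rfl
      have h2 := conj_mO (gen v.nx) _ hQ
      have h3 : mat (gen v.nx) *ᵥ ((root v.nx).act v).toFun = v.toFun := by
        rw [← mM_toFun, gen, mat_mO, mulVec_mulVec, mM_mul_self _ ((Q_toFun _).trans (root_q _)), one_mulVec]
      rw [mO_congr hv ((Q_mat (gen v.nx) _).trans hQ) (Or.inl h3.symm), ← h2]
      exact J.mul_mem (J.mul_mem (gen_mem _) h1) (J.inv_mem (gen_mem _))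

theorem mO_mem (v : Ix → ZMod 3) (hv : Q v = -1) : mO v hv ∈ J := by
  have h : (ofFun v).toFun = v := toFun_ofFun v
  have h1 : Q (ofFun v).toFun = -1 := by rw [h]; exact hv
  rw [mO_congr hv h1 (Or.inl h.symm)]
  exact mO_mem_aux _ _ _ rfl

/-- The subgroup generated by the eight elements is normal in the isometry group. -/
theorem J_normal : J.Normal := by
  refine ⟨fun x hx g => ?_⟩
  have h : ∀ k, g * gen k * g⁻¹ ∈ J := fun k => by
    rw [gen, conj_mO]; exact mO_mem _ _
  induction hx using Subgroup.closure_induction with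
  | mem x hx => obtain ⟨k, rfl⟩ := hx; exact h k
  | one => simp
  | mul x y _ _ hx hy =>
    have : g * (x * y) * g⁻¹ = (g * x * g⁻¹) * (g * y * g⁻¹) := by group
    rw [this]; exact J.mul_mem hx hy
  | inv x _ hx =>
    have : g * x⁻¹ * g⁻¹ = (g * x * g⁻¹)⁻¹ := by group
    rw [this]; exact J.inv_mem hx

end Cfsg.Agent.Fischer.O73
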