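import Cfsg.Agent.Fischer.Unit22
import Cfsg.Agent.S0280
import Cfsg.Prelude.Def_Sporadic

/-!
# Fi22: order and final form
-/

set_option autoImplicit false

namespace Cfsg.Agent.Fischer.Order22

open Cfsg Cfsg.Agent.Fischer.Abstract Cfsg.Agent.Fischer.Centralizer
  Cfsg.Agent.Fischer.Group22 Cfsg.Agent.Fischer.Rank22 Cfsg.Agent.SporRec.GF4

theorem card_PSU : Nat.card (PSU 6 F4 2) = 9196830720 := by
  have h := Cfsg.Agent.S0280.result (F := F4) (q := 2) rfl 6 (by norm_num)
  have e1 : Nat.gcd 6 (2 + 1) = 3 := by decide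
  have e2 : (2 : ℕ) ^ (6 * (6 - 1) / 2) * ∏ i ∈ Finset.range 6,
      (if Even i then 2 ^ (i + 1) + 1 else 2 ^ (i + 1) - 1) = 82771476480 := by
    simp only [Finset.prod_range_succ, Finset.prod_range_zero]
    rw [if_pos (by decide), if_neg (by decide), if_pos (by decide), if_neg (by decide),
      if_pos (by decide), if_neg (by decide)]
    norm_num
  rw [e1, e2] at h
  omega

theorem card_C : Nat.card (C R) = 18393661440 := by
  rw [card_of_doubleCover Unit22.isNonsplitDoubleCover_C, card_PSU]

theorem card_G : Nat.card G = 64561751654400 := by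
  rw [Even22.card_G, card_C]

theorem isFi22 : IsFi22 G := ⟨Even22.isSimpleGroup, card_G⟩

/-- Fi22 as a 3-transposition group. -/
theorem main : ∃ (G : Type) (_ : Group G) (_ : Finite G), IsFi22 G ∧ ∃ D : Set G,
    IsThreeTranspositionClass D ∧ Nat.card D = 3510 ∧ ∀ d ∈ D, ∃ (F : Type) (_ : Field F)
      (_ : Fintype F), Fintype.card F = 4 ∧
      IsNonsplitDoubleCover (Subgroup.centralizer ({d} : Set G)) (PSU 6 F 2) := by
  refine ⟨G, inferInstance, inferInstance, isFi22, Set.range R.t, Even22.isThreeTranspositionClass,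
    Even22.card_D, ?_⟩
  intro d hd
  exact ⟨F4, inferInstance, inferInstance, rfl,
    isNonsplitDoubleCover_all R Unit22.isNonsplitDoubleCover_C d hd⟩

end Cfsg.Agent.Fischer.Order22
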