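import Cfsg.Agent.Fischer.Group22

/-!
# Fi22: rank three data
-/

set_option autoImplicit false

namespace Cfsg.Agent.Fischer.Rank22

open Cfsg Cfsg.Agent.Fischer.Cert Cfsg.Agent.Fischer.Data22 Cfsg.Agent.Fischer.Check22
  Cfsg.Agent.Fischer.Abstract Cfsg.Agent.Fischer.Group22

/-- a point from a number -/
def pt (n : ℕ) (h : n < 3510) : X := ⟨n, h⟩

theorem pt_val (n : ℕ) (h : n < 3510) : ((pt n h : X) : ℕ) = n := rfl

/-! ### relations -/

theorem mem_base_of_decide {r : List Gen} (h : decide (r ∈ base) = true) : r ∈ base :=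
  of_decide_eq_true h

theorem comm_of_mem {p q : Gen} (h : [p, q, p, q] ∈ base) : g p * g q = g q * g p := by
  have h1 := isRel_g _ h
  rw [isRel_def] at h1
  simp only [List.map_cons, List.map_nil, List.prod_cons, List.prod_nil, mul_one] at h1
  have h2 : (g p * g q) * (g p * g q) = 1 := by simpa [mul_assoc] using h1
  have h3 : (g p * g q)⁻¹ = g p * g q := inv_eq_of_mul_eq_one_left h2
  rw [mul_inv_rev, g_inv, g_inv] at h3
  exact h3.symm

theorem braid_of_mem {p q : Gen} (h : [p, q, p, q, p, q] ∈ base) :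
    g p * g q * g p = g q * g p * g q := by
  have h1 := isRel_g _ h
  rw [isRel_def] at h1
  simp only [List.map_cons, List.map_nil, List.prod_cons, List.prod_nil, mul_one] at h1
  have h2 : (g p * g q * g p) * (g q * g p * g q) = 1 := by simpa [mul_assoc] using h1
  have h3 : (g q * g p * g q)⁻¹ = g p * g q * g p := inv_eq_of_mul_eq_one_left h2
  rw [mul_inv_rev, mul_inv_rev, g_inv, g_inv, ← mul_assoc] at h3
  exact h3.symm

theorem comm_a (s : Gen) (hs : isH s = true) : g .a * g s = g s * g .a := by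
  cases s
  · rfl
  · exact absurd hs (by decide)
  all_goals exact comm_of_mem (mem_base_of_decide (by decide +kernel))

theorem comm_a_of_mem {k : G} (hk : k ∈ H1) : g .a * k = k * g .a := by
  have : H1 ≤ Subgroup.centralizer ({g .a} : Set G) := by
    apply H1_le
    intro s hs
    rw [Subgroup.mem_centralizer_singleton_iff]
    exact (comm_a s hs).symm
  exact (Subgroup.mem_centralizer_singleton_iff.1 (this hk)).symm

/-! ### transitivity -/

theorem trans : ∀ x : X, ∃ k : G, k • x0 = x := by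
  have : ∀ n : ℕ, ∀ h : n < 3510, ∃ k : G, k • x0 = pt n h := by
    intro n
    induction n using Nat.strong_induction_on with
    | _ n ih =>
    intro h
    by_cases h0 : n = 0
    · subst h0
      exact ⟨1, one_smul _ _⟩
    · obtain ⟨h1, h2⟩ := Data.tree_spec checked (z := n) h h0
      obtain ⟨k, hk⟩ := ih (D.par n) h1 (lt_trans h1 h)
      refine ⟨g (D.ps n) * k, ?_⟩
      rw [mul_smul, hk]
      apply Fin.ext
      exact h2
  intro x
  exact this x.1 x.2

theorem treeH_spec {z : ℕ} (hz : z < 3510) (h0 : z ≠ 0) (h1 : z ≠ 1) (h2 : z ≠ 2817) :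
    isH (ps z) = true ∧ ((z ≤ 2816 → 1 ≤ par z) ∧ (2816 < z → 2817 ≤ par z)) := by
  have h := allGrid_spec treeH z hz
  unfold treeHCheck at h
  have e0 : Nat.beq z 0 = false := by
    rw [← Bool.not_eq_true]; exact fun hc => h0 (Nat.eq_of_beq_eq_true hc)
  have e1 : Nat.beq z 1 = false := by
    rw [← Bool.not_eq_true]; exact fun hc => h1 (Nat.eq_of_beq_eq_true hc)
  have e2 : Nat.beq z 2817 = false := by
    rw [← Bool.not_eq_true]; exact fun hc => h2 (Nat.eq_of_beq_eq_true hc)
  rw [e0, e1, e2] at h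
  have h3 : band (isH (ps z)) (bite (Nat.ble z 2816) (Nat.ble 1 (par z)) (Nat.ble 2817 (par z)))
      = true := h
  obtain ⟨h4, h5⟩ := band_eq.1 h3
  refine ⟨h4, ?_, ?_⟩
  · intro hz'
    rw [Nat.ble_eq_true_of_le hz'] at h5
    exact Nat.le_of_ble_eq_true h5
  · intro hz'
    have : Nat.ble z 2816 = false := by
      rw [← Bool.not_eq_true]
      intro hc
      have := Nat.le_of_ble_eq_true hc
      omega
    rw [this] at h5
    exact Nat.le_of_ble_eq_true h5

theorem g_mem_H1 {s : Gen} (hs : isH s = true) : g s ∈ H1 := Subgroup.subset_closure ⟨s, hs, rfl⟩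

theorem pts_spec : nx .a (nx .b 0) = 2 ∧ nx .b (nx .c 2) = 2817 ∧ nx .c (nx .d 2817) = 2819 ∧
    nx .d (nx .e 2819) = 2827 ∧ nx .d (nx .h 2819) = 2830 ∧ nx .e (nx .f 2827) = 2854 ∧
    nx .f (nx .g 2854) = 2922 ∧ nx .h (nx .i 2830) = 2863 ∧ nx .f (nx .l 2854) = 2924 ∧
    nx .b 0 = 1 ∧ nx .a 1 = 2 := by
  have h := pts
  unfold ptsCheck at h
  simp only [band_eq] at h
  obtain ⟨h1, h2, h3, h4, h5, h6, h7, h8, h9, h10, h11⟩ := h
  exact ⟨Nat.eq_of_beq_eq_true h1, Nat.eq_of_beq_eq_true h2, Nat.eq_of_beq_eq_true h3,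
    Nat.eq_of_beq_eq_true h4, Nat.eq_of_beq_eq_true h5, Nat.eq_of_beq_eq_true h6,
    Nat.eq_of_beq_eq_true h7, Nat.eq_of_beq_eq_true h8, Nat.eq_of_beq_eq_true h9,
    Nat.eq_of_beq_eq_true h10, Nat.eq_of_beq_eq_true h11⟩

theorem orbit_low : ∀ n : ℕ, ∀ h : n < 3510, 1 ≤ n → n ≤ 2816 →
    ∃ k ∈ H1, k • (pt 1 (by decide) : X) = pt n h := by
  intro n
  induction n using Nat.strong_induction_on with
  | _ n ih =>
  intro h h1 h2
  by_cases h3 : n = 1
  · subst h3
    exact ⟨1, H1.one_mem, one_smul _ _⟩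
  · obtain ⟨hH, hl, _⟩ := treeH_spec h (by omega) h3 (by omega)
    obtain ⟨h4, h5⟩ := Data.tree_spec checked (z := n) h (by omega)
    have h4' : par n < n := h4
    obtain ⟨k, hk, hk'⟩ := ih (par n) h4 (lt_trans h4 h) (hl h2) (by omega)
    refine ⟨g (ps n) * k, H1.mul_mem (g_mem_H1 hH) hk, ?_⟩
    rw [mul_smul, hk']
    apply Fin.ext
    exact h5

theorem orbit_high : ∀ n : ℕ, ∀ h : n < 3510, 2817 ≤ n →
    ∃ k ∈ H1, k • (pt 2817 (by decide) : X) = pt n h := by
  intro n
  induction n using Nat.strong_induction_on with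
  | _ n ih =>
  intro h h1
  by_cases h3 : n = 2817
  · subst h3
    exact ⟨1, H1.one_mem, one_smul _ _⟩
  · obtain ⟨hH, _, hl⟩ := treeH_spec h (by omega) (by omega) h3
    obtain ⟨h4, h5⟩ := Data.tree_spec checked (z := n) h (by omega)
    have h4' : par n < n := h4
    obtain ⟨k, hk, hk'⟩ := ih (par n) h4 (lt_trans h4 h) (hl (by omega))
    refine ⟨g (ps n) * k, H1.mul_mem (g_mem_H1 hH) hk, ?_⟩
    rw [mul_smul, hk']
    apply Fin.ext
    exact h5

/-! ### the class -/

/-- the transposition of a point -/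
noncomputable def t (x : X) : G := (trans x).choose * g .a * ((trans x).choose)⁻¹

theorem t_smul_x0 (k : G) : t (k • x0) = k * g .a * k⁻¹ := by
  unfold t
  have h := (trans (k • x0)).choose_spec
  set m := (trans (k • x0)).choose
  have h1 : k⁻¹ * m ∈ H1 := by
    apply mem_H1_of_fix
    rw [mul_smul, h, inv_smul_smul]
  have h2 := comm_a_of_mem h1
  have h3 : m = k * (k⁻¹ * m) := by group
  rw [h3]
  calc k * (k⁻¹ * m) * g .a * (k * (k⁻¹ * m))⁻¹
      = k * ((k⁻¹ * m) * g .a) * (k⁻¹ * m)⁻¹ * k⁻¹ := by group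
    _ = k * (g .a * (k⁻¹ * m)) * (k⁻¹ * m)⁻¹ * k⁻¹ := by rw [h2]
    _ = k * g .a * k⁻¹ := by group

theorem t_smul (k : G) (x : X) : t (k • x) = k * t x * k⁻¹ := by
  obtain ⟨m, rfl⟩ := trans x
  rw [← mul_smul, t_smul_x0, t_smul_x0]
  group

theorem t_x0 : t x0 = g .a := by
  have := t_smul_x0 1
  simpa using this

theorem t_step {p q : Gen} {x y : X} (hx : t x = g p) (hb : [p, q, p, q, p, q] ∈ base)
    (hy : nx p (nx q x) = y) : t y = g q := by
  have e : y = (g p * g q) • x := by
    apply Fin.ext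
    rw [mul_smul]
    exact hy.symm
  rw [e, t_smul, hx]
  have h := braid_of_mem hb
  calc g p * g q * g p * (g p * g q)⁻¹ = (g p * g q * g p) * (g q)⁻¹ * (g p)⁻¹ := by group
    _ = (g q * g p * g q) * (g q)⁻¹ * (g p)⁻¹ := by rw [h]
    _ = g q := by group

/-- the point of a generator -/
def pg (s : Gen) : X :=
  match s with
  | .a => pt 0 (by decide)
  | .b => pt 2 (by decide)
  | .c => pt 2817 (by decide)
  | .d => pt 2819 (by decide)
  | .e => pt 2827 (by decide)
  | .f => pt 2854 (by decide)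
  | .g => pt 2922 (by decide)
  | .h => pt 2830 (by decide)
  | .i => pt 2863 (by decide)
  | .l => pt 2924 (by decide)

theorem t_pg (s : Gen) : t (pg s) = g s := by
  obtain ⟨h1, h2, h3, h4, h5, h6, h7, h8, h9, _, _⟩ := pts_spec
  have ha : t (pg .a) = g .a := t_x0
  have hb : t (pg .b) = g .b := t_step ha (mem_base_of_decide (by decide +kernel)) h1
  have hc : t (pg .c) = g .c := t_step hb (mem_base_of_decide (by decide +kernel)) h2
  have hd : t (pg .d) = g .d := t_step hc (mem_base_of_decide (by decide +kernel)) h3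
  have he : t (pg .e) = g .e := t_step hd (mem_base_of_decide (by decide +kernel)) h4
  have hh : t (pg .h) = g .h := t_step hd (mem_base_of_decide (by decide +kernel)) h5
  have hf : t (pg .f) = g .f := t_step he (mem_base_of_decide (by decide +kernel)) h6
  have hg : t (pg .g) = g .g := t_step hf (mem_base_of_decide (by decide +kernel)) h7
  have hi : t (pg .i) = g .i := t_step hh (mem_base_of_decide (by decide +kernel)) h8
  have hl : t (pg .l) = g .l := t_step hf (mem_base_of_decide (by decide +kernel)) h9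
  cases s
  · exact ha
  · exact hb
  · exact hc
  · exact hd
  · exact he
  · exact hf
  · exact hg
  · exact hh
  · exact hi
  · exact hl

theorem closure_t : Subgroup.closure (Set.range t) = ⊤ := by
  rw [eq_top_iff, ← closure_g]
  apply Subgroup.closure_mono
  rintro _ ⟨s, rfl⟩
  exact ⟨pg s, t_pg s⟩

theorem nx_c_one : nx .c 1 ≠ 2 := by
  have : Nat.beq (nx .c 1) 2 = false := by decide +kernel
  intro h
  rw [h] at this
  exact absurd this (by decide)

/-- the rank three data of Fi22 -/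
noncomputable def R : Rank3 G X where
  t := t
  x0 := x0
  c := pg .c
  b := pg .b
  map_smul := t_smul
  trans := trans
  rank3 := by
    intro x
    by_cases h0 : x.1 = 0
    · left; exact Fin.ext h0
    · right
      by_cases h1 : x.1 ≤ 2816
      · right
        obtain ⟨k, hk, hk'⟩ := orbit_low x.1 x.2 (by omega) h1
        refine ⟨k * g .a, ?_, ?_⟩
        · rw [mul_smul, fix_of_mem_H1 (g_mem_H1 (s := .a) rfl), fix_of_mem_H1 hk]
        · rw [mul_smul]
          have : g .a • pg .b = (pt 1 (by decide) : X) := by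
            apply Fin.ext
            have h2 := pts_spec.2.2.2.2.2.2.2.2.2.2
            have h3 := nx_nx .a (x := 1) (by decide)
            rw [h2] at h3
            exact h3
          rw [this, hk']
          rfl
      · left
        obtain ⟨k, hk, hk'⟩ := orbit_high x.1 x.2 (by omega)
        exact ⟨k, fix_of_mem_H1 hk, hk'⟩
  sq := by rw [t_x0, g_sq]
  comm_c := by rw [t_x0, t_pg]; exact comm_a .c rfl
  ne_c := by
    rw [t_x0, t_pg]
    intro h
    apply nx_c_one
    have h1 : (g .c • (pt 1 (by decide) : X) : X) = g .a • (pt 1 (by decide) : X) := by rw [h]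
    have h2 := congrArg Fin.val h1
    rw [g_smul, g_smul, pt_val, pts_spec.2.2.2.2.2.2.2.2.2.2] at h2
    exact h2
  braid_b := by
    rw [t_x0, t_pg]
    exact braid_of_mem (mem_base_of_decide (by decide +kernel))
  ncomm_b := by
    rw [t_x0, t_pg]
    intro h
    have h1 : ((g .a * g .b) • x0 : X) = (g .b * g .a) • x0 := by rw [h]
    rw [mul_smul, mul_smul, fix_of_mem_H1 (g_mem_H1 (s := .a) rfl)] at h1
    have h2 := congrArg Fin.val h1
    rw [g_smul, g_smul] at h2
    have h3 : ((x0 : X) : ℕ) = 0 := rfl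
    rw [h3, pts_spec.1, pts_spec.2.2.2.2.2.2.2.2.2.1] at h2
    exact absurd h2 (by decide)
  gen := closure_t

theorem R_t (x : X) : R.t x = t x := rfl
theorem R_x0 : R.x0 = x0 := rfl
theorem R_b : R.b = pg .b := rfl
theorem R_c : R.c = pg .c := rfl
theorem pg_b_val : ((pg .b : X) : ℕ) = 2 := rfl
theorem x0_val : ((x0 : X) : ℕ) = 0 := rfl

theorem com_iff_nx (s : Gen) (y : X) : R.Com (pg s) y ↔ nx s y = y := by
  have h := R.t_smul_eq_iff (pg s) y
  rw [R_t, t_pg] at h
  rw [← h]
  constructor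
  · intro h; rw [← g_smul, h]
  · intro h; exact Fin.ext h

theorem com_of_mem {p q : Gen} (h : [p, q, p, q] ∈ base) : R.Com (pg p) (pg q) := by
  rw [Rank3.com_def, R_t, R_t, t_pg, t_pg]
  exact comm_of_mem h

theorem low_of_not_com {y : X} (h : ¬ R.Com R.x0 y) : y.1 ≤ 2816 := by
  by_contra hc
  apply h
  rw [R.com_x0_iff]
  right
  obtain ⟨k, hk, hk'⟩ := orbit_high y.1 y.2 (by omega)
  exact ⟨k, fix_of_mem_H1 hk, hk'⟩

theorem bite_true_imp {c r : Bool} (h : bite c r true = true) (hc : c = true) : r = true := by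
  rw [hc] at h; exact h

theorem sep_spec {y : ℕ} (hy : y ≤ 2816) (hd : nx .d y = y) (he : nx .e y = y) (hf : nx .f y = y)
    (hg : nx .g y = y) (hh : nx .h y = y) (hi : nx .i y = y) (hl : nx .l y = y) : y ≤ 2 := by
  have h := allGrid_spec sep y (lt_of_le_of_lt hy (by decide))
  unfold sepCheck at h
  have e : ∀ s, nx s y = y → Nat.beq (nx s y) y = true := by
    intro s hs; rw [hs]; exact Nat.beq_refl y
  have h1 := bite_true_imp h (e _ hd)
  have h2 := bite_true_imp h1 (e _ he)
  have h3 := bite_true_imp h2 (e _ hf)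
  have h4 := bite_true_imp h3 (e _ hg)
  have h5 := bite_true_imp h4 (e _ hh)
  have h6 := bite_true_imp h5 (e _ hi)
  have h7 := bite_true_imp h6 (e _ hl)
  exact Nat.le_of_ble_eq_true h7

theorem com_x0_pg {s : Gen} (hs : isH s = true) : R.Com R.x0 (pg s) := by
  rw [Rank3.com_def, R_t, R_t, R_x0, t_x0, t_pg]
  exact comm_a s hs

theorem R_sep : Centralizer.Sep R := by
  intro y hy hz
  have hlow := low_of_not_com hy
  have key : ∀ s, isH s = true → [Gen.b, s, Gen.b, s] ∈ base → nx s y = y := by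
    intro s hs hb
    rw [← com_iff_nx]
    have h1 : R.Com R.b (pg s) := by rw [R_b]; exact com_of_mem hb
    exact R.com_symm (hz (pg s) (com_x0_pg hs) h1)
  have h := sep_spec hlow (key .d rfl (mem_base_of_decide (by decide +kernel)))
    (key .e rfl (mem_base_of_decide (by decide +kernel)))
    (key .f rfl (mem_base_of_decide (by decide +kernel)))
    (key .g rfl (mem_base_of_decide (by decide +kernel)))
    (key .h rfl (mem_base_of_decide (by decide +kernel)))
    (key .i rfl (mem_base_of_decide (by decide +kernel)))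
    (key .l rfl (mem_base_of_decide (by decide +kernel)))
  have hne : y ≠ R.x0 := fun h => hy (by rw [h]; exact R.com_self _)
  have hne' : y.1 ≠ 0 := by
    intro h
    apply hne
    rw [R_x0]
    apply Fin.ext
    rw [h, x0_val]
  have h12 : y.1 = 1 ∨ y.1 = 2 := by omega
  rcases h12 with h1 | h2
  · right
    apply Fin.ext
    rw [h1]
    have h2 := pts_spec.2.2.2.2.2.2.2.2.2.2
    have h3 := nx_nx .a (x := 1) (by decide)
    rw [h2] at h3
    rw [R_t, R_x0, t_x0, R_b, g_smul, pg_b_val, h3]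
  · left
    rw [R_b]
    apply Fin.ext
    rw [h2, pg_b_val]

theorem R_genC : Centralizer.GenC R := by
  unfold Centralizer.GenC
  have h1 : Centralizer.C R = H1 := by
    rw [H1_eq]
    exact R.centralizer_eq_stabilizer R.x0
  rw [h1]
  apply H1_le
  intro s hs
  apply Subgroup.subset_closure
  exact ⟨pg s, com_x0_pg hs, by rw [R_t, t_pg]⟩

theorem R_z1 : ∃ z, R.Com R.x0 z ∧ z ≠ R.x0 ∧ R.Com R.b z ∧ z ≠ R.b := by
  refine ⟨pg .d, com_x0_pg rfl, ?_, ?_, ?_⟩
  · rw [R_x0]
    intro h
    exact absurd (congrArg Fin.val h) (by decide)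
  · rw [R_b]
    exact com_of_mem (p := .b) (mem_base_of_decide (by decide +kernel))
  · rw [R_b]
    intro h
    exact absurd (congrArg Fin.val h) (by decide)

theorem R_z2 : ∃ z, ¬ R.Com R.x0 z ∧ ¬ R.Com R.c z := by
  refine ⟨R.b, R.not_com_x0_b, ?_⟩
  intro h
  rw [R_b, R_c, com_iff_nx, pg_b_val] at h
  have : Nat.beq (nx .c 2) 2 = false := by decide +kernel
  rw [h] at this
  exact absurd this (by decide)

end Cfsg.Agent.Fischer.Rank22
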