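import Cfsg.Agent.Fischer.Abstract

/-!
# Normal subgroups of a rank three 3-transposition group
-/

set_option autoImplicit false

namespace Cfsg.Agent.Fischer.Simple

open Cfsg Cfsg.Agent.Fischer.Abstract

variable {G X : Type*} [Group G] [MulAction G X] (R : Rank3 G X)

/-- a normal subgroup not acting trivially is transitive -/
theorem transitive_of_normal (N : Subgroup G) [hN : N.Normal]
    (hne : ∃ n ∈ N, ∃ x : X, n • x ≠ x)
    (z1 : ∃ z, R.Com R.x0 z ∧ z ≠ R.x0 ∧ R.Com R.b z ∧ z ≠ R.b)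
    (z2 : ∃ z, ¬ R.Com R.x0 z ∧ ¬ R.Com R.c z) (x y : X) : ∃ n ∈ N, n • x = y := by
  -- the relation
  let r : X → X → Prop := fun x y => ∃ n ∈ N, n • x = y
  have rsymm : ∀ {x y}, r x y → r y x := by
    rintro x y ⟨n, hn, rfl⟩
    exact ⟨n⁻¹, N.inv_mem hn, by simp⟩
  have rtrans : ∀ {x y z}, r x y → r y z → r x z := by
    rintro x y z ⟨n, hn, rfl⟩ ⟨m, hm, rfl⟩
    exact ⟨m * n, N.mul_mem hm hn, by rw [mul_smul]⟩
  have rsmul : ∀ (g : G) {x y}, r x y → r (g • x) (g • y) := by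
    rintro g x y ⟨n, hn, rfl⟩
    exact ⟨g * n * g⁻¹, hN.conj_mem n hn g, by simp [mul_smul]⟩
  -- commuting pairs
  have hcom : r R.x0 R.c → ∀ u v, R.Com u v → r u v := by
    intro h0 u v huv
    obtain ⟨g, rfl⟩ := R.trans u
    obtain ⟨w, rfl⟩ : ∃ w, v = g • w := ⟨g⁻¹ • v, by simp⟩
    apply rsmul
    rw [R.com_smul] at huv
    rcases R.com_x0_iff.1 huv with rfl | ⟨h, hh, rfl⟩
    · exact ⟨1, N.one_mem, by simp⟩
    · have := rsmul h h0
      rwa [hh] at this
  have hncom : r R.x0 R.b → ∀ u v, ¬ R.Com u v → r u v := by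
    intro h0 u v huv
    obtain ⟨g, rfl⟩ := R.trans u
    obtain ⟨w, rfl⟩ : ∃ w, v = g • w := ⟨g⁻¹ • v, by simp⟩
    apply rsmul
    rw [R.com_smul] at huv
    obtain ⟨h, hh, rfl⟩ := R.not_com_x0_iff.1 huv
    have := rsmul h h0
    rwa [hh] at this
  -- something is related to x0
  obtain ⟨n, hn, u, hu⟩ := hne
  obtain ⟨g, rfl⟩ := R.trans u
  have h1 : r R.x0 (g⁻¹ • n • g • R.x0) := by
    have : r (g • R.x0) (n • g • R.x0) := ⟨n, hn, rfl⟩
    have := rsmul g⁻¹ this
    simpa using this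
  have h2 : g⁻¹ • n • g • R.x0 ≠ R.x0 := by
    intro h
    apply hu
    have := congrArg (fun z => g • z) h
    simpa using this
  have both : r R.x0 R.c ∧ r R.x0 R.b := by
    rcases R.rank3 (g⁻¹ • n • g • R.x0) with h0 | ⟨h, hh, hc⟩ | ⟨h, hh, hb⟩
    · exact absurd h0 h2
    · have hc' : r R.x0 R.c := by
        rw [← hc] at h1
        have := rsmul h⁻¹ h1
        rw [inv_smul_smul, inv_smul_eq_iff.2 hh.symm] at this
        exact this
      refine ⟨hc', ?_⟩
      obtain ⟨z, hz1, _, hz3, _⟩ := z1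
      exact rtrans (hcom hc' _ _ hz1) (hcom hc' _ _ (R.com_symm hz3))
    · have hb' : r R.x0 R.b := by
        rw [← hb] at h1
        have := rsmul h⁻¹ h1
        rw [inv_smul_smul, inv_smul_eq_iff.2 hh.symm] at this
        exact this
      refine ⟨?_, hb'⟩
      obtain ⟨z, hz1, hz2⟩ := z2
      exact rtrans (hncom hb' _ _ hz1) (rsymm (hncom hb' _ _ hz2))
  have all : ∀ x, r R.x0 x := by
    intro x
    by_cases hc : R.Com R.x0 x
    · exact hcom both.1 _ _ hc
    · exact hncom both.2 _ _ hc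
  exact rtrans (rsymm (all x)) (all y)

/-- products of transpositions which are all congruent to `t x0` modulo a normal subgroup -/
theorem mem_of_even (N : Subgroup G) [hN : N.Normal] (l : List X) (hl : Even l.length)
    (hprod : R.t R.x0 = (l.map R.t).prod) (hcong : ∀ x ∈ l, R.t x * (R.t R.x0)⁻¹ ∈ N) :
    R.t R.x0 ∈ N := by
  have key : ∀ l : List X, (∀ x ∈ l, R.t x * (R.t R.x0)⁻¹ ∈ N) →
      (QuotientGroup.mk' N) ((l.map R.t).prod) = (QuotientGroup.mk' N (R.t R.x0)) ^ l.length := by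
    intro l
    induction l with
    | nil => intro _; simp
    | cons x l ih =>
      intro h
      rw [List.map_cons, List.prod_cons, map_mul, ih (fun y hy => h y (List.mem_cons_of_mem _ hy)),
        List.length_cons, pow_succ']
      congr 1
      have := h x List.mem_cons_self
      rw [← QuotientGroup.eq_one_iff] at this
      rw [QuotientGroup.mk_mul, QuotientGroup.mk_inv, mul_inv_eq_one] at this
      exact this
  have h1 := key l hcong
  rw [← hprod] at h1
  obtain ⟨k, hk⟩ := hl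
  have h2 : (QuotientGroup.mk' N (R.t R.x0)) ^ l.length = 1 := by
    rw [hk, ← two_mul, pow_mul]
    have : (QuotientGroup.mk' N (R.t R.x0)) ^ 2 = 1 := by
      rw [← map_pow, pow_two, R.sq, map_one]
    rw [this, one_pow]
  rw [h2] at h1
  exact (QuotientGroup.eq_one_iff _).1 h1

/-- A normal subgroup not acting trivially is everything, if `t x0` is an even product. -/
theorem eq_top_of_normal (N : Subgroup G) [hN : N.Normal]
    (hne : ∃ n ∈ N, ∃ x : X, n • x ≠ x)
    (z1 : ∃ z, R.Com R.x0 z ∧ z ≠ R.x0 ∧ R.Com R.b z ∧ z ≠ R.b)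
    (z2 : ∃ z, ¬ R.Com R.x0 z ∧ ¬ R.Com R.c z)
    (l : List X) (hl : Even l.length) (hprod : R.t R.x0 = (l.map R.t).prod) : N = ⊤ := by
  have hcong : ∀ x, R.t x * (R.t R.x0)⁻¹ ∈ N := by
    intro x
    obtain ⟨n, hn, rfl⟩ := transitive_of_normal R N hne z1 z2 R.x0 x
    rw [R.map_smul]
    have : n * R.t R.x0 * n⁻¹ * (R.t R.x0)⁻¹ = n * (R.t R.x0 * n⁻¹ * (R.t R.x0)⁻¹) := by group
    rw [this]
    exact N.mul_mem hn (hN.conj_mem _ (N.inv_mem hn) _)
  have h0 : R.t R.x0 ∈ N := mem_of_even R N l hl hprod (fun x _ => hcong x)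
  rw [eq_top_iff, ← R.gen, Subgroup.closure_le]
  rintro _ ⟨x, rfl⟩
  have := N.mul_mem (hcong x) h0
  simpa using this

theorem isSimpleGroup [FaithfulSMul G X]
    (z1 : ∃ z, R.Com R.x0 z ∧ z ≠ R.x0 ∧ R.Com R.b z ∧ z ≠ R.b)
    (z2 : ∃ z, ¬ R.Com R.x0 z ∧ ¬ R.Com R.c z)
    (l : List X) (hl : Even l.length) (hprod : R.t R.x0 = (l.map R.t).prod) : IsSimpleGroup G := by
  have : Nontrivial G := ⟨⟨R.t R.x0, 1, R.t_x0_ne_one⟩⟩
  refine ⟨fun N hN => ?_⟩
  by_cases h : ∃ n ∈ N, ∃ x : X, n • x ≠ x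
  · right
    exact eq_top_of_normal R N h z1 z2 l hl hprod
  · left
    push Not at h
    rw [eq_bot_iff]
    intro n hn
    rw [Subgroup.mem_bot]
    apply FaithfulSMul.eq_of_smul_eq_smul (α := X)
    intro x
    rw [h n hn x, one_smul]

include R in
/-- elements acting trivially on `X` are exactly the central ones -/
theorem mem_center_iff (g : G) : g ∈ Subgroup.center G ↔ ∀ x : X, g • x = x := by
  constructor
  · intro hg x
    rw [R.smul_eq_iff_comm]
    exact (Subgroup.mem_center_iff.1 hg (R.t x)).symm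
  · intro h
    rw [Subgroup.mem_center_iff]
    intro k
    have hk : k ∈ Subgroup.closure (Set.range R.t) := by rw [R.gen]; trivial
    have : Subgroup.closure (Set.range R.t) ≤ Subgroup.centralizer {g} := by
      rw [Subgroup.closure_le]
      rintro _ ⟨x, rfl⟩
      rw [SetLike.mem_coe, Subgroup.mem_centralizer_singleton_iff]
      exact ((R.smul_eq_iff_comm g x).1 (h x)).symm
    have := this hk
    rw [Subgroup.mem_centralizer_singleton_iff] at this
    exact this

/-- version for groups with possibly non-trivial centre: proper normal subgroups are central -/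
theorem eq_top_or_le_center (N : Subgroup G) [hN : N.Normal]
    (z1 : ∃ z, R.Com R.x0 z ∧ z ≠ R.x0 ∧ R.Com R.b z ∧ z ≠ R.b)
    (z2 : ∃ z, ¬ R.Com R.x0 z ∧ ¬ R.Com R.c z)
    (l : List X) (hl : Even l.length) (hprod : R.t R.x0 = (l.map R.t).prod) :
    N = ⊤ ∨ N ≤ Subgroup.center G := by
  by_cases h : ∃ n ∈ N, ∃ x : X, n • x ≠ x
  · exact Or.inl (eq_top_of_normal R N h z1 z2 l hl hprod)
  · right
    push Not at h
    intro n hn
    rw [mem_center_iff R]
    exact h n hn

end Cfsg.Agent.Fischer.Simple
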