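import Cfsg.Agent.Fischer.RankThreeOfStab
import Cfsg.Agent.Fischer.Centralizer

/-!
# Rank three data from suborbit lengths of a coset action

If a subgroup `H` centralises an involution `z`, has suborbit lengths `1, a, b` (all different), and
`u z u⁻¹` commutes with `z`, `v z v⁻¹` braids with `z`, then the conjugates of `z` form a rank three class of
3-transpositions, indexed by the cosets of `H`.
-/

set_option autoImplicit false

namespace Cfsg.Agent.Fischer.SuborbitCover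

open Cfsg Cfsg.Agent.Fischer.Abstract

/-- Two cosets in different nontrivial `H`-orbits cover everything, when the suborbit lengths are `1, a, b`. -/
theorem cover {G : Type*} [Group G] (H : Subgroup G) {n a b : ℕ}
    (hn : H.index = n) (hab : n = 1 + a + b)
    (q₁ q₂ : G ⧸ H) (h₁ : (MulAction.orbit H q₁).ncard = a) (h₂ : (MulAction.orbit H q₂).ncard = b)
    (ha : 1 < a) (hb : 1 < b) (hne : a ≠ b)
    (x y : G ⧸ H) (hx : x ≠ ((1 : G) : G ⧸ H)) (hy : y ≠ ((1 : G) : G ⧸ H))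
    (hxy : y ∉ MulAction.orbit H x) (p : G ⧸ H) :
    p = ((1 : G) : G ⧸ H) ∨ p ∈ MulAction.orbit H x ∨ p ∈ MulAction.orbit H y := by
  classical
  have hfin : Finite (G ⧸ H) := by
    have : Nat.card (G ⧸ H) ≠ 0 := by
      rw [← Subgroup.index_eq_card, hn]; omega
    exact Nat.finite_of_card_ne_zero this
  have hcard : Nat.card (G ⧸ H) = 1 + a + b := by
    rw [← Subgroup.index_eq_card, hn, hab]
  set q₀ : G ⧸ H := ((1 : G) : G ⧸ H) with hq₀
  have h₀ : (MulAction.orbit H q₀) = {q₀} := by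
    ext x
    constructor
    · rintro ⟨h, rfl⟩
      change (((h : G) * 1 : G) : G ⧸ H) = ((1 : G) : G ⧸ H)
      rw [QuotientGroup.eq]
      simp
    · rintro rfl
      exact MulAction.mem_orbit_self _
  have hdisj : ∀ x y : G ⧸ H, (MulAction.orbit H x).ncard ≠ (MulAction.orbit H y).ncard →
      Disjoint (MulAction.orbit H x) (MulAction.orbit H y) := by
    intro x y hxy
    rw [Set.disjoint_left]
    intro z hz hz'
    apply hxy
    rw [← MulAction.orbit_eq_iff.2 hz, ← MulAction.orbit_eq_iff.2 hz']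
  have hn0 : (MulAction.orbit H q₀).ncard = 1 := by rw [h₀]; simp
  have d01 := hdisj q₀ q₁ (by omega)
  have d02 := hdisj q₀ q₂ (by omega)
  have d12 := hdisj q₁ q₂ (by omega)
  have hcov : (Set.univ : Set (G ⧸ H)) = MulAction.orbit H q₀ ∪ MulAction.orbit H q₁ ∪
      MulAction.orbit H q₂ := by
    symm
    apply Set.eq_of_subset_of_ncard_le (Set.subset_univ _)
    rw [Set.ncard_univ, hcard, Set.ncard_union_eq (Disjoint.union_left d02 d12),
      Set.ncard_union_eq d01, hn0, h₁, h₂]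
  have hmem : ∀ w : G ⧸ H, w ≠ q₀ → w ∈ MulAction.orbit H q₁ ∨ w ∈ MulAction.orbit H q₂ := by
    intro w hw
    have : w ∈ (Set.univ : Set (G ⧸ H)) := trivial
    rw [hcov, h₀] at this
    rcases this with (h | h) | h
    · exact absurd h hw
    · exact Or.inl h
    · exact Or.inr h
  by_cases hp : p = q₀
  · exact Or.inl hp
  right
  rcases hmem x hx with hx1 | hx2
  · have ex := MulAction.orbit_eq_iff.2 hx1
    rcases hmem y hy with hy1 | hy2
    · exact absurd (by rw [ex]; exact hy1) hxy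
    · have ey := MulAction.orbit_eq_iff.2 hy2
      rw [ex, ey]
      exact hmem p hp
  · have ex := MulAction.orbit_eq_iff.2 hx2
    rcases hmem y hy with hy1 | hy2
    · have ey := MulAction.orbit_eq_iff.2 hy1
      rw [ex, ey]
      exact (hmem p hp).symm
    · exact absurd (by rw [ex]; exact hy2) hxy

theorem smul_one_coset {G : Type*} [Group G] (H : Subgroup G) (g : G) :
    g • ((1 : G) : G ⧸ H) = (g : G ⧸ H) := by
  rw [MulAction.Quotient.smul_coe, smul_eq_mul, mul_one]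

theorem coset_eq_one_iff {G : Type*} [Group G] (H : Subgroup G) (g : G) :
    (g : G ⧸ H) = ((1 : G) : G ⧸ H) ↔ g ∈ H := by
  rw [eq_comm, QuotientGroup.eq]; simp

/-- Rank three data on the cosets of a subgroup centralising `z`. -/
theorem exists_rank3 {G : Type*} [Group G] (H : Subgroup G) {n a b : ℕ}
    (hn : H.index = n) (hab : n = 1 + a + b)
    (q₁ q₂ : G ⧸ H) (h₁ : (MulAction.orbit H q₁).ncard = a) (h₂ : (MulAction.orbit H q₂).ncard = b)
    (ha : 1 < a) (hb : 1 < b) (hne : a ≠ b)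
    (z u v : G) (hH : ∀ h ∈ H, h * z = z * h) (hz : z * z = 1)
    (hu : z * (u * z * u⁻¹) = (u * z * u⁻¹) * z) (hu' : u * z * u⁻¹ ≠ z)
    (hv : z * (v * z * v⁻¹) * z = (v * z * v⁻¹) * z * (v * z * v⁻¹))
    (hv' : z * (v * z * v⁻¹) ≠ (v * z * v⁻¹) * z)
    (hgen : Subgroup.normalClosure {z} = (⊤ : Subgroup G)) :
    ∃ R : Rank3 G (G ⧸ H), R.t R.x0 = z ∧ R.x0 = ((1 : G) : G ⧸ H) ∧ R.t R.c = u * z * u⁻¹ ∧
      R.t R.b = v * z * v⁻¹ := by
  have hstab : ∀ g : G, g • ((1 : G) : G ⧸ H) = ((1 : G) : G ⧸ H) → g * z = z * g := by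
    intro g hg
    rw [smul_one_coset, coset_eq_one_iff] at hg
    exact hH g hg
  have hux : (u : G ⧸ H) ≠ ((1 : G) : G ⧸ H) := by
    intro h
    rw [coset_eq_one_iff] at h
    apply hu'
    rw [hH u h]; group
  have hvx : (v : G ⧸ H) ≠ ((1 : G) : G ⧸ H) := by
    intro h
    rw [coset_eq_one_iff] at h
    apply hv'
    rw [hH v h]; group
  have hmem : ∀ k : G, k ∈ H ↔ k • ((1 : G) : G ⧸ H) = ((1 : G) : G ⧸ H) := by
    intro k; rw [smul_one_coset, coset_eq_one_iff]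
  have huv : (v : G ⧸ H) ∉ MulAction.orbit H (u : G ⧸ H) := by
    rintro ⟨⟨h, hh⟩, e⟩
    have e' : ((h * u : G) : G ⧸ H) = (v : G ⧸ H) := e
    rw [QuotientGroup.eq] at e'
    -- v = h u k with k ∈ H
    have hk := hH _ e'
    have e2 : v * z * v⁻¹ = h * (u * z * u⁻¹) * h⁻¹ := by
      have hv2 : v = h * u * ((h * u)⁻¹ * v) := by group
      calc v * z * v⁻¹ = h * u * ((h * u)⁻¹ * v * z) * ((h * u)⁻¹ * v)⁻¹ * (h * u)⁻¹ := by group
        _ = h * u * (z * ((h * u)⁻¹ * v)) * ((h * u)⁻¹ * v)⁻¹ * (h * u)⁻¹ := by rw [hk]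
        _ = h * (u * z * u⁻¹) * h⁻¹ := by group
    apply hv'
    rw [e2]
    have hz1 := hH h hh
    calc z * (h * (u * z * u⁻¹) * h⁻¹) = (z * h) * (u * z * u⁻¹) * h⁻¹ := by group
      _ = (h * z) * (u * z * u⁻¹) * h⁻¹ := by rw [hz1]
      _ = h * (z * (u * z * u⁻¹)) * h⁻¹ := by group
      _ = h * ((u * z * u⁻¹) * z) * h⁻¹ := by rw [hu]
      _ = h * (u * z * u⁻¹) * h⁻¹ * (h * z * h⁻¹) := by group
      _ = h * (u * z * u⁻¹) * h⁻¹ * z := by
        rw [hz1]; group
  have hc := cover H hn hab q₁ q₂ h₁ h₂ ha hb hne (u : G ⧸ H) (v : G ⧸ H) hux hvx huv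
  have htrans : ∀ x : G ⧸ H, ∃ g : G, g • ((1 : G) : G ⧸ H) = x := by
    intro x
    induction x using QuotientGroup.induction_on with
    | H g => exact ⟨g, smul_one_coset H g⟩
  have h3 : ∀ x : G ⧸ H, x = ((1 : G) : G ⧸ H) ∨
      (∃ h : G, h • ((1 : G) : G ⧸ H) = ((1 : G) : G ⧸ H) ∧ h • (u • ((1 : G) : G ⧸ H)) = x) ∨
      (∃ h : G, h • ((1 : G) : G ⧸ H) = ((1 : G) : G ⧸ H) ∧ h • (v • ((1 : G) : G ⧸ H)) = x) := by
    intro x
    rcases hc x with h | ⟨⟨h, hh⟩, e⟩ | ⟨⟨h, hh⟩, e⟩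
    · exact Or.inl h
    · right; left
      refine ⟨h, (hmem h).1 hh, ?_⟩
      rw [smul_one_coset H u]
      exact e
    · right; right
      refine ⟨h, (hmem h).1 hh, ?_⟩
      rw [smul_one_coset H v]
      exact e
  refine ⟨RankThreeOfStab.mk ((1 : G) : G ⧸ H) htrans z hstab u v h3 hz hu hu' hv hv' hgen, ?_, rfl,
    ?_, ?_⟩
  · show RankThreeOfStab.tr _ _ z ((1 : G) : G ⧸ H) = z
    rw [RankThreeOfStab.tr_eq _ _ z hstab 1 _ (one_smul _ _)]
    simp
  · exact RankThreeOfStab.tr_eq _ _ z hstab u _ rfl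
  · exact RankThreeOfStab.tr_eq _ _ z hstab v _ rfl

end Cfsg.Agent.Fischer.SuborbitCover
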