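import Cfsg.Agent.Fischer.TriDef

/-! Kernel checks: the word of length 63. -/

set_option autoImplicit false
set_option maxRecDepth 100000
set_option Elab.async false

namespace Cfsg.Agent.Fischer.TriChkE

open Cfsg.Agent.Fischer.Fi24RepLib Cfsg.Agent.Fischer.TriDef

theorem e0 : chkL 20 983040 0 T.relsE = true := by decide +kernel
theorem e1 : chkL 20 983040 1 T.relsE = true := by decide +kernel
theorem e2 : chkL 20 983040 2 T.relsE = true := by decide +kernel
theorem e3 : chkL 20 983040 3 T.relsE = true := by decide +kernel
theorem e4 : chkL 20 983040 4 T.relsE = true := by decide +kernel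
theorem e5 : chkL 20 983040 5 T.relsE = true := by decide +kernel
theorem e6 : chkL 20 983040 6 T.relsE = true := by decide +kernel
theorem e7 : chkL 20 983040 7 T.relsE = true := by decide +kernel
theorem e8 : chkL 20 983040 8 T.relsE = true := by decide +kernel
theorem e9 : chkL 20 983040 9 T.relsE = true := by decide +kernel
theorem e10 : chkL 20 983040 10 T.relsE = true := by decide +kernel
theorem e11 : chkL 20 983040 11 T.relsE = true := by decide +kernel
theorem e12 : chkL 20 983040 12 T.relsE = true := by decide +kernel
theorem e13 : chkL 20 983040 13 T.relsE = true := by decide +kernel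
theorem e14 : chkL 20 983040 14 T.relsE = true := by decide +kernel
theorem e15 : chkL 20 983040 15 T.relsE = true := by decide +kernel
theorem e16 : chkL 20 983040 16 T.relsE = true := by decide +kernel
theorem e17 : chkL 20 983040 17 T.relsE = true := by decide +kernel
theorem e18 : chkL 20 983040 18 T.relsE = true := by decide +kernel
theorem e19 : chkL 20 983040 19 T.relsE = true := by decide +kernel

end Cfsg.Agent.Fischer.TriChkE
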