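import Cfsg.Agent.Fischer.TriDef

/-! Kernel checks: the mixed relations of the generator i. -/

set_option autoImplicit false
set_option maxRecDepth 100000
set_option Elab.async false

namespace Cfsg.Agent.Fischer.TriChkI

open Cfsg.Agent.Fischer.Fi24RepLib Cfsg.Agent.Fischer.TriDef

theorem m0 : chkL 20 983040 0 (T.relsM .i) = true := by decide +kernel
theorem m1 : chkL 20 983040 1 (T.relsM .i) = true := by decide +kernel
theorem m2 : chkL 20 983040 2 (T.relsM .i) = true := by decide +kernel
theorem m3 : chkL 20 983040 3 (T.relsM .i) = true := by decide +kernel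
theorem m4 : chkL 20 983040 4 (T.relsM .i) = true := by decide +kernel
theorem m5 : chkL 20 983040 5 (T.relsM .i) = true := by decide +kernel
theorem m6 : chkL 20 983040 6 (T.relsM .i) = true := by decide +kernel
theorem m7 : chkL 20 983040 7 (T.relsM .i) = true := by decide +kernel
theorem m8 : chkL 20 983040 8 (T.relsM .i) = true := by decide +kernel
theorem m9 : chkL 20 983040 9 (T.relsM .i) = true := by decide +kernel
theorem m10 : chkL 20 983040 10 (T.relsM .i) = true := by decide +kernel
theorem m11 : chkL 20 983040 11 (T.relsM .i) = true := by decide +kernel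
theorem m12 : chkL 20 983040 12 (T.relsM .i) = true := by decide +kernel
theorem m13 : chkL 20 983040 13 (T.relsM .i) = true := by decide +kernel
theorem m14 : chkL 20 983040 14 (T.relsM .i) = true := by decide +kernel
theorem m15 : chkL 20 983040 15 (T.relsM .i) = true := by decide +kernel
theorem m16 : chkL 20 983040 16 (T.relsM .i) = true := by decide +kernel
theorem m17 : chkL 20 983040 17 (T.relsM .i) = true := by decide +kernel
theorem m18 : chkL 20 983040 18 (T.relsM .i) = true := by decide +kernel
theorem m19 : chkL 20 983040 19 (T.relsM .i) = true := by decide +kernel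

end Cfsg.Agent.Fischer.TriChkI
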