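import Cfsg.Agent.Fischer.TriDef

/-! Kernel checks: relations of generators of the same kind. -/

set_option autoImplicit false
set_option maxRecDepth 100000
set_option Elab.async false

namespace Cfsg.Agent.Fischer.TriChkS

open Cfsg.Agent.Fischer.Fi24RepLib Cfsg.Agent.Fischer.TriDef

theorem s0 : chkL 20 983040 0 T.relsS = true := by decide +kernel
theorem s1 : chkL 20 983040 1 T.relsS = true := by decide +kernel
theorem s2 : chkL 20 983040 2 T.relsS = true := by decide +kernel
theorem s3 : chkL 20 983040 3 T.relsS = true := by decide +kernel
theorem s4 : chkL 20 983040 4 T.relsS = true := by decide +kernel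
theorem s5 : chkL 20 983040 5 T.relsS = true := by decide +kernel
theorem s6 : chkL 20 983040 6 T.relsS = true := by decide +kernel
theorem s7 : chkL 20 983040 7 T.relsS = true := by decide +kernel
theorem s8 : chkL 20 983040 8 T.relsS = true := by decide +kernel
theorem s9 : chkL 20 983040 9 T.relsS = true := by decide +kernel
theorem s10 : chkL 20 983040 10 T.relsS = true := by decide +kernel
theorem s11 : chkL 20 983040 11 T.relsS = true := by decide +kernel
theorem s12 : chkL 20 983040 12 T.relsS = true := by decide +kernel
theorem s13 : chkL 20 983040 13 T.relsS = true := by decide +kernel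
theorem s14 : chkL 20 983040 14 T.relsS = true := by decide +kernel
theorem s15 : chkL 20 983040 15 T.relsS = true := by decide +kernel
theorem s16 : chkL 20 983040 16 T.relsS = true := by decide +kernel
theorem s17 : chkL 20 983040 17 T.relsS = true := by decide +kernel
theorem s18 : chkL 20 983040 18 T.relsS = true := by decide +kernel
theorem s19 : chkL 20 983040 19 T.relsS = true := by decide +kernel

end Cfsg.Agent.Fischer.TriChkS
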