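import Cfsg.Agent.Fischer.TriLev

/-! Kernel checks of the enumeration of the threefold cover: edges of the generator k. -/

set_option autoImplicit false
set_option maxRecDepth 100000
set_option Elab.async false

namespace Cfsg.Agent.Fischer.TriCovK

open Cfsg.Agent.Lib.PermNet Cfsg.Agent.SporRec.CosetBulk Cfsg.Agent.SporRec.CosetBulk2
  Cfsg.Agent.Fischer.TriTwo Cfsg.Agent.Fischer.TriSound Cfsg.Agent.Fischer.TriDef Cfsg.Agent.Fischer.TriLev
open Cfsg.Spor.Fi24 (Gen)

theorem cov : coverD (D (snd .k)) (TriLev.cov .k) = true := by decide +kernel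
theorem sym : mapApp (net .k) (lev .k) = lev .k := by decide +kernel
theorem dom : Nat.beq ((net .k).app (D (snd .k))) (D (snd .k)) = true := by decide +kernel

end Cfsg.Agent.Fischer.TriCovK
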