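import Cfsg.Agent.Fischer.Fi24RepDef
import Cfsg.Agent.Lib.PermNetOrbit

/-!
Permutations attached to the 12 generators `l, k, a, …, i` of the diagram `Y542`, where the generators
`a, c, e, g, h, l` act by networks in the first numbering and `b, d, f, j, i, k` in the second one, in general: kernel
checks of the Coxeter relations and of `(abcdefh)^9 = l`.
-/

set_option autoImplicit false
set_option maxRecDepth 100000
set_option linter.constructorNameAsVariable false
set_option linter.unusedSectionVars false

namespace Cfsg.Agent.Fischer.TriTwo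

open Cfsg.Agent.Lib.PermNet Cfsg.Agent.Fischer.Fi24RepLib
open Cfsg.Agent.Fischer.Fi24RepDef (fst adj rep c0 xy0 m0 g1 g2)
open Cfsg.Spor.Fi24 (Gen)

/-- Networks of the generators and the conversion networks. -/
structure Two where
  /-- the generators -/
  net : Gen → Net
  /-- from the second numbering to the first one -/
  pi : Net
  /-- from the first numbering to the second one -/
  pir : Net

variable (T : Two)

/-- All networks are well formed on `N` points. -/
structure Two.Ok (N : ℕ) : Prop where
  pi : T.pi.ok N = true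
  pir : T.pir.ok N = true
  net : ∀ x, (T.net x).ok N = true
  inv : T.pir.perm = T.pi.perm⁻¹

/-- The word of a generator. -/
noncomputable def Two.gw (x : Gen) : List Net := Bool.rec [T.pi, T.net x, T.pir] [T.net x] (fst x)

/-- The permutation of a generator. -/
noncomputable def Two.rho (x : Gen) : Equiv.Perm ℕ := wperm (T.gw x)

/-- The networks of a word in the generators; the second argument says whether we are in the second numbering. -/
noncomputable def Two.nw (l : List Gen) : Bool → List Net :=
  List.rec (motive := fun _ => Bool → List Net) (fun b => Bool.rec [] [T.pir] b)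
    (fun g _ ih b => Bool.rec
      (Bool.rec (T.pi :: T.net g :: ih true) (T.net g :: ih true) b)
      (Bool.rec (T.net g :: ih false) (T.pir :: T.net g :: ih false) b) (fst g)) l

variable {T} {N : ℕ}

theorem Two.Ok.wok (h : T.Ok N) (l : List Gen) (b : Bool) : WOk N (T.nw l b) := by
  induction l generalizing b with
  | nil =>
    cases b
    · exact WOk.nil _
    · exact WOk.cons h.pir (WOk.nil _)
  | cons g l ih =>
    show WOk N (Bool.rec
      (Bool.rec (T.pi :: T.net g :: T.nw l true) (T.net g :: T.nw l true) b)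
      (Bool.rec (T.net g :: T.nw l false) (T.pir :: T.net g :: T.nw l false) b) (fst g) : List Net)
    cases hf : fst g <;> cases b
    · exact WOk.cons h.pi (WOk.cons (h.net g) (ih _))
    · exact WOk.cons (h.net g) (ih _)
    · exact WOk.cons (h.net g) (ih _)
    · exact WOk.cons h.pir (WOk.cons (h.net g) (ih _))

theorem Two.rho_fst {x : Gen} (h : fst x = true) : T.rho x = (T.net x).perm := by
  unfold Two.rho Two.gw
  rw [h]
  simp

theorem Two.Ok.rho_snd (hT : T.Ok N) {x : Gen} (h : fst x = false) :
    T.rho x = T.pi.perm * (T.net x).perm * T.pi.perm⁻¹ := by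
  unfold Two.rho Two.gw
  rw [h]
  simp [hT.inv, mul_assoc]

theorem Two.Ok.wperm_nw (hT : T.Ok N) (l : List Gen) : wperm (T.nw l false) = (l.map T.rho).prod ∧
    wperm (T.nw l true) = T.pi.perm⁻¹ * (l.map T.rho).prod := by
  induction l with
  | nil =>
    refine ⟨rfl, ?_⟩
    show wperm [T.pir] = _
    simp [hT.inv]
  | cons g l ih =>
    obtain ⟨ih1, ih2⟩ := ih
    have e1 : T.nw (g :: l) false =
      (Bool.rec (T.pi :: T.net g :: T.nw l true) (T.net g :: T.nw l false) (fst g) : List Net) := rfl
    have e2 : T.nw (g :: l) true =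
      (Bool.rec (T.net g :: T.nw l true) (T.pir :: T.net g :: T.nw l false) (fst g) : List Net) := rfl
    rw [e1, e2, List.map_cons, List.prod_cons]
    cases hf : fst g
    · rw [hT.rho_snd hf]
      refine ⟨?_, ?_⟩
      · show wperm (T.pi :: T.net g :: T.nw l true) = _
        rw [wperm_cons, wperm_cons, ih2]; group
      · show wperm (T.net g :: T.nw l true) = _
        rw [wperm_cons, ih2]; group
    · rw [Two.rho_fst hf]
      refine ⟨?_, ?_⟩
      · show wperm (T.net g :: T.nw l false) = _
        rw [wperm_cons, ih1]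
      · show wperm (T.pir :: T.net g :: T.nw l false) = _
        rw [wperm_cons, wperm_cons, ih1, hT.inv]

variable (T)

/-- The mixed relations: commuting or braid. -/
noncomputable def Two.mixed (x y : Gen) : List Net × List Net :=
  Bool.rec ([T.net x, T.pi, T.net y, T.pir], [T.pi, T.net y, T.pir, T.net x])
    ([T.net x, T.pi, T.net y, T.pir, T.net x], [T.pi, T.net y, T.pir, T.net x, T.pi, T.net y, T.pir]) (adj x y)

/-- Commuting relations for generators of the same kind. -/
noncomputable def Two.same (x y : Gen) : List Net × List Net := ([T.net x, T.net y], [T.net y, T.net x])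

/-- Squares. -/
noncomputable def Two.sq (x : Gen) : List Net × List Net := ([T.net x, T.net x], [])

/-- The relations of generators of the same kind. -/
noncomputable def Two.relsS : List (List Net × List Net) :=
  g1.map T.sq ++ (g2.map T.sq ++ (g1.flatMap (fun x => g1.map (T.same x)) ++
    g2.flatMap (fun x => g2.map (T.same x))))

/-- The mixed relations of a generator `y` of the second kind. -/
noncomputable def Two.relsM (y : Gen) : List (List Net × List Net) := g1.map (fun x => T.mixed x y)

/-- The relations of the word of length 63. -/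
noncomputable def Two.relsE : List (List Net × List Net) :=
  [(T.nw (rep 9 xy0) false, T.nw [.l] false), (T.nw (m0 ++ c0) false, T.nw (xy0 ++ m0) false)]

/-- The kernel checks on all planes. -/
structure Two.Chk (k N : ℕ) : Prop where
  s : ∀ b < k, chkL k N b T.relsS = true
  m : ∀ y, fst y = false → ∀ b < k, chkL k N b (T.relsM y) = true
  e : ∀ b < k, chkL k N b T.relsE = true

variable {T} {k : ℕ}

theorem mem_g1 {x : Gen} (h : fst x = true) : x ∈ g1 := by
  revert h; cases x <;> decide

theorem mem_g2 {x : Gen} (h : fst x = false) : x ∈ g2 := by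
  revert h; cases x <;> decide

section
variable (hT : T.Ok N) (hN : N ≤ 2 ^ k) (hc : T.Chk k N)
include hT hN hc

theorem Two.Chk.eq_s {a : List Net × List Net} (ha : a ∈ T.relsS) (h1 : WOk N a.1) (h2 : WOk N a.2) :
    wperm a.1 = wperm a.2 :=
  wperm_eq_of_chk1 (k := k) (N := N) hN h1 h2 (fun b hb => chkL_spec (hc.s b hb) a ha)

theorem Two.Chk.eq_m {y : Gen} (hy : fst y = false) {a : List Net × List Net} (ha : a ∈ T.relsM y)
    (h1 : WOk N a.1) (h2 : WOk N a.2) : wperm a.1 = wperm a.2 :=
  wperm_eq_of_chk1 (k := k) (N := N) hN h1 h2 (fun b hb => chkL_spec (hc.m y hy b hb) a ha)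

theorem Two.Chk.eq_e {a : List Net × List Net} (ha : a ∈ T.relsE) (h1 : WOk N a.1) (h2 : WOk N a.2) :
    wperm a.1 = wperm a.2 :=
  wperm_eq_of_chk1 (k := k) (N := N) hN h1 h2 (fun b hb => chkL_spec (hc.e b hb) a ha)

theorem Two.Chk.wok2 (x y : Gen) : WOk N [T.net x, T.net y] :=
  WOk.cons (hT.net x) (WOk.cons (hT.net y) (WOk.nil _))

theorem Two.Chk.net_sq (x : Gen) : (T.net x).perm * (T.net x).perm = 1 := by
  have h : wperm [T.net x, T.net x] = wperm [] := by
    refine hc.eq_s hT hN (a := T.sq x) ?_ (hc.wok2 hT hN x x) (WOk.nil _)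
    unfold Two.relsS
    cases hx : fst x
    · exact List.mem_append_right _ (List.mem_append_left _ (List.mem_map_of_mem (mem_g2 hx)))
    · exact List.mem_append_left _ (List.mem_map_of_mem (mem_g1 hx))
  simpa using h

theorem Two.Chk.net_comm {x y : Gen} (h : fst x = fst y) :
    (T.net x).perm * (T.net y).perm = (T.net y).perm * (T.net x).perm := by
  have h : wperm [T.net x, T.net y] = wperm [T.net y, T.net x] := by
    refine hc.eq_s hT hN (a := T.same x y) ?_ (hc.wok2 hT hN x y) (hc.wok2 hT hN y x)
    unfold Two.relsS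
    cases hx : fst x
    · refine List.mem_append_right _ (List.mem_append_right _ (List.mem_append_right _
        (List.mem_flatMap.2 ⟨x, mem_g2 hx, List.mem_map_of_mem (mem_g2 ?_)⟩)))
      rw [← h, hx]
    · refine List.mem_append_right _ (List.mem_append_right _ (List.mem_append_left _
        (List.mem_flatMap.2 ⟨x, mem_g1 hx, List.mem_map_of_mem (mem_g1 ?_)⟩)))
      rw [← h, hx]
  simpa using h

theorem Two.Chk.rho_sq (x : Gen) : T.rho x * T.rho x = 1 := by
  cases hx : fst x
  · rw [hT.rho_snd hx]
    calc T.pi.perm * (T.net x).perm * T.pi.perm⁻¹ * (T.pi.perm * (T.net x).perm * T.pi.perm⁻¹)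
        = T.pi.perm * ((T.net x).perm * (T.net x).perm) * T.pi.perm⁻¹ := by group
      _ = 1 := by rw [hc.net_sq hT hN]; group
  · rw [Two.rho_fst hx]; exact hc.net_sq hT hN x

theorem Two.Chk.rho_comm_same {x y : Gen} (h : fst x = fst y) : T.rho x * T.rho y = T.rho y * T.rho x := by
  cases hx : fst x
  · have hy : fst y = false := by rw [← h, hx]
    rw [hT.rho_snd hx, hT.rho_snd hy]
    calc T.pi.perm * (T.net x).perm * T.pi.perm⁻¹ * (T.pi.perm * (T.net y).perm * T.pi.perm⁻¹)
        = T.pi.perm * ((T.net x).perm * (T.net y).perm) * T.pi.perm⁻¹ := by group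
      _ = T.pi.perm * ((T.net y).perm * (T.net x).perm) * T.pi.perm⁻¹ := by rw [hc.net_comm hT hN h]
      _ = _ := by group
  · have hy : fst y = true := by rw [← h, hx]
    rw [Two.rho_fst hx, Two.rho_fst hy]; exact hc.net_comm hT hN h

theorem Two.Chk.rho_comm_mixed {x y : Gen} (hx : fst x = true) (hy : fst y = false) (h : adj x y = false) :
    T.rho x * T.rho y = T.rho y * T.rho x := by
  have hm : T.mixed x y ∈ T.relsM y := List.mem_map_of_mem (f := fun x => T.mixed x y) (mem_g1 hx)
  have e : T.mixed x y = ([T.net x, T.pi, T.net y, T.pir], [T.pi, T.net y, T.pir, T.net x]) := by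
    unfold Two.mixed; rw [h]
  rw [e] at hm
  have h3 : WOk N [T.net x, T.pi, T.net y, T.pir] :=
    WOk.cons (hT.net x) (WOk.cons hT.pi (WOk.cons (hT.net y) (WOk.cons hT.pir (WOk.nil _))))
  have h4 : WOk N [T.pi, T.net y, T.pir, T.net x] :=
    WOk.cons hT.pi (WOk.cons (hT.net y) (WOk.cons hT.pir (WOk.cons (hT.net x) (WOk.nil _))))
  have h5 := hc.eq_m hT hN hy hm h3 h4
  simp only [wperm_cons, wperm_nil, mul_one, hT.inv] at h5
  rw [Two.rho_fst hx, hT.rho_snd hy]
  simpa [mul_assoc] using h5

theorem Two.Chk.rho_braid_mixed {x y : Gen} (hx : fst x = true) (hy : fst y = false) (h : adj x y = true) :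
    T.rho x * T.rho y * T.rho x = T.rho y * T.rho x * T.rho y := by
  have hm : T.mixed x y ∈ T.relsM y := List.mem_map_of_mem (f := fun x => T.mixed x y) (mem_g1 hx)
  have e : T.mixed x y = ([T.net x, T.pi, T.net y, T.pir, T.net x],
      [T.pi, T.net y, T.pir, T.net x, T.pi, T.net y, T.pir]) := by
    unfold Two.mixed; rw [h]
  rw [e] at hm
  have h3 : WOk N [T.net x, T.pi, T.net y, T.pir, T.net x] :=
    WOk.cons (hT.net x) (WOk.cons hT.pi (WOk.cons (hT.net y) (WOk.cons hT.pir (WOk.cons (hT.net x) (WOk.nil _)))))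
  have h4 : WOk N [T.pi, T.net y, T.pir, T.net x, T.pi, T.net y, T.pir] :=
    WOk.cons hT.pi (WOk.cons (hT.net y) (WOk.cons hT.pir (WOk.cons (hT.net x)
      (WOk.cons hT.pi (WOk.cons (hT.net y) (WOk.cons hT.pir (WOk.nil _)))))))
  have h5 := hc.eq_m hT hN hy hm h3 h4
  simp only [wperm_cons, wperm_nil, mul_one, hT.inv] at h5
  rw [Two.rho_fst hx, hT.rho_snd hy]
  simpa [mul_assoc] using h5

/-- Non-adjacent generators commute. -/
theorem Two.Chk.rho_comm {x y : Gen} (h : (adj x y || adj y x) = false) : T.rho x * T.rho y = T.rho y * T.rho x := by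
  rw [Bool.or_eq_false_iff] at h
  cases hx : fst x <;> cases hy : fst y
  · exact hc.rho_comm_same hT hN (by rw [hx, hy])
  · exact (hc.rho_comm_mixed hT hN hy hx h.2).symm
  · exact hc.rho_comm_mixed hT hN hx hy h.1
  · exact hc.rho_comm_same hT hN (by rw [hx, hy])

/-- Adjacent generators satisfy the braid relation. -/
theorem Two.Chk.rho_braid {x y : Gen} (h : (adj x y || adj y x) = true) :
    T.rho x * T.rho y * T.rho x = T.rho y * T.rho x * T.rho y := by
  have key : (fst x = true ∧ fst y = false ∧ adj x y = true) ∨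
      (fst y = true ∧ fst x = false ∧ adj y x = true) := by
    revert h; cases x <;> cases y <;> decide
  rcases key with ⟨h1, h2, h3⟩ | ⟨h1, h2, h3⟩
  · exact hc.rho_braid_mixed hT hN h1 h2 h3
  · exact (hc.rho_braid_mixed hT hN h1 h2 h3).symm

theorem Two.Chk.xy_pow : (xy0.map T.rho).prod ^ 9 = T.rho .l := by
  have h := hc.eq_e hT hN (a := (T.nw (rep 9 xy0) false, T.nw [.l] false)) (by unfold Two.relsE; simp)
    (hT.wok (rep 9 xy0) false) (hT.wok [.l] false)
  rw [(hT.wperm_nw _).1, (hT.wperm_nw _).1, Fi24RepDef.prod_rep] at h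
  simpa using h

theorem Two.Chk.m_c : (m0.map T.rho).prod * (c0.map T.rho).prod = (xy0.map T.rho).prod * (m0.map T.rho).prod := by
  have h := hc.eq_e hT hN (a := (T.nw (m0 ++ c0) false, T.nw (xy0 ++ m0) false)) (by unfold Two.relsE; simp)
    (hT.wok (m0 ++ c0) false) (hT.wok (xy0 ++ m0) false)
  rw [(hT.wperm_nw _).1, (hT.wperm_nw _).1, List.map_append, List.map_append, List.prod_append,
    List.prod_append] at h
  exact h

theorem Two.Chk.l_comm_m : T.rho .l * (m0.map T.rho).prod = (m0.map T.rho).prod * T.rho .l := by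
  have h : ∀ w : List Gen, (∀ x ∈ w, x ≠ .k) → T.rho .l * (w.map T.rho).prod = (w.map T.rho).prod * T.rho .l := by
    intro w hw
    induction w with
    | nil => simp
    | cons x w ih =>
      have hx : T.rho .l * T.rho x = T.rho x * T.rho .l := by
        refine hc.rho_comm hT hN ?_
        have hk := hw x List.mem_cons_self
        revert hk; cases x <;> decide
      rw [List.map_cons, List.prod_cons, ← mul_assoc, hx, mul_assoc, ih (fun y hy => hw y (List.mem_cons_of_mem _ hy)),
        mul_assoc]
  exact h m0 (by decide)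

theorem Two.Chk.c_pow : (c0.map T.rho).prod ^ 9 = T.rho .l := by
  have hmc := hc.m_c hT hN
  have h1 : (c0.map T.rho).prod = ((m0.map T.rho).prod)⁻¹ * (xy0.map T.rho).prod * (((m0.map T.rho).prod)⁻¹)⁻¹ := by
    rw [inv_inv, mul_assoc, ← hmc]; group
  rw [h1, conj_pow, hc.xy_pow hT hN, inv_inv, mul_assoc, hc.l_comm_m hT hN]; group

end

end Cfsg.Agent.Fischer.TriTwo
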