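import Cfsg.Agent.SporRec.CosetBulk2
import Cfsg.Agent.Fischer.TriTwo

/-!
Soundness of static certificates of coset enumerations for involution generators with relations of the shapes
`ab = ba`, `aba = bab`: every edge has a level, and it is justified by a square, a hexagon, or a path of edges of
smaller level. The kernel computes with networks in two numberings and bit planes.
-/

set_option autoImplicit false
set_option maxRecDepth 100000
set_option linter.constructorNameAsVariable false
set_option linter.unusedSectionVars false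

namespace Cfsg.Agent.Fischer.TriSound

open Cfsg.Agent.Lib.PermNet Cfsg.Agent.SporRec.CosetBulk Cfsg.Agent.SporRec.CosetBulk2
  Cfsg.Agent.Fischer.TriTwo
open Cfsg.Agent.Fischer.Fi24RepDef (fst)
open Cfsg.Spor.Fi24 (Gen)

section abs
variable {ι G X : Type*} [Group G] [MulAction G X]

/-- The levels along a word (first letter first) are smaller than `B`. -/
def Wk (ρ : ι → Equiv.Perm ℕ) (lv : ι → ℕ → ℕ) (B : ℕ) : List ι → ℕ → Prop
  | [], _ => True
  | s :: w, i => lv s i < B ∧ Wk ρ lv B w (ρ s i)

/-- The general conditions. -/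
structure Base (x : ι → G) (ρ : ι → Equiv.Perm ℕ) (lv : ι → ℕ → ℕ) (D : ℕ → Prop) (adj : ι → ι → Bool) : Prop where
  dom : ∀ a i, D i → D (ρ a i)
  xx : ∀ a, x a * x a = 1
  xc : ∀ a b, adj a b = false → x a * x b = x b * x a
  xb : ∀ a b, adj a b = true → x a * x b * x a = x b * x a * x b
  rr : ∀ a, ρ a * ρ a = 1
  rc : ∀ a b, adj a b = false → ρ a * ρ b = ρ b * ρ a
  rb : ∀ a b, adj a b = true → ρ a * ρ b * ρ a = ρ b * ρ a * ρ b
  sym : ∀ a i, D i → lv a (ρ a i) = lv a i

/-- A justification of the edge `(i, a)`. -/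
def Jt (x : ι → G) (ρ : ι → Equiv.Perm ℕ) (lv : ι → ℕ → ℕ) (adj : ι → ι → Bool) (f : ℕ → X) (a : ι) (i : ℕ) : Prop :=
  x a • f i = f (ρ a i) ∨
  (∃ b, lv b i < lv a i ∧ lv b (ρ a i) < lv a i ∧ lv a (ρ b i) < lv a i ∧
    (adj a b = true → lv a (ρ b (ρ a i)) < lv a i ∧ lv b (ρ a (ρ b i)) < lv a i)) ∨
  (∃ w : List ι, (w.reverse.map x).prod = x a ∧ (w.reverse.map ρ).prod i = ρ a i ∧ Wk ρ lv (lv a i) w i)

variable {x : ι → G} {ρ : ι → Equiv.Perm ℕ} {lv : ι → ℕ → ℕ} {D : ℕ → Prop} {adj : ι → ι → Bool}

theorem walk (h : Base x ρ lv D adj) {f : ℕ → X} {B : ℕ}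
    (hB : ∀ a i, D i → lv a i < B → x a • f i = f (ρ a i)) (w : List ι) (i : ℕ) (hi : D i)
    (hw : Wk ρ lv B w i) : (w.reverse.map x).prod • f i = f ((w.reverse.map ρ).prod i) := by
  induction w generalizing i with
  | nil => simp
  | cons s w ih =>
    obtain ⟨h1, h2⟩ := hw
    have h3 := ih (ρ s i) (h.dom s i hi) h2
    rw [List.reverse_cons, List.map_append, List.map_append, List.prod_append, List.prod_append]
    simp only [List.map_cons, List.map_nil, List.prod_singleton]
    rw [mul_smul, hB s i hi h1, h3, Equiv.Perm.mul_apply]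

theorem rho_rho (h : Base x ρ lv D adj) (a : ι) (i : ℕ) : ρ a (ρ a i) = i := by
  rw [← Equiv.Perm.mul_apply, h.rr, Equiv.Perm.one_apply]

theorem sound (h : Base x ρ lv D adj) {f : ℕ → X}
    (hj : ∀ a i, D i → Jt x ρ lv adj f a i ∨ Jt x ρ lv adj f a (ρ a i)) :
    ∀ a i, D i → x a • f i = f (ρ a i) := by
  have key : ∀ B a i, D i → lv a i < B → x a • f i = f (ρ a i) := by
    intro B
    induction B with
    | zero => intro a i _ hlt; exact absurd hlt (Nat.not_lt_zero _)
    | succ B ih =>
      intro a i hi hlt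
      have jt : ∀ j, D j → lv a j ≤ B → Jt x ρ lv adj f a j → x a • f j = f (ρ a j) := by
        intro j hj hle hJ
        have ih' : ∀ b k, D k → lv b k < lv a j → x b • f k = f (ρ b k) :=
          fun b k hk hlt => ih b k hk (lt_of_lt_of_le hlt hle)
        rcases hJ with hJ | ⟨b, h1, h2, h3, h4⟩ | ⟨w, h1, h2, h3⟩
        · exact hJ
        · have hb := h.dom b j hj
          have hab := h.dom a _ hb
          have ha := h.dom a j hj
          have hba := h.dom b _ ha
          cases hadj : adj a b with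
          | false =>
            have e1 : ρ a (ρ b j) = ρ b (ρ a j) := by
              rw [← Equiv.Perm.mul_apply, h.rc a b hadj, Equiv.Perm.mul_apply]
            have e2 : lv b (ρ a (ρ b j)) < lv a j := by rw [e1, h.sym b _ ha]; exact h2
            have e3 : x a = x b * (x a * x b) := by
              rw [h.xc a b hadj, ← mul_assoc, h.xx, one_mul]
            calc x a • f j = (x b * (x a * x b)) • f j := by rw [← e3]
              _ = x b • x a • x b • f j := by rw [mul_smul, mul_smul]
              _ = x b • x a • f (ρ b j) := by rw [ih' b j hj h1]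
              _ = x b • f (ρ a (ρ b j)) := by rw [ih' a _ hb h3]
              _ = f (ρ b (ρ a (ρ b j))) := ih' b _ hab e2
              _ = f (ρ a j) := by rw [e1, rho_rho h]
          | true =>
            obtain ⟨h5, h6⟩ := h4 hadj
            have e1 : ρ b (ρ a (ρ b j)) = ρ a (ρ b (ρ a j)) := by
              have := h.rb a b hadj
              have h7 := congrArg (fun g : Equiv.Perm ℕ => g j) this
              simp only [Equiv.Perm.mul_apply] at h7
              exact h7.symm
            have hbab := h.dom b _ hab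
            have habab := h.dom a _ hbab
            have e2 : lv a (ρ b (ρ a (ρ b j))) < lv a j := by rw [e1, h.sym a _ hba]; exact h5
            have e4 : ρ a (ρ b (ρ a (ρ b j))) = ρ b (ρ a j) := by rw [e1, rho_rho h]
            have e5 : lv b (ρ a (ρ b (ρ a (ρ b j)))) < lv a j := by rw [e4, h.sym b _ ha]; exact h2
            have e3 : x a = x b * (x a * (x b * (x a * x b))) := by
              have h7 := h.xb a b hadj
              calc x a = (x b * x b) * x a * (x b * x b) := by rw [h.xx, one_mul, mul_one]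
                _ = x b * (x b * x a * x b) * x b := by simp only [mul_assoc]
                _ = x b * (x a * x b * x a) * x b := by rw [h7]
                _ = _ := by simp only [mul_assoc]
            calc x a • f j = (x b * (x a * (x b * (x a * x b)))) • f j := by rw [← e3]
              _ = x b • x a • x b • x a • x b • f j := by simp only [mul_smul]
              _ = x b • x a • x b • x a • f (ρ b j) := by rw [ih' b j hj h1]
              _ = x b • x a • x b • f (ρ a (ρ b j)) := by rw [ih' a _ hb h3]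
              _ = x b • x a • f (ρ b (ρ a (ρ b j))) := by rw [ih' b _ hab h6]
              _ = x b • f (ρ a (ρ b (ρ a (ρ b j)))) := by rw [ih' a _ hbab e2]
              _ = f (ρ b (ρ a (ρ b (ρ a (ρ b j))))) := ih' b _ habab e5
              _ = f (ρ a j) := by rw [e4, rho_rho h]
        · have h4 := walk h (B := lv a j) ih' w j hj h3
          rw [h1, h2] at h4
          exact h4
      have hs := h.sym a i hi
      rcases hj a i hi with hJ | hJ
      · exact jt i hi (Nat.le_of_lt_succ hlt) hJ
      · have h1 := jt (ρ a i) (h.dom a i hi) (by rw [hs]; exact Nat.le_of_lt_succ hlt) hJ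
        rw [rho_rho h] at h1
        rw [← h1, smul_smul, h.xx, one_smul]
  intro a i hi
  exact key (lv a i + 1) a i hi (Nat.lt_succ_self _)

end abs

/-! ### The two numberings -/

/-- Does the generator act by a short network in the second numbering? -/
def snd (a : Gen) : Bool := Bool.rec true false (fst a)

variable (T : Two)

/-- The conversion from the numbering `c` to the numbering `d` (`false`: the first one). -/
noncomputable def cv (c d : Bool) : Net :=
  Bool.rec (Bool.rec .nil T.pir d) (Bool.rec T.pi .nil d) c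

/-- The permutation from the numbering `c` to the first one. -/
def toF (c : Bool) : Equiv.Perm ℕ := if c then T.pi.perm else 1

variable {T} {N : ℕ}

theorem ok_cv (hT : T.Ok N) (c d : Bool) : (cv T c d).ok N = true := by
  cases c <;> cases d
  · rfl
  · exact hT.pir
  · exact hT.pi
  · rfl

theorem perm_cv (hT : T.Ok N) (c d : Bool) : (cv T c d).perm = (toF T d)⁻¹ * toF T c := by
  cases c <;> cases d
  · show (1 : Equiv.Perm ℕ) = _; simp [toF]
  · show T.pir.perm = _; simp [toF, hT.inv]
  · show T.pi.perm = _; simp [toF]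
  · show (1 : Equiv.Perm ℕ) = _; simp [toF]

theorem toF_cv (hT : T.Ok N) (c d : Bool) (p : ℕ) : toF T d ((cv T c d).perm p) = toF T c p := by
  rw [perm_cv hT, Equiv.Perm.mul_apply, Equiv.Perm.inv_def, Equiv.apply_symm_apply]

theorem rho_toF (hT : T.Ok N) (a : Gen) (p : ℕ) : T.rho a (toF T (snd a) p) = toF T (snd a) ((T.net a).perm p) := by
  cases h : fst a
  · have hs : snd a = true := by unfold snd; rw [h]
    rw [hT.rho_snd h, hs]
    show (T.pi.perm * (T.net a).perm * T.pi.perm⁻¹) (T.pi.perm p) = T.pi.perm _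
    rw [Equiv.Perm.mul_apply, Equiv.Perm.mul_apply, ← Equiv.Perm.mul_apply T.pi.perm⁻¹, inv_mul_cancel,
      Equiv.Perm.one_apply]
  · have hs : snd a = false := by unfold snd; rw [h]
    rw [Two.rho_fst h, hs]
    rfl

/-- The level of the edge of the letter `a` at a point in the first numbering. -/
def lvl (T : Two) (lev : Gen → List ℕ) (a : Gen) (i : ℕ) : ℕ := val (lev a) ((toF T (snd a))⁻¹ i)

theorem lvl_toF (lev : Gen → List ℕ) (a : Gen) (p : ℕ) : lvl T lev a (toF T (snd a) p) = val (lev a) p := by
  unfold lvl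
  rw [Equiv.Perm.inv_def, Equiv.symm_apply_apply]

/-- Evaluate all entries of a list of numbers, then continue. -/
noncomputable def forceN (l : List ℕ) (k : List ℕ → ℕ) : ℕ :=
  List.rec (motive := fun _ => ℕ) (k l) (fun p _ ih => Bool.rec ih ih (Nat.beq p 0)) l

theorem forceN_eq (l : List ℕ) (k : List ℕ → ℕ) : forceN l k = k l := by
  have h : ∀ (c : ℕ) (l' : List ℕ),
      List.rec (motive := fun _ => ℕ) c (fun p _ ih => Bool.rec ih ih (Nat.beq p 0)) l' = c := by
    intro c l'
    induction l' with
    | nil => rfl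
    | cons p ps ih =>
      show (Bool.rec _ _ (Nat.beq p 0) : ℕ) = c
      cases Nat.beq p 0 <;> exact ih
  exact h _ l

/-- The mask of a square rule. -/
noncomputable def ruleS (K K' na nb : Net) (La Lb : List ℕ) : ℕ :=
  forceN (mapApp K' La) fun La2 =>
  seq (K.app (ltP (mapApp nb La2) La2 0)) fun KP =>
  seq (K.app (ltP Lb La2 0)) fun KQ =>
  Nat.land (Nat.land KP KQ) (na.app KQ)

/-- The mask of a hexagon rule. -/
noncomputable def ruleH (K K' na nb : Net) (La Lb : List ℕ) : ℕ :=
  forceN (mapApp K' La) fun La2 =>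
  forceN (mapApp nb La2) fun Lnb =>
  seq (K.app (ltP Lnb La2 0)) fun KP =>
  seq (K.app (ltP Lb La2 0)) fun KQ =>
  seq (Nat.land KP KQ) fun PQ =>
  forceN (mapApp K Lnb) fun Lab =>
  forceN (mapApp na (mapApp K Lb)) fun Lba =>
  seq (ltP Lba Lab 0) fun U =>
  Nat.land (Nat.land PQ (na.app PQ)) (K.app (nb.app (K'.app U)))

/-- The mask of the rule of the pair `(a, b)`, in the numbering of `a`. -/
noncomputable def ruleM (T : Two) (lev : Gen → List ℕ) (adj : Gen → Gen → Bool) (a b : Gen) : ℕ :=
  Bool.rec
    (ruleS (cv T (snd a) (snd b)) (cv T (snd b) (snd a)) (T.net a) (T.net b) (lev a) (lev b))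
    (ruleH (cv T (snd a) (snd b)) (cv T (snd b) (snd a)) (T.net a) (T.net b) (lev a) (lev b)) (adj a b)

theorem ltP_zero (as bs : List ℕ) (i : ℕ) : (ltP as bs 0).testBit i = true ↔ val as i < val bs i := by
  rw [testBit_ltP]; simp

theorem testBit_land (a b i : ℕ) : (Nat.land a b).testBit i = true ↔ a.testBit i = true ∧ b.testBit i = true := by
  rw [testBit_land', Bool.and_eq_true]

section rule
variable (hT : T.Ok N) (lev : Gen → List ℕ) (a b : Gen)
include hT

theorem val_La2 (q : ℕ) : val (mapApp (cv T (snd b) (snd a)) (lev a)) q = lvl T lev a (toF T (snd b) q) := by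
  rw [val_mapApp (ok_cv hT _ _), ← toF_cv hT (snd b) (snd a) q, lvl_toF]

theorem spec_P (p : ℕ) :
    ((cv T (snd a) (snd b)).app (ltP (mapApp (T.net b) (mapApp (cv T (snd b) (snd a)) (lev a)))
      (mapApp (cv T (snd b) (snd a)) (lev a)) 0)).testBit p = true ↔
    lvl T lev a (T.rho b (toF T (snd a) p)) < lvl T lev a (toF T (snd a) p) := by
  rw [testBit_app (ok_cv hT _ _), ltP_zero, val_mapApp (hT.net b), val_La2 hT, val_La2 hT, ← rho_toF hT,
    toF_cv hT]

theorem spec_Q (p : ℕ) :
    ((cv T (snd a) (snd b)).app (ltP (lev b) (mapApp (cv T (snd b) (snd a)) (lev a)) 0)).testBit p = true ↔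
    lvl T lev b (toF T (snd a) p) < lvl T lev a (toF T (snd a) p) := by
  rw [testBit_app (ok_cv hT _ _), ltP_zero, val_La2 hT, toF_cv hT, ← lvl_toF lev b, toF_cv hT]

theorem spec_S (p : ℕ) (h : (ruleS (cv T (snd a) (snd b)) (cv T (snd b) (snd a)) (T.net a) (T.net b) (lev a)
      (lev b)).testBit p = true) (i : ℕ) (hi : i = toF T (snd a) p)
    (hsym : lvl T lev a (T.rho a i) = lvl T lev a i) :
    lvl T lev b i < lvl T lev a i ∧ lvl T lev b (T.rho a i) < lvl T lev a i ∧
      lvl T lev a (T.rho b i) < lvl T lev a i := by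
  subst hi
  unfold ruleS at h
  rw [forceN_eq, seq_eq, seq_eq, testBit_land, testBit_land, testBit_app (hT.net a), spec_P hT, spec_Q hT,
    spec_Q hT, ← rho_toF hT, hsym] at h
  exact ⟨h.1.2, h.2, h.1.1⟩

theorem spec_H (p : ℕ) (h : (ruleH (cv T (snd a) (snd b)) (cv T (snd b) (snd a)) (T.net a) (T.net b) (lev a)
      (lev b)).testBit p = true) (i : ℕ) (hi : i = toF T (snd a) p)
    (hsym : lvl T lev a (T.rho a i) = lvl T lev a i) (hbb : T.rho b (T.rho b i) = i) :
    lvl T lev b i < lvl T lev a i ∧ lvl T lev b (T.rho a i) < lvl T lev a i ∧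
      lvl T lev a (T.rho b i) < lvl T lev a i ∧ lvl T lev a (T.rho b (T.rho a i)) < lvl T lev a i ∧
      lvl T lev b (T.rho a (T.rho b i)) < lvl T lev a i := by
  subst hi
  unfold ruleH at h
  rw [forceN_eq, forceN_eq, seq_eq, seq_eq, seq_eq, forceN_eq, forceN_eq, seq_eq, testBit_land, testBit_land,
    testBit_land, testBit_app (hT.net a), testBit_land, spec_P hT, spec_Q hT, spec_P hT, spec_Q hT,
    ← rho_toF hT, hsym, testBit_app (ok_cv hT _ _), testBit_app (hT.net b), testBit_app (ok_cv hT _ _),
    ltP_zero, val_mapApp (hT.net a), val_mapApp (ok_cv hT _ _), val_mapApp (ok_cv hT _ _),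
    val_mapApp (hT.net b), val_La2 hT, ← rho_toF hT, toF_cv hT, ← lvl_toF lev b, toF_cv hT,
    ← rho_toF hT, toF_cv hT, ← rho_toF hT, toF_cv hT, hbb] at h
  exact ⟨h.1.1.2, h.1.2.2, h.1.1.1, h.1.2.1, h.2⟩

theorem spec_M (adj : Gen → Gen → Bool) (p : ℕ) (h : (ruleM T lev adj a b).testBit p = true) (i : ℕ)
    (hi : i = toF T (snd a) p) (hsym : lvl T lev a (T.rho a i) = lvl T lev a i)
    (hbb : T.rho b (T.rho b i) = i) :
    lvl T lev b i < lvl T lev a i ∧ lvl T lev b (T.rho a i) < lvl T lev a i ∧
      lvl T lev a (T.rho b i) < lvl T lev a i ∧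
      (adj a b = true → lvl T lev a (T.rho b (T.rho a i)) < lvl T lev a i ∧
        lvl T lev b (T.rho a (T.rho b i)) < lvl T lev a i) := by
  unfold ruleM at h
  cases hadj : adj a b with
  | false =>
    rw [hadj] at h
    obtain ⟨h1, h2, h3⟩ := spec_S hT lev a b p h i hi hsym
    exact ⟨h1, h2, h3, fun h => absurd h (by simp)⟩
  | true =>
    rw [hadj] at h
    obtain ⟨h1, h2, h3, h4, h5⟩ := spec_H hT lev a b p h i hi hsym hbb
    exact ⟨h1, h2, h3, fun _ => ⟨h4, h5⟩⟩

end rule

/-! ### Paths -/

/-- Walk along a word (first letter first) from the position `p` of the numbering `c`; all levels are `< B`. -/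
noncomputable def pathK (T : Two) (lev : Gen → List ℕ) (B : ℕ) (w : List Gen) : Bool → ℕ → Bool :=
  List.rec (motive := fun _ => Bool → ℕ → Bool) (fun _ _ => true)
    (fun s _ ih c p => seqB ((cv T c (snd s)).pt p) fun q =>
      and (Nat.blt (valK (lev s) q) B) (seqB ((T.net s).pt q) fun r => ih (snd s) r)) w

theorem pathK_spec (hT : T.Ok N) (lev : Gen → List ℕ) (B : ℕ) (w : List Gen) (c : Bool) (p : ℕ)
    (h : pathK T lev B w c p = true) : Wk T.rho (lvl T lev) B w (toF T c p) := by
  induction w generalizing c p with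
  | nil => trivial
  | cons s w ih =>
    have h' : seqB ((cv T c (snd s)).pt p) (fun q =>
      and (Nat.blt (valK (lev s) q) B) (seqB ((T.net s).pt q) fun r => pathK T lev B w (snd s) r)) = true := h
    rw [seqB_eq, seqB_eq, Bool.and_eq_true, Net.pt_eq (ok_cv hT _ _), Net.pt_eq (hT.net s), valK_eq] at h'
    obtain ⟨h1, h2⟩ := h'
    have h1' : val (lev s) ((cv T c (snd s)).perm p) < B := by simpa [Nat.blt_eq] using h1
    refine ⟨?_, ?_⟩
    · rw [← toF_cv hT c (snd s), lvl_toF]; exact h1'
    · have h3 := ih _ _ h2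
      rw [← rho_toF hT, toF_cv hT] at h3
      exact h3

end Cfsg.Agent.Fischer.TriSound
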