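import Cfsg.Agent.Fischer.TriNet
import Cfsg.Agent.Fischer.TriSound
import Cfsg.Agent.Fischer.Fi24RepOrb

/-!
The threefold cover of the 306936 points: 920808 points, positions below `983040`.
-/

set_option autoImplicit false
set_option maxRecDepth 100000
set_option linter.constructorNameAsVariable false
set_option Elab.async false

namespace Cfsg.Agent.Fischer.TriDef

open Cfsg.Agent.Lib.PermNet Cfsg.Agent.Fischer.Fi24RepLib Cfsg.Agent.Fischer.TriTwo Cfsg.Agent.Fischer.TriSound
open Cfsg.Spor.Fi24 (Gen)

/-- The network of a generator in its own numbering. -/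
noncomputable def net : Gen → Net
  | .l => TriNet.nl
  | .k => TriNet.nk
  | .a => TriNet.na
  | .b => TriNet.nb
  | .c => TriNet.nc
  | .d => TriNet.nd
  | .e => TriNet.ne
  | .f => TriNet.nf
  | .g => TriNet.ng
  | .j => TriNet.nj
  | .h => TriNet.nh
  | .i => TriNet.ni

/-- The networks of the threefold cover. -/
noncomputable def T : Two := ⟨net, TriNet.pi, TriNet.pir⟩

theorem pir_eq : TriNet.pir = revAux TriNet.pi .nil := rfl

theorem ok_pi : TriNet.pi.ok 983040 = true := by decide +kernel
theorem ok_pir : TriNet.pir.ok 983040 = true := by decide +kernel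
theorem ok_l : TriNet.nl.ok 983040 = true := by decide +kernel
theorem ok_k : TriNet.nk.ok 983040 = true := by decide +kernel
theorem ok_a : TriNet.na.ok 983040 = true := by decide +kernel
theorem ok_b : TriNet.nb.ok 983040 = true := by decide +kernel
theorem ok_c : TriNet.nc.ok 983040 = true := by decide +kernel
theorem ok_d : TriNet.nd.ok 983040 = true := by decide +kernel
theorem ok_e : TriNet.ne.ok 983040 = true := by decide +kernel
theorem ok_f : TriNet.nf.ok 983040 = true := by decide +kernel
theorem ok_g : TriNet.ng.ok 983040 = true := by decide +kernel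
theorem ok_j : TriNet.nj.ok 983040 = true := by decide +kernel
theorem ok_h : TriNet.nh.ok 983040 = true := by decide +kernel
theorem ok_i : TriNet.ni.ok 983040 = true := by decide +kernel

theorem ok_net (x : Gen) : (net x).ok 983040 = true := by
  cases x
  · exact ok_l
  · exact ok_k
  · exact ok_a
  · exact ok_b
  · exact ok_c
  · exact ok_d
  · exact ok_e
  · exact ok_f
  · exact ok_g
  · exact ok_j
  · exact ok_h
  · exact ok_i

theorem okT : T.Ok 983040 where
  pi := ok_pi
  pir := ok_pir
  net := ok_net
  inv := by
    show TriNet.pir.perm = TriNet.pi.perm⁻¹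
    rw [pir_eq, perm_rev]

/-- The set of points in the two numberings. -/
noncomputable def D (c : Bool) : ℕ :=
  Bool.rec (TriNet.tri Fi24RepOrb.UG) (TriNet.pi.app (TriNet.tri Fi24RepOrb.UG)) c

/-- the base point in the two numberings -/
def root (c : Bool) : ℕ := Bool.rec 0 308096 c

end Cfsg.Agent.Fischer.TriDef
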