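import Cfsg.Agent.Fischer.TriLevL
import Cfsg.Agent.Fischer.TriLevK
import Cfsg.Agent.Fischer.TriLevA
import Cfsg.Agent.Fischer.TriLevB
import Cfsg.Agent.Fischer.TriLevC
import Cfsg.Agent.Fischer.TriLevD
import Cfsg.Agent.Fischer.TriLevE
import Cfsg.Agent.Fischer.TriLevF
import Cfsg.Agent.Fischer.TriLevG
import Cfsg.Agent.Fischer.TriLevJ
import Cfsg.Agent.Fischer.TriLevH
import Cfsg.Agent.Fischer.TriLevI
import Cfsg.Agent.Fischer.TriRk
import Cfsg.Agent.Fischer.TriDef

/-!
Level planes, tree masks and rules of the coset enumeration of the threefold cover. The planes of the sheets 0 and 1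
are given; the generators swap the sheets 1 and 2.
-/

set_option autoImplicit false
set_option maxRecDepth 100000
set_option linter.constructorNameAsVariable false
set_option Elab.async false

namespace Cfsg.Agent.Fischer.TriLev

open Cfsg.Agent.Lib.PermNet Cfsg.Agent.SporRec.CosetBulk Cfsg.Agent.SporRec.CosetBulk2
  Cfsg.Agent.Fischer.Fi24RepLib Cfsg.Agent.Fischer.TriTwo
  Cfsg.Agent.Fischer.TriSound Cfsg.Agent.Fischer.TriDef
open Cfsg.Agent.Fischer.Fi24RepDef (adj rep c0)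
open Cfsg.Spor.Fi24 (Gen)

/-- The plane on the sheets 0, 1 and 2. -/
noncomputable def up (L : Net) (p : ℕ) : ℕ :=
  Nat.lor p (Nat.shiftLeft (L.app (Nat.shiftRight p 327680)) 655360)

noncomputable def lev_l : List ℕ := [up Fi24RepGen.nl TriLevL.p0, up Fi24RepGen.nl TriLevL.p1, up Fi24RepGen.nl TriLevL.p2, up Fi24RepGen.nl TriLevL.p3, up Fi24RepGen.nl TriLevL.p4, up Fi24RepGen.nl TriLevL.p5, up Fi24RepGen.nl TriLevL.p6]
noncomputable def lev_k : List ℕ := [up Fi24RepGen.nk TriLevK.p0, up Fi24RepGen.nk TriLevK.p1, up Fi24RepGen.nk TriLevK.p2, up Fi24RepGen.nk TriLevK.p3, up Fi24RepGen.nk TriLevK.p4, up Fi24RepGen.nk TriLevK.p5, up Fi24RepGen.nk TriLevK.p6]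
noncomputable def lev_a : List ℕ := [up Fi24RepGen.na TriLevA.p0, up Fi24RepGen.na TriLevA.p1, up Fi24RepGen.na TriLevA.p2, up Fi24RepGen.na TriLevA.p3, up Fi24RepGen.na TriLevA.p4, up Fi24RepGen.na TriLevA.p5, up Fi24RepGen.na TriLevA.p6]
noncomputable def lev_b : List ℕ := [up Fi24RepGen.nb TriLevB.p0, up Fi24RepGen.nb TriLevB.p1, up Fi24RepGen.nb TriLevB.p2, up Fi24RepGen.nb TriLevB.p3, up Fi24RepGen.nb TriLevB.p4, up Fi24RepGen.nb TriLevB.p5, up Fi24RepGen.nb TriLevB.p6]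
noncomputable def lev_c : List ℕ := [up Fi24RepGen.nc TriLevC.p0, up Fi24RepGen.nc TriLevC.p1, up Fi24RepGen.nc TriLevC.p2, up Fi24RepGen.nc TriLevC.p3, up Fi24RepGen.nc TriLevC.p4, up Fi24RepGen.nc TriLevC.p5, up Fi24RepGen.nc TriLevC.p6]
noncomputable def lev_d : List ℕ := [up Fi24RepGen.nd TriLevD.p0, up Fi24RepGen.nd TriLevD.p1, up Fi24RepGen.nd TriLevD.p2, up Fi24RepGen.nd TriLevD.p3, up Fi24RepGen.nd TriLevD.p4, up Fi24RepGen.nd TriLevD.p5, up Fi24RepGen.nd TriLevD.p6]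
noncomputable def lev_e : List ℕ := [up Fi24RepGen.ne TriLevE.p0, up Fi24RepGen.ne TriLevE.p1, up Fi24RepGen.ne TriLevE.p2, up Fi24RepGen.ne TriLevE.p3, up Fi24RepGen.ne TriLevE.p4, up Fi24RepGen.ne TriLevE.p5, up Fi24RepGen.ne TriLevE.p6]
noncomputable def lev_f : List ℕ := [up Fi24RepGen.nf TriLevF.p0, up Fi24RepGen.nf TriLevF.p1, up Fi24RepGen.nf TriLevF.p2, up Fi24RepGen.nf TriLevF.p3, up Fi24RepGen.nf TriLevF.p4, up Fi24RepGen.nf TriLevF.p5, up Fi24RepGen.nf TriLevF.p6]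
noncomputable def lev_g : List ℕ := [up Fi24RepGen.ng TriLevG.p0, up Fi24RepGen.ng TriLevG.p1, up Fi24RepGen.ng TriLevG.p2, up Fi24RepGen.ng TriLevG.p3, up Fi24RepGen.ng TriLevG.p4, up Fi24RepGen.ng TriLevG.p5, up Fi24RepGen.ng TriLevG.p6]
noncomputable def lev_j : List ℕ := [up Fi24RepGen.nj TriLevJ.p0, up Fi24RepGen.nj TriLevJ.p1, up Fi24RepGen.nj TriLevJ.p2, up Fi24RepGen.nj TriLevJ.p3, up Fi24RepGen.nj TriLevJ.p4, up Fi24RepGen.nj TriLevJ.p5, up Fi24RepGen.nj TriLevJ.p6]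
noncomputable def lev_h : List ℕ := [up Fi24RepGen.nh TriLevH.p0, up Fi24RepGen.nh TriLevH.p1, up Fi24RepGen.nh TriLevH.p2, up Fi24RepGen.nh TriLevH.p3, up Fi24RepGen.nh TriLevH.p4, up Fi24RepGen.nh TriLevH.p5, up Fi24RepGen.nh TriLevH.p6]
noncomputable def lev_i : List ℕ := [up Fi24RepGen.ni TriLevI.p0, up Fi24RepGen.ni TriLevI.p1, up Fi24RepGen.ni TriLevI.p2, up Fi24RepGen.ni TriLevI.p3, up Fi24RepGen.ni TriLevI.p4, up Fi24RepGen.ni TriLevI.p5, up Fi24RepGen.ni TriLevI.p6]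

/-- level planes of a generator, in its own numbering -/
noncomputable def lev : Gen → List ℕ
  | .l => lev_l | .k => lev_k | .a => lev_a | .b => lev_b | .c => lev_c | .d => lev_d
  | .e => lev_e | .f => lev_f | .g => lev_g | .j => lev_j | .h => lev_h | .i => lev_i

/-- rank planes in the first numbering -/
noncomputable def rk : List ℕ := [TriRk.r0, TriRk.r1, TriRk.r2, TriRk.r3, TriRk.r4, TriRk.r5, TriRk.r6]

/-- rank planes in the two numberings -/
noncomputable def rkD (c : Bool) : List ℕ := Bool.rec rk (mapApp TriNet.pi rk) c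

/-- points of the generator `a` whose edge has level 0 and decreases the rank, in the own numbering -/
noncomputable def tree (a : Gen) : ℕ :=
  Nat.land (Nat.xor (D (snd a)) (Nat.land (D (snd a)) (orAll (lev a))))
    (ltP (mapApp (net a) (rkD (snd a))) (rkD (snd a)) 0)

/-- the tree mask in the first numbering -/
noncomputable def treeF (a : Gen) : ℕ := Bool.rec (tree a) (TriNet.pir.app (tree a)) (snd a)

/-- adjacency in the diagram -/
def adj2 (a b : Gen) : Bool := or (adj a b) (adj b a)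

/-- all generators -/
def gens : List Gen := [.l, .k, .a, .b, .c, .d, .e, .f, .g, .j, .h, .i]

/-- all generators but `a` -/
def others : Gen → List Gen
  | .l => [.k, .a, .b, .c, .d, .e, .f, .g, .j, .h, .i]
  | .k => [.l, .a, .b, .c, .d, .e, .f, .g, .j, .h, .i]
  | .a => [.l, .k, .b, .c, .d, .e, .f, .g, .j, .h, .i]
  | .b => [.l, .k, .a, .c, .d, .e, .f, .g, .j, .h, .i]
  | .c => [.l, .k, .a, .b, .d, .e, .f, .g, .j, .h, .i]
  | .d => [.l, .k, .a, .b, .c, .e, .f, .g, .j, .h, .i]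
  | .e => [.l, .k, .a, .b, .c, .d, .f, .g, .j, .h, .i]
  | .f => [.l, .k, .a, .b, .c, .d, .e, .g, .j, .h, .i]
  | .g => [.l, .k, .a, .b, .c, .d, .e, .f, .j, .h, .i]
  | .j => [.l, .k, .a, .b, .c, .d, .e, .f, .g, .h, .i]
  | .h => [.l, .k, .a, .b, .c, .d, .e, .f, .g, .j, .i]
  | .i => [.l, .k, .a, .b, .c, .d, .e, .f, .g, .j, .h]

/-- the relator of length 64 -/
def W64 : List Gen := .l :: rep 9 c0

/-- the exceptional edges: point in the own numbering, rotation of the relator -/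
def special : Gen → List (ℕ × ℕ)
  | .a => [(301830, 2), (6, 37), (17270, 9)]
  | .f => [(77158, 14), (194815, 63)]
  | .c => [(269618, 4), (907112, 4)]
  | .d => [(562521, 33), (635842, 61)]
  | _ => []

/-- the path after the letter in the rotated relator -/
def path (m : ℕ) : List Gen := (W64.rotate m).dropLast

/-- the mask of the base point, for the generators fixing it -/
noncomputable def rootM : Gen → ℕ
  | .k => 0
  | a => Nat.shiftLeft 1 (root (snd a))

/-- masks covering all points -/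
noncomputable def cov (a : Gen) : List ℕ :=
  rootM a ::
  tree a :: (net a).app (tree a) ::
    ((others a).map (fun b => ruleM T lev adj2 a b) ++
      ((special a).map (fun s => Nat.shiftLeft 1 s.1) ++
        (special a).map (fun s => (net a).app (Nat.shiftLeft 1 s.1))))

end Cfsg.Agent.Fischer.TriLev
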