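import Cfsg.Agent.Fischer.Fi24RepDef
import Cfsg.Agent.Fischer.TriCoc

/-!
Networks of the threefold cover of the 306936 points (920808 points, positions below `3 * 327680 = 983040`): sheet `c`
is the block of positions `c * 327680 + p`. Every generator acts by `(c, p) ↦ (-c, net p)` in its own numbering; the
conversion from the second numbering to the first one is `(c, q) ↦ (c + g (pi q), pi q)`, where `g` is given by two
masks.
-/

set_option autoImplicit false
set_option maxRecDepth 100000
set_option linter.all false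

namespace Cfsg.Agent.Fischer.TriNet

open Cfsg.Agent.Lib.PermNet Cfsg.Agent.Fischer.Fi24RepLib

/-- Three copies of a mask. -/
noncomputable def tri (m : ℕ) : ℕ :=
  Nat.lor m (Nat.lor (Nat.shiftLeft m 327680) (Nat.shiftLeft m 655360))

/-- the swap of the sheets 1 and 2 -/
noncomputable def sw : ℕ := Nat.shiftLeft (Nat.sub (Nat.pow 2 (327680 : ℕ)) 1) 327680

/-- the three masks of the translation -/
noncomputable def cA : ℕ := TriCoc.g1
noncomputable def cB : ℕ := Nat.shiftLeft (Nat.lor TriCoc.g1 TriCoc.g2) 327680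
noncomputable def cC : ℕ := TriCoc.g2

noncomputable def pm0 : ℕ := tri Fi24RepPi.m0
noncomputable def pm1 : ℕ := tri Fi24RepPi.m1
noncomputable def pm2 : ℕ := tri Fi24RepPi.m2
noncomputable def pm3 : ℕ := tri Fi24RepPi.m3
noncomputable def pm4 : ℕ := tri Fi24RepPi.m4
noncomputable def pm5 : ℕ := tri Fi24RepPi.m5
noncomputable def pm6 : ℕ := tri Fi24RepPi.m6
noncomputable def pm7 : ℕ := tri Fi24RepPi.m7
noncomputable def pm8 : ℕ := tri Fi24RepPi.m8
noncomputable def pm9 : ℕ := tri Fi24RepPi.m9
noncomputable def pm10 : ℕ := tri Fi24RepPi.m10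
noncomputable def pm11 : ℕ := tri Fi24RepPi.m11
noncomputable def pm12 : ℕ := tri Fi24RepPi.m12
noncomputable def pm13 : ℕ := tri Fi24RepPi.m13
noncomputable def pm14 : ℕ := tri Fi24RepPi.m14
noncomputable def pm15 : ℕ := tri Fi24RepPi.m15
noncomputable def pm16 : ℕ := tri Fi24RepPi.m16
noncomputable def pm17 : ℕ := tri Fi24RepPi.m17
noncomputable def pm18 : ℕ := tri Fi24RepPi.m18
noncomputable def pm19 : ℕ := tri Fi24RepPi.m19
noncomputable def pm20 : ℕ := tri Fi24RepPi.m20
noncomputable def pm21 : ℕ := tri Fi24RepPi.m21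
noncomputable def pm22 : ℕ := tri Fi24RepPi.m22
noncomputable def pm23 : ℕ := tri Fi24RepPi.m23
noncomputable def pm24 : ℕ := tri Fi24RepPi.m24
noncomputable def pm25 : ℕ := tri Fi24RepPi.m25
noncomputable def pm26 : ℕ := tri Fi24RepPi.m26
noncomputable def pm27 : ℕ := tri Fi24RepPi.m27
noncomputable def pm28 : ℕ := tri Fi24RepPi.m28
noncomputable def pm29 : ℕ := tri Fi24RepPi.m29
noncomputable def pm30 : ℕ := tri Fi24RepPi.m30
noncomputable def pm31 : ℕ := tri Fi24RepPi.m31
noncomputable def pm32 : ℕ := tri Fi24RepPi.m32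
noncomputable def pm33 : ℕ := tri Fi24RepPi.m33
noncomputable def pm34 : ℕ := tri Fi24RepPi.m34
noncomputable def pm35 : ℕ := tri Fi24RepPi.m35
noncomputable def pm36 : ℕ := tri Fi24RepPi.m36

/-- from the second numbering to the first one -/
noncomputable def pi : Net :=
  Net.cons cA 327680 (Net.cons cB 327680 (Net.cons cC 327680 (Net.cons pm0 1 (Net.cons pm1 2 (
  Net.cons pm2 4 (Net.cons pm3 8 (Net.cons pm4 16 (Net.cons pm5 32 (Net.cons pm6 64 (
  Net.cons pm7 128 (Net.cons pm8 256 (Net.cons pm9 512 (Net.cons pm10 1024 (Net.cons pm11 2048 (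
  Net.cons pm12 4096 (Net.cons pm13 8192 (Net.cons pm14 16384 (Net.cons pm15 32768 (Net.cons pm16 65536 (
  Net.cons pm17 65536 (Net.cons pm18 65536 (Net.cons pm19 65536 (Net.cons pm20 65536 (Net.cons pm21 32768 (
  Net.cons pm22 16384 (Net.cons pm23 8192 (Net.cons pm24 4096 (Net.cons pm25 2048 (Net.cons pm26 1024 (
  Net.cons pm27 512 (Net.cons pm28 256 (Net.cons pm29 128 (Net.cons pm30 64 (Net.cons pm31 32 (
  Net.cons pm32 16 (Net.cons pm33 8 (Net.cons pm34 4 (Net.cons pm35 2 (Net.cons pm36 1 (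
  Net.nil))))))))))))))))))))))))))))))))))))))))

/-- from the first numbering to the second one -/
noncomputable def pir : Net :=
  Net.cons pm36 1 (Net.cons pm35 2 (Net.cons pm34 4 (Net.cons pm33 8 (Net.cons pm32 16 (
  Net.cons pm31 32 (Net.cons pm30 64 (Net.cons pm29 128 (Net.cons pm28 256 (Net.cons pm27 512 (
  Net.cons pm26 1024 (Net.cons pm25 2048 (Net.cons pm24 4096 (Net.cons pm23 8192 (Net.cons pm22 16384 (
  Net.cons pm21 32768 (Net.cons pm20 65536 (Net.cons pm19 65536 (Net.cons pm18 65536 (Net.cons pm17 65536 (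
  Net.cons pm16 65536 (Net.cons pm15 32768 (Net.cons pm14 16384 (Net.cons pm13 8192 (Net.cons pm12 4096 (
  Net.cons pm11 2048 (Net.cons pm10 1024 (Net.cons pm9 512 (Net.cons pm8 256 (Net.cons pm7 128 (
  Net.cons pm6 64 (Net.cons pm5 32 (Net.cons pm4 16 (Net.cons pm3 8 (Net.cons pm2 4 (
  Net.cons pm1 2 (Net.cons pm0 1 (Net.cons cC 327680 (Net.cons cB 327680 (Net.cons cA 327680 (
  Net.nil))))))))))))))))))))))))))))))))))))))))

noncomputable def ml0 : ℕ := tri Fi24RepGen.ml0
/-- the generator l in its own numbering -/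
noncomputable def nl : Net :=
  Net.cons sw 327680 (Net.cons ml0 32 (Net.nil))

noncomputable def mk0 : ℕ := tri Fi24RepGen.mk0
/-- the generator k in its own numbering -/
noncomputable def nk : Net :=
  Net.cons sw 327680 (Net.cons mk0 32 (Net.nil))

noncomputable def ma0 : ℕ := tri Fi24RepGen.ma0
noncomputable def ma1 : ℕ := tri Fi24RepGen.ma1
noncomputable def ma2 : ℕ := tri Fi24RepGen.ma2
noncomputable def ma3 : ℕ := tri Fi24RepGen.ma3
noncomputable def ma4 : ℕ := tri Fi24RepGen.ma4
noncomputable def ma5 : ℕ := tri Fi24RepGen.ma5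
/-- the generator a in its own numbering -/
noncomputable def na : Net :=
  Net.cons sw 327680 (Net.cons ma0 1 (Net.cons ma1 2 (Net.cons ma2 4 (Net.cons ma3 8 (
  Net.cons ma4 16 (Net.cons ma5 32 (Net.nil)))))))

noncomputable def mb0 : ℕ := tri Fi24RepGen.mb0
noncomputable def mb1 : ℕ := tri Fi24RepGen.mb1
noncomputable def mb2 : ℕ := tri Fi24RepGen.mb2
noncomputable def mb3 : ℕ := tri Fi24RepGen.mb3
noncomputable def mb4 : ℕ := tri Fi24RepGen.mb4
noncomputable def mb5 : ℕ := tri Fi24RepGen.mb5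
/-- the generator b in its own numbering -/
noncomputable def nb : Net :=
  Net.cons sw 327680 (Net.cons mb0 1 (Net.cons mb1 2 (Net.cons mb2 4 (Net.cons mb3 8 (
  Net.cons mb4 16 (Net.cons mb5 32 (Net.nil)))))))

noncomputable def mc0 : ℕ := tri Fi24RepGen.mc0
noncomputable def mc1 : ℕ := tri Fi24RepGen.mc1
noncomputable def mc2 : ℕ := tri Fi24RepGen.mc2
noncomputable def mc3 : ℕ := tri Fi24RepGen.mc3
noncomputable def mc4 : ℕ := tri Fi24RepGen.mc4
/-- the generator c in its own numbering -/
noncomputable def nc : Net :=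
  Net.cons sw 327680 (Net.cons mc0 2 (Net.cons mc1 4 (Net.cons mc2 8 (Net.cons mc3 16 (
  Net.cons mc4 32 (Net.nil))))))

noncomputable def md0 : ℕ := tri Fi24RepGen.md0
noncomputable def md1 : ℕ := tri Fi24RepGen.md1
noncomputable def md2 : ℕ := tri Fi24RepGen.md2
noncomputable def md3 : ℕ := tri Fi24RepGen.md3
noncomputable def md4 : ℕ := tri Fi24RepGen.md4
/-- the generator d in its own numbering -/
noncomputable def nd : Net :=
  Net.cons sw 327680 (Net.cons md0 2 (Net.cons md1 4 (Net.cons md2 8 (Net.cons md3 16 (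
  Net.cons md4 32 (Net.nil))))))

noncomputable def me0 : ℕ := tri Fi24RepGen.me0
noncomputable def me1 : ℕ := tri Fi24RepGen.me1
noncomputable def me2 : ℕ := tri Fi24RepGen.me2
noncomputable def me3 : ℕ := tri Fi24RepGen.me3
/-- the generator e in its own numbering -/
noncomputable def ne : Net :=
  Net.cons sw 327680 (Net.cons me0 4 (Net.cons me1 8 (Net.cons me2 16 (Net.cons me3 32 (
  Net.nil)))))

noncomputable def mf0 : ℕ := tri Fi24RepGen.mf0
noncomputable def mf1 : ℕ := tri Fi24RepGen.mf1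
noncomputable def mf2 : ℕ := tri Fi24RepGen.mf2
noncomputable def mf3 : ℕ := tri Fi24RepGen.mf3
/-- the generator f in its own numbering -/
noncomputable def nf : Net :=
  Net.cons sw 327680 (Net.cons mf0 4 (Net.cons mf1 8 (Net.cons mf2 16 (Net.cons mf3 32 (
  Net.nil)))))

noncomputable def mg0 : ℕ := tri Fi24RepGen.mg0
/-- the generator g in its own numbering -/
noncomputable def ng : Net :=
  Net.cons sw 327680 (Net.cons mg0 8 (Net.nil))

noncomputable def mj0 : ℕ := tri Fi24RepGen.mj0
/-- the generator j in its own numbering -/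
noncomputable def nj : Net :=
  Net.cons sw 327680 (Net.cons mj0 8 (Net.nil))

noncomputable def mh0 : ℕ := tri Fi24RepGen.mh0
/-- the generator h in its own numbering -/
noncomputable def nh : Net :=
  Net.cons sw 327680 (Net.cons mh0 16 (Net.nil))

noncomputable def mi0 : ℕ := tri Fi24RepGen.mi0
/-- the generator i in its own numbering -/
noncomputable def ni : Net :=
  Net.cons sw 327680 (Net.cons mi0 16 (Net.nil))

end Cfsg.Agent.Fischer.TriNet
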