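import Cfsg.Agent.Fischer.TriLev

/-! Kernel checks of the enumeration of the threefold cover: the exceptional edges, the tree, the base point. -/

set_option autoImplicit false
set_option maxRecDepth 100000
set_option Elab.async false
set_option linter.constructorNameAsVariable false

namespace Cfsg.Agent.Fischer.TriPath

open Cfsg.Agent.Lib.PermNet Cfsg.Agent.SporRec.CosetBulk Cfsg.Agent.SporRec.CosetBulk2
  Cfsg.Agent.Fischer.TriTwo Cfsg.Agent.Fischer.TriSound Cfsg.Agent.Fischer.TriDef Cfsg.Agent.Fischer.TriLev
open Cfsg.Spor.Fi24 (Gen)

/-- the check of an exceptional edge -/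
noncomputable def chk (a : Gen) (s : ℕ × ℕ) : Bool := pathK T lev (valK (lev a) s.1) (path s.2) (snd a) s.1

theorem c_a0 : chk .a (301830, 2) = true := by decide +kernel
theorem c_a1 : chk .a (6, 37) = true := by decide +kernel
theorem c_a2 : chk .a (17270, 9) = true := by decide +kernel
theorem c_f0 : chk .f (77158, 14) = true := by decide +kernel
theorem c_f1 : chk .f (194815, 63) = true := by decide +kernel
theorem c_c0 : chk .c (269618, 4) = true := by decide +kernel
theorem c_c1 : chk .c (907112, 4) = true := by decide +kernel
theorem c_d0 : chk .d (562521, 33) = true := by decide +kernel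
theorem c_d1 : chk .d (635842, 61) = true := by decide +kernel

/-- pairwise disjoint masks: kernel check -/
noncomputable def disjL (l : List ℕ) : ℕ → Bool :=
  List.rec (motive := fun _ => ℕ → Bool) (fun _ => true)
    (fun p _ ih acc => and (Nat.beq (Nat.land p acc) 0) (seqB (Nat.lor p acc) ih)) l

theorem disj : disjL (gens.map treeF) 0 = true := by decide +kernel

theorem r_l : tb (treeF .l) 0 = false := by decide +kernel
theorem r_k : tb (treeF .k) 0 = false := by decide +kernel
theorem r_a : tb (treeF .a) 0 = false := by decide +kernel
theorem r_b : tb (treeF .b) 0 = false := by decide +kernel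
theorem r_c : tb (treeF .c) 0 = false := by decide +kernel
theorem r_d : tb (treeF .d) 0 = false := by decide +kernel
theorem r_e : tb (treeF .e) 0 = false := by decide +kernel
theorem r_f : tb (treeF .f) 0 = false := by decide +kernel
theorem r_g : tb (treeF .g) 0 = false := by decide +kernel
theorem r_j : tb (treeF .j) 0 = false := by decide +kernel
theorem r_h : tb (treeF .h) 0 = false := by decide +kernel
theorem r_i : tb (treeF .i) 0 = false := by decide +kernel

theorem rootT : Nat.beq (TriNet.pi.pt 308096) 0 = true := by decide +kernel

theorem rootD : tb (D false) 0 = true := by decide +kernel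

theorem size : Nat.beq (Nat.shiftRight (D false) 983040) 0 = true := by decide +kernel

theorem sizeU : Nat.beq (Nat.shiftRight Cfsg.Agent.Fischer.Fi24RepOrb.UG 327680) 0 = true := by decide +kernel

end Cfsg.Agent.Fischer.TriPath
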