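import Cfsg.Agent.Fischer.TriCovL
import Cfsg.Agent.Fischer.TriCovK
import Cfsg.Agent.Fischer.TriCovA
import Cfsg.Agent.Fischer.TriCovB
import Cfsg.Agent.Fischer.TriCovC
import Cfsg.Agent.Fischer.TriCovD
import Cfsg.Agent.Fischer.TriCovE
import Cfsg.Agent.Fischer.TriCovF
import Cfsg.Agent.Fischer.TriCovG
import Cfsg.Agent.Fischer.TriCovJ
import Cfsg.Agent.Fischer.TriCovH
import Cfsg.Agent.Fischer.TriCovI
import Cfsg.Agent.Fischer.TriChkB
import Cfsg.Agent.Fischer.TriChkD
import Cfsg.Agent.Fischer.TriChkF
import Cfsg.Agent.Fischer.TriChkJ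
import Cfsg.Agent.Fischer.TriChkI
import Cfsg.Agent.Fischer.TriChkK
import Cfsg.Agent.Fischer.TriChkS
import Cfsg.Agent.Fischer.TriChkE
import Cfsg.Agent.Fischer.TriPath

/-!
# The coset enumeration of the diagram `Y542` with `l = (abcdefh)^9` over `⟨a, …, j, l⟩`: 920808 points

`exists_label`: if elements `x l, …, x i` of a group satisfy the Coxeter relations of the diagram `Y542` and
`(abcdefh)^9 = l`, the group acts on `X`, and all the generators but `k` fix `p`, then there is a labelling `f` of the
orbit of `p` by the 920808 points. `ncard_orbit_le`, `index_le`: consequences for the lengths of orbits and the index of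
subgroups. (The relation of length 238 is not used: these are `3 * 306936` points.)
-/

set_option autoImplicit false
set_option maxRecDepth 100000
set_option linter.constructorNameAsVariable false

namespace Cfsg.Agent.Fischer.TriUp

open Cfsg.Agent.Lib.PermNet Cfsg.Agent.SporRec.CosetBulk Cfsg.Agent.SporRec.CosetBulk2
  Cfsg.Agent.Fischer.Fi24RepLib Cfsg.Agent.Fischer.TriTwo Cfsg.Agent.Fischer.TriSound
  Cfsg.Agent.Fischer.TriDef Cfsg.Agent.Fischer.TriLev
open Cfsg.Agent.Fischer.Fi24RepDef (fst adj rep c0)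
open Cfsg.Spor.Fi24 (Gen)

/-! ### Collecting the kernel checks -/

theorem chkS (b : ℕ) (hb : b < 20) : chkL 20 983040 b T.relsS = true := by
  interval_cases b
  · exact TriChkS.s0
  · exact TriChkS.s1
  · exact TriChkS.s2
  · exact TriChkS.s3
  · exact TriChkS.s4
  · exact TriChkS.s5
  · exact TriChkS.s6
  · exact TriChkS.s7
  · exact TriChkS.s8
  · exact TriChkS.s9
  · exact TriChkS.s10
  · exact TriChkS.s11
  · exact TriChkS.s12
  · exact TriChkS.s13
  · exact TriChkS.s14
  · exact TriChkS.s15
  · exact TriChkS.s16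
  · exact TriChkS.s17
  · exact TriChkS.s18
  · exact TriChkS.s19

theorem chkE (b : ℕ) (hb : b < 20) : chkL 20 983040 b T.relsE = true := by
  interval_cases b
  · exact TriChkE.e0
  · exact TriChkE.e1
  · exact TriChkE.e2
  · exact TriChkE.e3
  · exact TriChkE.e4
  · exact TriChkE.e5
  · exact TriChkE.e6
  · exact TriChkE.e7
  · exact TriChkE.e8
  · exact TriChkE.e9
  · exact TriChkE.e10
  · exact TriChkE.e11
  · exact TriChkE.e12
  · exact TriChkE.e13
  · exact TriChkE.e14
  · exact TriChkE.e15
  · exact TriChkE.e16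
  · exact TriChkE.e17
  · exact TriChkE.e18
  · exact TriChkE.e19

theorem chkM_b (b : ℕ) (hb : b < 20) : chkL 20 983040 b (T.relsM .b) = true := by
  interval_cases b
  · exact TriChkB.m0
  · exact TriChkB.m1
  · exact TriChkB.m2
  · exact TriChkB.m3
  · exact TriChkB.m4
  · exact TriChkB.m5
  · exact TriChkB.m6
  · exact TriChkB.m7
  · exact TriChkB.m8
  · exact TriChkB.m9
  · exact TriChkB.m10
  · exact TriChkB.m11
  · exact TriChkB.m12
  · exact TriChkB.m13
  · exact TriChkB.m14
  · exact TriChkB.m15
  · exact TriChkB.m16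
  · exact TriChkB.m17
  · exact TriChkB.m18
  · exact TriChkB.m19

theorem chkM_d (b : ℕ) (hb : b < 20) : chkL 20 983040 b (T.relsM .d) = true := by
  interval_cases b
  · exact TriChkD.m0
  · exact TriChkD.m1
  · exact TriChkD.m2
  · exact TriChkD.m3
  · exact TriChkD.m4
  · exact TriChkD.m5
  · exact TriChkD.m6
  · exact TriChkD.m7
  · exact TriChkD.m8
  · exact TriChkD.m9
  · exact TriChkD.m10
  · exact TriChkD.m11
  · exact TriChkD.m12
  · exact TriChkD.m13
  · exact TriChkD.m14
  · exact TriChkD.m15
  · exact TriChkD.m16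
  · exact TriChkD.m17
  · exact TriChkD.m18
  · exact TriChkD.m19

theorem chkM_f (b : ℕ) (hb : b < 20) : chkL 20 983040 b (T.relsM .f) = true := by
  interval_cases b
  · exact TriChkF.m0
  · exact TriChkF.m1
  · exact TriChkF.m2
  · exact TriChkF.m3
  · exact TriChkF.m4
  · exact TriChkF.m5
  · exact TriChkF.m6
  · exact TriChkF.m7
  · exact TriChkF.m8
  · exact TriChkF.m9
  · exact TriChkF.m10
  · exact TriChkF.m11
  · exact TriChkF.m12
  · exact TriChkF.m13
  · exact TriChkF.m14
  · exact TriChkF.m15
  · exact TriChkF.m16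
  · exact TriChkF.m17
  · exact TriChkF.m18
  · exact TriChkF.m19

theorem chkM_j (b : ℕ) (hb : b < 20) : chkL 20 983040 b (T.relsM .j) = true := by
  interval_cases b
  · exact TriChkJ.m0
  · exact TriChkJ.m1
  · exact TriChkJ.m2
  · exact TriChkJ.m3
  · exact TriChkJ.m4
  · exact TriChkJ.m5
  · exact TriChkJ.m6
  · exact TriChkJ.m7
  · exact TriChkJ.m8
  · exact TriChkJ.m9
  · exact TriChkJ.m10
  · exact TriChkJ.m11
  · exact TriChkJ.m12
  · exact TriChkJ.m13
  · exact TriChkJ.m14
  · exact TriChkJ.m15
  · exact TriChkJ.m16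
  · exact TriChkJ.m17
  · exact TriChkJ.m18
  · exact TriChkJ.m19

theorem chkM_i (b : ℕ) (hb : b < 20) : chkL 20 983040 b (T.relsM .i) = true := by
  interval_cases b
  · exact TriChkI.m0
  · exact TriChkI.m1
  · exact TriChkI.m2
  · exact TriChkI.m3
  · exact TriChkI.m4
  · exact TriChkI.m5
  · exact TriChkI.m6
  · exact TriChkI.m7
  · exact TriChkI.m8
  · exact TriChkI.m9
  · exact TriChkI.m10
  · exact TriChkI.m11
  · exact TriChkI.m12
  · exact TriChkI.m13
  · exact TriChkI.m14
  · exact TriChkI.m15
  · exact TriChkI.m16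
  · exact TriChkI.m17
  · exact TriChkI.m18
  · exact TriChkI.m19

theorem chkM_k (b : ℕ) (hb : b < 20) : chkL 20 983040 b (T.relsM .k) = true := by
  interval_cases b
  · exact TriChkK.m0
  · exact TriChkK.m1
  · exact TriChkK.m2
  · exact TriChkK.m3
  · exact TriChkK.m4
  · exact TriChkK.m5
  · exact TriChkK.m6
  · exact TriChkK.m7
  · exact TriChkK.m8
  · exact TriChkK.m9
  · exact TriChkK.m10
  · exact TriChkK.m11
  · exact TriChkK.m12
  · exact TriChkK.m13
  · exact TriChkK.m14
  · exact TriChkK.m15
  · exact TriChkK.m16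
  · exact TriChkK.m17
  · exact TriChkK.m18
  · exact TriChkK.m19

theorem chkT : T.Chk 20 983040 where
  s := chkS
  m := by
    intro y hy
    cases y
    · exact absurd hy (by decide)
    · exact chkM_k
    · exact absurd hy (by decide)
    · exact chkM_b
    · exact absurd hy (by decide)
    · exact chkM_d
    · exact absurd hy (by decide)
    · exact chkM_f
    · exact absurd hy (by decide)
    · exact chkM_j
    · exact absurd hy (by decide)
    · exact chkM_i
  e := chkE

theorem hN : 983040 ≤ 2 ^ 20 := by norm_num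

theorem cov_chk (a : Gen) : coverD (D (snd a)) (cov a) = true := by
  cases a
  · exact TriCovL.cov
  · exact TriCovK.cov
  · exact TriCovA.cov
  · exact TriCovB.cov
  · exact TriCovC.cov
  · exact TriCovD.cov
  · exact TriCovE.cov
  · exact TriCovF.cov
  · exact TriCovG.cov
  · exact TriCovJ.cov
  · exact TriCovH.cov
  · exact TriCovI.cov

theorem sym_chk (a : Gen) : mapApp (net a) (lev a) = lev a := by
  cases a
  · exact TriCovL.sym
  · exact TriCovK.sym
  · exact TriCovA.sym
  · exact TriCovB.sym
  · exact TriCovC.sym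
  · exact TriCovD.sym
  · exact TriCovE.sym
  · exact TriCovF.sym
  · exact TriCovG.sym
  · exact TriCovJ.sym
  · exact TriCovH.sym
  · exact TriCovI.sym

theorem dom_chk (a : Gen) : Nat.beq ((net a).app (D (snd a))) (D (snd a)) = true := by
  cases a
  · exact TriCovL.dom
  · exact TriCovK.dom
  · exact TriCovA.dom
  · exact TriCovB.dom
  · exact TriCovC.dom
  · exact TriCovD.dom
  · exact TriCovE.dom
  · exact TriCovF.dom
  · exact TriCovG.dom
  · exact TriCovJ.dom
  · exact TriCovH.dom
  · exact TriCovI.dom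

theorem root_chk (a : Gen) : tb (treeF a) 0 = false := by
  cases a
  · exact TriPath.r_l
  · exact TriPath.r_k
  · exact TriPath.r_a
  · exact TriPath.r_b
  · exact TriPath.r_c
  · exact TriPath.r_d
  · exact TriPath.r_e
  · exact TriPath.r_f
  · exact TriPath.r_g
  · exact TriPath.r_j
  · exact TriPath.r_h
  · exact TriPath.r_i

theorem fix_chk (a : Gen) (ha : a ≠ .k) : Nat.beq ((net a).pt (root (snd a))) (root (snd a)) = true := by
  cases a
  · exact TriCovL.fix
  · exact absurd rfl ha
  · exact TriCovA.fix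
  · exact TriCovB.fix
  · exact TriCovC.fix
  · exact TriCovD.fix
  · exact TriCovE.fix
  · exact TriCovF.fix
  · exact TriCovG.fix
  · exact TriCovJ.fix
  · exact TriCovH.fix
  · exact TriCovI.fix

theorem path_chk (a : Gen) (s : ℕ × ℕ) (hs : s ∈ special a) : TriPath.chk a s = true := by
  cases a
  · exact absurd hs (by simp [special])
  · exact absurd hs (by simp [special])
  · simp only [special, List.mem_cons, List.not_mem_nil, or_false] at hs
    rcases hs with rfl | rfl | rfl
    · exact TriPath.c_a0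
    · exact TriPath.c_a1
    · exact TriPath.c_a2
  · exact absurd hs (by simp [special])
  · simp only [special, List.mem_cons, List.not_mem_nil, or_false] at hs
    rcases hs with rfl | rfl
    · exact TriPath.c_c0
    · exact TriPath.c_c1
  · simp only [special, List.mem_cons, List.not_mem_nil, or_false] at hs
    rcases hs with rfl | rfl
    · exact TriPath.c_d0
    · exact TriPath.c_d1
  · exact absurd hs (by simp [special])
  · simp only [special, List.mem_cons, List.not_mem_nil, or_false] at hs
    rcases hs with rfl | rfl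
    · exact TriPath.c_f0
    · exact TriPath.c_f1
  · exact absurd hs (by simp [special])
  · exact absurd hs (by simp [special])
  · exact absurd hs (by simp [special])
  · exact absurd hs (by simp [special])

theorem path_append (a : Gen) (s : ℕ × ℕ) (hs : s ∈ special a) : W64.rotate s.2 = path s.2 ++ [a] := by
  revert s
  cases a <;> decide +kernel

theorem special_le (a : Gen) (s : ℕ × ℕ) (hs : s ∈ special a) : s.2 ≤ W64.length := by
  revert s
  cases a <;> decide +kernel

/-! ### Consequences -/

/-- The set of points. -/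
def Dom (i : ℕ) : Prop := (D false).testBit i = true

theorem testBit_D (c : Bool) (p : ℕ) : (D c).testBit p = (D false).testBit (toF T c p) := by
  cases c
  · rfl
  · have h : D true = TriNet.pi.app (D false) := rfl
    rw [h, testBit_app ok_pi]
    rfl

theorem exists_pos (c : Bool) (i : ℕ) (hi : Dom i) : ∃ p, i = toF T c p ∧ (D c).testBit p = true := by
  refine ⟨(toF T c)⁻¹ i, ?_, ?_⟩
  · rw [Equiv.Perm.inv_def, Equiv.apply_symm_apply]
  · rw [testBit_D, Equiv.Perm.inv_def, Equiv.apply_symm_apply]; exact hi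

theorem dom_rho (a : Gen) (i : ℕ) (hi : Dom i) : Dom (T.rho a i) := by
  obtain ⟨p, rfl, hp⟩ := exists_pos (snd a) i hi
  rw [rho_toF okT]
  show (D false).testBit _ = true
  rw [← testBit_D]
  have h := Nat.eq_of_beq_eq_true (dom_chk a)
  rw [← hp]
  conv_rhs => rw [← h]
  exact (testBit_app (ok_net a) _ _).symm

theorem lvl_rho (a : Gen) (i : ℕ) (hi : Dom i) : lvl T lev a (T.rho a i) = lvl T lev a i := by
  obtain ⟨p, rfl, -⟩ := exists_pos (snd a) i hi
  rw [rho_toF okT, lvl_toF, lvl_toF, ← val_mapApp (okT.net a)]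
  show val (mapApp (net a) (lev a)) p = _
  rw [sym_chk]

theorem rho_rho (a : Gen) (i : ℕ) : T.rho a (T.rho a i) = i := by
  rw [← Equiv.Perm.mul_apply, chkT.rho_sq okT hN, Equiv.Perm.one_apply]

theorem val_rkD (c : Bool) (p : ℕ) : val (rkD c) p = val rk (toF T c p) := by
  cases c
  · rfl
  · show val (mapApp TriNet.pi rk) p = _
    rw [val_mapApp ok_pi]; rfl

theorem treeF_toF (a : Gen) (p : ℕ) : (treeF a).testBit (toF T (snd a) p) = (tree a).testBit p := by
  unfold treeF
  cases h : snd a
  · rfl
  · show (TriNet.pir.app (tree a)).testBit (TriNet.pi.perm p) = _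
    rw [testBit_app ok_pir, show TriNet.pir.perm = TriNet.pi.perm⁻¹ from okT.inv, ← Equiv.Perm.mul_apply,
      inv_mul_cancel, Equiv.Perm.one_apply]

theorem rank_lt (a : Gen) (i : ℕ) (hi : (treeF a).testBit i = true) : val rk (T.rho a i) < val rk i := by
  obtain ⟨p, rfl⟩ : ∃ p, i = toF T (snd a) p :=
    ⟨(toF T (snd a))⁻¹ i, by rw [Equiv.Perm.inv_def, Equiv.apply_symm_apply]⟩
  rw [treeF_toF] at hi
  unfold tree at hi
  rw [TriSound.testBit_land, ltP_zero, val_mapApp (ok_net a), val_rkD, val_rkD] at hi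
  rw [rho_toF okT]
  exact hi.2

theorem disjL_spec (l : List ℕ) (acc : ℕ) (h : TriPath.disjL l acc = true) :
    (∀ p ∈ l, p &&& acc = 0) ∧ l.Pairwise (fun p q => p &&& q = 0) := by
  induction l generalizing acc with
  | nil => exact ⟨by simp, List.Pairwise.nil⟩
  | cons p l ih =>
    have h' : (Nat.beq (Nat.land p acc) 0 && seqB (Nat.lor p acc) (TriPath.disjL l)) = true := h
    rw [Bool.and_eq_true, seqB_eq] at h'
    obtain ⟨h1, h2⟩ := h'
    obtain ⟨h3, h4⟩ := ih _ h2
    have h1' : p &&& acc = 0 := Nat.eq_of_beq_eq_true h1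
    have h3' : ∀ q ∈ l, q &&& p = 0 ∧ q &&& acc = 0 := by
      intro q hq
      have h5 : q &&& (p ||| acc) = 0 := h3 q hq
      rw [Nat.and_or_distrib_left, Nat.or_eq_zero_iff] at h5
      exact h5
    refine ⟨?_, List.pairwise_cons.2 ⟨?_, h4⟩⟩
    · intro q hq
      rcases List.mem_cons.1 hq with rfl | hq
      · exact h1'
      · exact (h3' q hq).2
    · intro q hq
      rw [Nat.and_comm]
      exact (h3' q hq).1

theorem mem_gens (a : Gen) : a ∈ gens := by cases a <;> decide

theorem tree_disj (a b : Gen) (i : ℕ) (ha : (treeF a).testBit i = true) (hb : (treeF b).testBit i = true) :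
    a = b := by
  by_contra hab
  have h := (disjL_spec _ _ TriPath.disj).2
  rw [List.pairwise_map] at h
  have h2 : treeF a &&& treeF b = 0 := by
    have : Std.Symm (fun x y : Gen => treeF x &&& treeF y = 0) :=
      ⟨fun x y hxy => by rw [Nat.and_comm]; exact hxy⟩
    exact h.forall (mem_gens a) (mem_gens b) hab
  have h3 := congrArg (fun x => Nat.testBit x i) h2
  simp only [Nat.testBit_and, ha, hb, Nat.zero_testBit] at h3
  exact absurd h3 (by simp)

theorem Dom.lt {i : ℕ} (hi : Dom i) : i < 983040 := by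
  by_contra hc
  have h2 : (D false) >>> 983040 = 0 := Nat.eq_of_beq_eq_true TriPath.size
  have h3 := congrArg (fun x => Nat.testBit x (i - 983040)) h2
  simp only [Nat.testBit_shiftRight, Nat.zero_testBit] at h3
  rw [show 983040 + (i - 983040) = i by omega, show (D false).testBit i = true from hi] at h3
  exact absurd h3 (by simp)

theorem dom_zero : Dom 0 := by
  have := TriPath.rootD
  rwa [tb_eq] at this

theorem toF_root (c : Bool) : toF T c (root c) = 0 := by
  cases c
  · rfl
  · show TriNet.pi.perm 308096 = 0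
    rw [← Net.pt_eq ok_pi]; exact Nat.eq_of_beq_eq_true TriPath.rootT

theorem rho_root (a : Gen) (ha : a ≠ .k) : T.rho a 0 = 0 := by
  have h1 : (net a).perm (root (snd a)) = root (snd a) := by
    rw [← Net.pt_eq (ok_net a)]; exact Nat.eq_of_beq_eq_true (fix_chk a ha)
  have h2 := rho_toF okT a (root (snd a))
  rw [toF_root] at h2
  rw [h2]
  show toF T (snd a) ((net a).perm (root (snd a))) = 0
  rw [h1, toF_root]

theorem mem_others (a b : Gen) (h : b ∈ others a) : b ≠ a := by
  revert h; cases a <;> cases b <;> decide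

/-! ### The relations -/

section gen
variable {G X : Type*} [Group G] [MulAction G X]

/-- The relations of the presentation. -/
structure IsRel0 (x : Gen → G) : Prop where
  inv : ∀ a, x a * x a = 1
  comm : ∀ a b, adj2 a b = false → x a * x b = x b * x a
  braid : ∀ a b, adj2 a b = true → x a * x b * x a = x b * x a * x b
  el : (c0.map x).prod ^ 9 = x .l

theorem isRel0_rho : IsRel0 T.rho where
  inv := chkT.rho_sq okT hN
  comm _ _ h := chkT.rho_comm okT hN h
  braid _ _ h := chkT.rho_braid okT hN h
  el := chkT.c_pow okT hN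

theorem map_rep {M : Type*} [Monoid M] (x : Gen → M) (n : ℕ) (w : List Gen) :
    ((rep n w).map x).prod = (w.map x).prod ^ n := by
  induction n with
  | zero => rw [pow_zero]; rfl
  | succ n ih =>
    show ((w ++ rep n w).map x).prod = _
    rw [List.map_append, List.prod_append, ih, pow_succ']

theorem IsRel0.inv_eq {x : Gen → G} (h : IsRel0 x) (a : Gen) : (x a)⁻¹ = x a :=
  inv_eq_of_mul_eq_one_left (h.inv a)

theorem IsRel0.prod_reverse {x : Gen → G} (h : IsRel0 x) (w : List Gen) :
    (w.reverse.map x).prod = ((w.map x).prod)⁻¹ := by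
  induction w with
  | nil => simp
  | cons a w ih =>
    rw [List.reverse_cons, List.map_append, List.prod_append, ih, List.map_cons, List.map_nil,
      List.prod_singleton, List.map_cons, List.prod_cons, mul_inv_rev, h.inv_eq]

theorem IsRel0.prod_W64 {x : Gen → G} (h : IsRel0 x) : (W64.map x).prod = 1 := by
  show ((.l :: rep 9 c0 : List Gen).map x).prod = 1
  rw [List.map_cons, List.prod_cons, map_rep, h.el, h.inv]

theorem prod_rotate {x : Gen → G} (w : List Gen) (h : (w.map x).prod = 1) (m : ℕ) (hm : m ≤ w.length) :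
    ((w.rotate m).map x).prod = 1 := by
  rw [List.rotate_eq_drop_append_take hm, List.map_append, List.prod_append]
  have h2 : ((w.take m).map x).prod * ((w.drop m).map x).prod = 1 := by
    rw [← List.prod_append, ← List.map_append, List.take_append_drop, h]
  rw [mul_eq_one_iff_eq_inv.1 h2, mul_inv_cancel]

theorem IsRel0.prod_path {x : Gen → G} (h : IsRel0 x) (a : Gen) (s : ℕ × ℕ) (hs : s ∈ special a) :
    ((path s.2).reverse.map x).prod = x a := by
  have h2 := prod_rotate (x := x) _ h.prod_W64 s.2 (special_le a s hs)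
  rw [path_append a s hs, List.map_append, List.prod_append] at h2
  simp only [List.map_cons, List.map_nil, List.prod_singleton] at h2
  rw [h.prod_reverse, mul_eq_one_iff_eq_inv.1 h2, inv_inv]

/-- The general conditions of the certificate. -/
theorem IsRel0.base {x : Gen → G} (h : IsRel0 x) : Base x T.rho (lvl T lev) Dom adj2 where
  dom := dom_rho
  xx := h.inv
  xc := h.comm
  xb := h.braid
  rr := isRel0_rho.inv
  rc := isRel0_rho.comm
  rb := isRel0_rho.braid
  sym := lvl_rho

/-- The labelling of the orbit. -/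
theorem exists_label (x : Gen → G) (h : IsRel0 x) (p : X) (hp : ∀ a, a ≠ .k → x a • p = p) :
    ∃ f : ℕ → X, f 0 = p ∧ ∀ a, ∀ i, Dom i → x a • f i = f (T.rho a i) := by
  obtain ⟨f, hf0, hf⟩ := exists_tree (n := 983040) x (fun a i => T.rho a i) treeF (val rk) p 0
    (fun a => by rw [← tb_eq]; exact root_chk a) tree_disj (fun a i _ hi => rank_lt a i hi)
  refine ⟨f, hf0, sound h.base ?_⟩
  intro a i hi
  obtain ⟨q, hq, hD⟩ := exists_pos (snd a) i hi
  obtain ⟨M, hM, hMq⟩ := cover_of_coverD (cov_chk a) hD
  have hnet : T.rho a i = toF T (snd a) ((net a).perm q) := by rw [hq]; exact rho_toF okT a q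
  have htree : ∀ r, Dom (toF T (snd a) r) → (tree a).testBit r = true →
      x a • f (toF T (snd a) r) = f (T.rho a (toF T (snd a) r)) := by
    intro r hr ht
    rw [← treeF_toF] at ht
    exact hf a _ hr.lt ht
  have hspec : ∀ s ∈ special a, Jt x T.rho (lvl T lev) adj2 f a (toF T (snd a) s.1) := by
    intro s hs
    refine Or.inr (Or.inr ⟨path s.2, h.prod_path a s hs, ?_, ?_⟩)
    · rw [isRel0_rho.prod_path a s hs]
    · have h1 := pathK_spec okT lev _ _ _ _ (path_chk a s hs)
      rw [valK_eq] at h1
      rw [lvl_toF]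
      exact h1
  unfold cov at hM
  simp only [List.mem_cons, List.mem_append, List.mem_map] at hM
  rcases hM with rfl | rfl | rfl | ⟨b, hb, rfl⟩ | ⟨s, hs, rfl⟩ | ⟨s, hs, rfl⟩
  · -- the base point
    have hak : a ≠ .k := by
      rintro rfl
      exact absurd hMq (by simp [rootM])
    have hr : rootM a = 1 <<< root (snd a) := by
      revert hak; cases a <;> intro hak <;> first | exact absurd rfl hak | rfl
    rw [hr, Nat.one_shiftLeft, Nat.testBit_two_pow] at hMq
    have e : root (snd a) = q := by simpa using hMq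
    have hi0 : i = 0 := by rw [hq, ← e, toF_root]
    left; left
    rw [hi0, hf0, hp a hak, rho_root a hak, hf0]
  · left; left
    rw [hq] at hi ⊢
    exact htree q hi hMq
  · right; left
    rw [testBit_app (ok_net a)] at hMq
    have h1 := dom_rho a i hi
    rw [hnet] at h1 ⊢
    exact htree _ h1 hMq
  · left; right; left
    exact ⟨b, spec_M okT lev a b adj2 q hMq i hq (lvl_rho a i hi) (rho_rho b i)⟩
  · left
    have hMq' : (1 <<< s.1).testBit q = true := hMq
    rw [Nat.one_shiftLeft, Nat.testBit_two_pow] at hMq'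
    have e : s.1 = q := by simpa using hMq'
    rw [hq, ← e]
    exact hspec s hs
  · right
    rw [testBit_app (ok_net a)] at hMq
    have hMq' : (1 <<< s.1).testBit ((net a).perm q) = true := hMq
    rw [Nat.one_shiftLeft, Nat.testBit_two_pow] at hMq'
    have e : s.1 = (net a).perm q := by simpa using hMq'
    rw [hnet, ← e]
    exact hspec s hs

/-! ### The number of points -/

theorem testBit_UG3 (i : ℕ) : Dom i ↔ (Fi24RepOrb.UG).testBit i = true ∨
    (327680 ≤ i ∧ (Fi24RepOrb.UG).testBit (i - 327680) = true) ∨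
    (655360 ≤ i ∧ (Fi24RepOrb.UG).testBit (i - 655360) = true) := by
  show (Nat.lor Fi24RepOrb.UG (Nat.lor (Nat.shiftLeft Fi24RepOrb.UG 327680)
    (Nat.shiftLeft Fi24RepOrb.UG 655360))).testBit i = true ↔ _
  rw [testBit_lor', testBit_lor']
  show (_ || ((Fi24RepOrb.UG <<< 327680).testBit i || (Fi24RepOrb.UG <<< 655360).testBit i)) = true ↔ _
  rw [Nat.testBit_shiftLeft, Nat.testBit_shiftLeft]
  simp

theorem UG_lt {i : ℕ} (hi : (Fi24RepOrb.UG).testBit i = true) : i < 327680 := by
  by_contra hc
  have h1 : Nat.beq (Nat.shiftRight Fi24RepOrb.UG 327680) 0 = true := TriPath.sizeU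
  have h2 : Fi24RepOrb.UG >>> 327680 = 0 := Nat.eq_of_beq_eq_true h1
  have h3 := congrArg (fun x => Nat.testBit x (i - 327680)) h2
  simp only [Nat.testBit_shiftRight, Nat.zero_testBit] at h3
  rw [show 327680 + (i - 327680) = i by omega, hi] at h3
  exact absurd h3 (by simp)

theorem ncard_Dom : {i | Dom i}.ncard = 920808 := by
  have hfin : {p : ℕ | (Fi24RepOrb.UG).testBit p = true}.Finite :=
    (Set.finite_lt_nat 327680).subset fun i hi => UG_lt hi
  have e : {i | Dom i} = {p : ℕ | (Fi24RepOrb.UG).testBit p = true} ∪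
      ((fun p => p + 327680) '' {p : ℕ | (Fi24RepOrb.UG).testBit p = true} ∪
        (fun p => p + 655360) '' {p : ℕ | (Fi24RepOrb.UG).testBit p = true}) := by
    ext i
    rw [Set.mem_setOf_eq, testBit_UG3]
    simp only [Set.mem_union, Set.mem_setOf_eq, Set.mem_image]
    constructor
    · rintro (h | ⟨h1, h2⟩ | ⟨h1, h2⟩)
      · exact Or.inl h
      · exact Or.inr (Or.inl ⟨_, h2, by omega⟩)
      · exact Or.inr (Or.inr ⟨_, h2, by omega⟩)
    · rintro (h | ⟨q, h1, rfl⟩ | ⟨q, h1, rfl⟩)
      · exact Or.inl h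
      · exact Or.inr (Or.inl ⟨by omega, by rwa [Nat.add_sub_cancel]⟩)
      · exact Or.inr (Or.inr ⟨by omega, by rwa [Nat.add_sub_cancel]⟩)
  have i1 : ((fun p => p + 327680) '' {p : ℕ | (Fi24RepOrb.UG).testBit p = true}).ncard = 306936 := by
    rw [Set.ncard_image_of_injective _ (add_left_injective 327680)]; exact Fi24RepOrb.ncard_G
  have i2 : ((fun p => p + 655360) '' {p : ℕ | (Fi24RepOrb.UG).testBit p = true}).ncard = 306936 := by
    rw [Set.ncard_image_of_injective _ (add_left_injective 655360)]; exact Fi24RepOrb.ncard_G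
  rw [e, Set.ncard_union_eq ?_ hfin ((hfin.image _).union (hfin.image _)), Set.ncard_union_eq ?_ (hfin.image _)
    (hfin.image _), i1, i2, Fi24RepOrb.ncard_G]
  · rw [Set.disjoint_left]
    rintro _ ⟨q, hq, rfl⟩ ⟨r, hr, h⟩
    have h1 := UG_lt (show (Fi24RepOrb.UG).testBit q = true from hq)
    simp only at h
    omega
  · rw [Set.disjoint_left]
    rintro i hi (⟨q, hq, rfl⟩ | ⟨q, hq, rfl⟩)
    · have h1 := UG_lt (show (Fi24RepOrb.UG).testBit (q + 327680) = true from hi)
      omega
    · have h1 := UG_lt (show (Fi24RepOrb.UG).testBit (q + 655360) = true from hi)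
      omega

theorem finite_Dom : {i | Dom i}.Finite := by
  apply Set.finite_of_ncard_ne_zero
  rw [ncard_Dom]; norm_num

/-- The orbit of a point fixed by all generators but `k` has at most 920808 points. -/
theorem ncard_orbit_le (x : Gen → G) (h : IsRel0 x) (hx : Subgroup.closure (Set.range x) = ⊤) (p : X)
    (hp : ∀ a, a ≠ .k → x a • p = p) :
    (MulAction.orbit G p).Finite ∧ (MulAction.orbit G p).ncard ≤ 920808 := by
  obtain ⟨f, hf0, hf⟩ := exists_label x h p hp
  have hstep : ∀ a, ∀ q ∈ f '' {i | Dom i}, x a • q ∈ f '' {i | Dom i} := by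
    rintro a _ ⟨i, hi, rfl⟩
    exact ⟨T.rho a i, dom_rho a i hi, (hf a i hi).symm⟩
  have hall : ∀ g : G, ∀ q, q ∈ f '' {i | Dom i} ↔ g • q ∈ f '' {i | Dom i} := by
    intro g
    have hg : g ∈ Subgroup.closure (Set.range x) := by rw [hx]; exact Subgroup.mem_top g
    induction hg using Subgroup.closure_induction with
    | mem y hy =>
      obtain ⟨a, rfl⟩ := hy
      intro q
      refine ⟨hstep a q, fun h' => ?_⟩
      have h2 := hstep a _ h'
      rwa [smul_smul, h.inv, one_smul] at h2
    | one => intro q; rw [one_smul]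
    | mul y z _ _ hy hz =>
      intro q
      rw [mul_smul, ← hy, ← hz]
    | inv y _ hy =>
      intro q
      have h' := hy (y⁻¹ • q)
      rw [smul_inv_smul] at h'
      exact h'.symm
  have hsub : MulAction.orbit G p ⊆ f '' {i | Dom i} := by
    rintro _ ⟨g, rfl⟩
    exact (hall g p).1 ⟨0, dom_zero, hf0⟩
  refine ⟨(finite_Dom.image f).subset hsub, ?_⟩
  rw [← ncard_Dom]
  exact (Set.ncard_le_ncard hsub (finite_Dom.image f)).trans (Set.ncard_image_le finite_Dom)

/-- A subgroup containing all generators but `k` has index at most 920808. -/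
theorem index_le (x : Gen → G) (h : IsRel0 x) (hx : Subgroup.closure (Set.range x) = ⊤) (H : Subgroup G)
    (hH : ∀ a, a ≠ .k → x a ∈ H) : H.index ≤ 920808 ∧ H.index ≠ 0 := by
  have hp : ∀ a, a ≠ .k → x a • ((1 : G) : G ⧸ H) = ((1 : G) : G ⧸ H) := by
    intro a ha
    show ((x a * 1 : G) : G ⧸ H) = _
    rw [mul_one, QuotientGroup.eq, mul_one]
    exact H.inv_mem (hH a ha)
  obtain ⟨h1, h2⟩ := ncard_orbit_le x h hx ((1 : G) : G ⧸ H) hp
  have hu : MulAction.orbit G ((1 : G) : G ⧸ H) = Set.univ := MulAction.orbit_eq_univ G _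
  rw [hu] at h1 h2
  haveI : Finite (G ⧸ H) := Set.finite_univ_iff.1 h1
  refine ⟨?_, Subgroup.index_ne_zero_of_finite⟩
  rw [Set.ncard_univ] at h2
  exact h2

end gen

end Cfsg.Agent.Fischer.TriUp
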