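import Cfsg.Agent.SporadicStructure.UnitTwo

/-!
# The action of `SU n F 2` on isotropic points, indexed by a type `L`
-/

set_option autoImplicit false
set_option linter.unusedSectionVars false

namespace Cfsg.Agent.Fischer.UnitAct

open Cfsg Cfsg.Agent.LieClassical.HermBasic Cfsg.Agent.ClassicalGeometry.UnitTransv
  Cfsg.Agent.SporadicStructure.UnitTwo

variable {F : Type*} [Field F] [Fintype F] {n : ℕ}

/-- An indexing of the isotropic points. -/
structure Points (F : Type*) [Field F] (n : ℕ) (L : Type*) where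
  vec : L → (Fin n → F)
  iso : ∀ y, hermForm n F 2 (vec y) (vec y) = 0
  ne : ∀ y, vec y ≠ 0
  cover : ∀ u : Fin n → F, u ≠ 0 → hermForm n F 2 u u = 0 → ∃ y, ∃ c : F, u = c • vec y
  uniq : ∀ y y' : L, ∀ c : F, vec y = c • vec y' → y = y'

variable {L : Type*} (P : Points F n L)

theorem exists_image (A : SU n F 2) (y : L) : ∃ z, ∃ c : F, act A (P.vec y) = c • P.vec z := by
  apply P.cover
  · intro h
    apply P.ne y
    rw [← act_inv_act A (P.vec y), h, act_zero]
  · rw [herm_act, P.iso]

/-- image of a point -/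
noncomputable def img (A : SU n F 2) (y : L) : L := (exists_image P A y).choose

theorem img_spec (A : SU n F 2) (y : L) : ∃ c : F, act A (P.vec y) = c • P.vec (img P A y) :=
  (exists_image P A y).choose_spec

theorem img_eq {A : SU n F 2} {y z : L} {c : F} (h : act A (P.vec y) = c • P.vec z) :
    img P A y = z := by
  obtain ⟨d, hd⟩ := img_spec P A y
  have hd0 : d ≠ 0 := by
    rintro rfl
    rw [zero_smul] at hd
    apply P.ne y
    rw [← act_inv_act A (P.vec y), hd, act_zero]
  apply P.uniq _ _ (d⁻¹ * c)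
  rw [mul_smul, ← h, hd, smul_smul, inv_mul_cancel₀ hd0, one_smul]

/-- the action on the index set -/
@[reducible] noncomputable def action : MulAction (SU n F 2) L where
  smul A y := img P A y
  one_smul y := by
    show img P 1 y = y
    apply img_eq P (c := 1)
    rw [act_one, one_smul]
  mul_smul A B y := by
    show img P (A * B) y = img P A (img P B y)
    obtain ⟨c, hc⟩ := img_spec P B y
    obtain ⟨d, hd⟩ := img_spec P A (img P B y)
    apply img_eq P (c := c * d)
    rw [act_mul, hc, act_smul, hd, smul_smul]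

/-- the permutation representation -/
noncomputable def rep : SU n F 2 →* Equiv.Perm L :=
  @MulAction.toPermHom (SU n F 2) L _ (action P)

theorem rep_apply (A : SU n F 2) (y : L) : rep P A y = img P A y := rfl

theorem rep_eq {A : SU n F 2} {y z : L} {c : F} (h : act A (P.vec y) = c • P.vec z) :
    rep P A y = z := img_eq P h

theorem rep_spec (A : SU n F 2) (y : L) : ∃ c : F, act A (P.vec y) = c • P.vec (rep P A y) :=
  img_spec P A y

theorem scalar_ne_zero {A : SU n F 2} {y z : L} {c : F} (h : act A (P.vec y) = c • P.vec z) :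
    c ≠ 0 := by
  rintro rfl
  rw [zero_smul] at h
  apply P.ne y
  rw [← act_inv_act A (P.vec y), h, act_zero]

/-- the kernel is the centre -/
theorem ker_rep (hF : Fintype.card F = 2 ^ 2) (hn : 4 ≤ n) :
    (rep P).ker = Subgroup.center (SU n F 2) := by
  ext A
  rw [MonoidHom.mem_ker]
  constructor
  · intro h
    rw [Subgroup.mem_center_iff]
    intro B
    have hB : B ∈ R (n := n) hF := by rw [R_eq_top hF hn]; trivial
    have hle : R (n := n) hF ≤ Subgroup.centralizer {A} := by
      unfold R
      rw [Subgroup.closure_le]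
      rintro _ ⟨v, hv, hv0, rfl⟩
      rw [SetLike.mem_coe, Subgroup.mem_centralizer_singleton_iff]
      obtain ⟨y, c, hc⟩ := P.cover v hv0 hv
      obtain ⟨d, hd⟩ := rep_spec P A y
      have hy : rep P A y = y := by rw [h]; rfl
      rw [hy] at hd
      have hd0 : d ≠ 0 := scalar_ne_zero P hd
      have hAv : act A v = d • v := by rw [hc, act_smul, hd, smul_comm]
      have hgv : hermForm n F 2 (act A v) (act A v) = 0 := by rw [herm_act, hv]
      have h1 := conj_T hF A v hv hgv
      have h2 : T hF (act A v) hgv = T hF v hv := by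
        have hdv : hermForm n F 2 (d • v) (d • v) = 0 := by rw [← hAv]; exact hgv
        rw [← T_smul hF d hd0 v hv hdv]
        congr 1
      rw [h2] at h1
      exact (mul_inv_eq_iff_eq_mul.1 h1).symm
    exact Subgroup.mem_centralizer_singleton_iff.1 (hle hB)
  · intro h
    ext y
    show rep P A y = y
    obtain ⟨d, hd⟩ := rep_spec P A y
    -- A commutes with the transvection of `vec y`
    have hgv : hermForm n F 2 (act A (P.vec y)) (act A (P.vec y)) = 0 := by
      rw [herm_act, P.iso]
    have h1 := conj_T hF A (P.vec y) (P.iso y) hgv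
    have h2 : A * T hF (P.vec y) (P.iso y) * A⁻¹ = T hF (P.vec y) (P.iso y) := by
      rw [← (Subgroup.mem_center_iff.1 h) (T hF (P.vec y) (P.iso y))]
      group
    rw [h2] at h1
    -- the transvection determines the line
    obtain ⟨x, hx⟩ : ∃ x, hermForm n F 2 x (P.vec y) ≠ 0 := by
      by_contra hc
      push Not at hc
      apply P.ne y
      apply herm_nondeg (q := 2) hF
      intro v
      rw [herm_swap hF, hc v]
      simp
    have h3 := congrArg (fun B => act B x) h1
    simp only [act_T] at h3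
    have h4 : hermForm n F 2 x (P.vec y) • P.vec y =
        hermForm n F 2 x (act A (P.vec y)) • act A (P.vec y) := add_left_cancel h3
    apply (P.uniq y _ ((hermForm n F 2 x (P.vec y))⁻¹ * (hermForm n F 2 x (act A (P.vec y)) * d)) _).symm
    rw [mul_smul, mul_smul, ← hd, ← h4, smul_smul, inv_mul_cancel₀ hx, one_smul]

/-- the representation of `PSU` -/
noncomputable def prep (hF : Fintype.card F = 2 ^ 2) (hn : 4 ≤ n) : PSU n F 2 →* Equiv.Perm L :=
  QuotientGroup.lift (Subgroup.center (SU n F 2)) (rep P) (fun A hA => by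
    have : A ∈ (rep P).ker := by rw [ker_rep P hF hn]; exact hA
    exact this)

theorem prep_injective (hF : Fintype.card F = 2 ^ 2) (hn : 4 ≤ n) :
    Function.Injective (prep P hF hn) := by
  rw [injective_iff_map_eq_one]
  intro x
  induction x using QuotientGroup.induction_on with
  | H A =>
    intro h
    rw [QuotientGroup.eq_one_iff, ← ker_rep P hF hn]
    exact h

theorem prep_range (hF : Fintype.card F = 2 ^ 2) (hn : 4 ≤ n) :
    (prep P hF hn).range = (rep P).range := by
  ext σ
  constructor
  · rintro ⟨x, rfl⟩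
    induction x using QuotientGroup.induction_on with
    | H A => exact ⟨A, rfl⟩
  · rintro ⟨A, rfl⟩
    exact ⟨QuotientGroup.mk A, rfl⟩

/-- Matching of an abstract group acting on `L` with `SU n F 2`. -/
theorem range_eq (hF : Fintype.card F = 2 ^ 2) (hn : 4 ≤ n) {C : Type*} [Group C]
    (α : C →* Equiv.Perm L) (S : Set C) (hS : Subgroup.closure S = ⊤)
    (hmatch : ∀ s ∈ S, ∃ A : SU n F 2, α s = rep P A)
    (τ : L → C) (hτ : ∀ (k : C) (y : L), τ (α k y) = k * τ y * k⁻¹)
    (l0 : L) (htrans : ∀ y, ∃ k : C, α k l0 = y)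
    (h0 : α (τ l0) = rep P (T hF (P.vec l0) (P.iso l0))) :
    α.range = (rep P).range := by
  have hle : α.range ≤ (rep P).range := by
    rw [MonoidHom.range_eq_map, ← hS, MonoidHom.map_closure, Subgroup.closure_le]
    rintro _ ⟨s, hs, rfl⟩
    obtain ⟨A, hA⟩ := hmatch s hs
    exact ⟨A, hA.symm⟩
  apply le_antisymm hle
  rw [MonoidHom.range_eq_map, ← R_eq_top hF hn, R, MonoidHom.map_closure, Subgroup.closure_le]
  rintro _ ⟨_, ⟨v, hv, hv0, rfl⟩, rfl⟩
  obtain ⟨y, c, hc⟩ := P.cover v hv0 hv
  have hc0 : c ≠ 0 := by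
    rintro rfl
    rw [zero_smul] at hc
    exact hv0 hc
  have e1 : T hF v hv = T hF (P.vec y) (P.iso y) := by
    have hcv : hermForm n F 2 (c • P.vec y) (c • P.vec y) = 0 := by rw [← hc]; exact hv
    rw [← T_smul hF c hc0 (P.vec y) (P.iso y) hcv]
    congr 1
  rw [e1]
  obtain ⟨k, rfl⟩ := htrans y
  obtain ⟨A, hA⟩ := hle ⟨k, rfl⟩
  refine ⟨τ (α k l0), ?_⟩
  rw [hτ, map_mul, map_mul, map_inv, h0, ← hA, ← map_mul, ← map_inv, ← map_mul]
  obtain ⟨d, hd⟩ := rep_spec P A l0
  have hd0 : d ≠ 0 := scalar_ne_zero P hd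
  have hgv : hermForm n F 2 (act A (P.vec l0)) (act A (P.vec l0)) = 0 := by rw [herm_act, P.iso]
  rw [conj_T hF A (P.vec l0) (P.iso l0) hgv]
  congr 1
  have hdv : hermForm n F 2 (d • P.vec (rep P A l0)) (d • P.vec (rep P A l0)) = 0 := by
    rw [← hd]; exact hgv
  rw [← T_smul hF d hd0 (P.vec (rep P A l0)) (P.iso _) hdv]
  congr 1

end Cfsg.Agent.Fischer.UnitAct
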