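import Cfsg.Agent.Fischer.Vec22
import Cfsg.Agent.Fischer.UnitAct
import Cfsg.Agent.Fischer.Even22

/-!
# Fi22: the centraliser of a transposition is a non-split double cover of `PSU(6, 2)`
-/

set_option autoImplicit false

namespace Cfsg.Agent.Fischer.Unit22

open Cfsg Cfsg.Agent.Fischer.Cert Cfsg.Agent.Fischer.Abstract Cfsg.Agent.Fischer.Centralizer
  Cfsg.Agent.Fischer.Group22 Cfsg.Agent.Fischer.Rank22 Cfsg.Agent.Fischer.Vec22
  Cfsg.Agent.SporRec.GF4 Cfsg.Agent.ClassicalGeometry.UnitTransv
  Cfsg.Agent.SporadicStructure.UnitTwo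

/-! ### arithmetic -/

theorem ad_eq (x y : F4) : ad x y = x + y := by cases x <;> cases y <;> rfl
theorem mu_eq (x y : F4) : mu x y = x * y := by cases x <;> cases y <;> rfl
theorem vsq_eq (x : F4) : Vec22.sq x = x ^ 2 := by rw [pow_two]; cases x <;> rfl
theorem isZ_iff (x : F4) : isZ x = true ↔ x = 0 := by
  cases x
  · exact ⟨fun _ => rfl, fun _ => rfl⟩
  · exact ⟨fun h => absurd h (by decide), fun h => absurd h (by decide)⟩
  · exact ⟨fun h => absurd h (by decide), fun h => absurd h (by decide)⟩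
  · exact ⟨fun h => absurd h (by decide), fun h => absurd h (by decide)⟩

/-- the vector as a function -/
def fn (u : V6) : Fin 6 → F4 := ![u.x0, u.x1, u.x2, u.x3, u.x4, u.x5]

/-- the function as a vector -/
def unfn (f : Fin 6 → F4) : V6 := ⟨f 0, f 1, f 2, f 3, f 4, f 5⟩

theorem fn_unfn (f : Fin 6 → F4) : fn (unfn f) = f := by
  funext i
  fin_cases i <;> rfl

theorem unfn_fn (u : V6) : unfn (fn u) = u := rfl

theorem fn_injective : Function.Injective fn := fun u v h => by
  rw [← unfn_fn u, h, unfn_fn]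

theorem herm_eq (u w : V6) : hermForm 6 F4 2 (fn u) (fn w) = herm u w := by
  cases u; cases w
  simp only [hermForm, Fin.sum_univ_six]
  show _ = ad (ad (ad (ad (ad (mu _ (Vec22.sq _)) (mu _ (Vec22.sq _))) (mu _ (Vec22.sq _)))
      (mu _ (Vec22.sq _))) (mu _ (Vec22.sq _))) (mu _ (Vec22.sq _))
  simp only [ad_eq, mu_eq, vsq_eq]
  rfl

theorem fn_smul (k : F4) (u : V6) : fn (smul k u) = k • fn u := by
  cases u
  funext i
  rw [Pi.smul_apply, smul_eq_mul]
  fin_cases i <;> exact mu_eq _ _

theorem fn_addmul (u : V6) (k : F4) (w : V6) : fn (addmul u k w) = fn u + k • fn w := by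
  cases u; cases w
  funext i
  rw [Pi.add_apply, Pi.smul_apply, smul_eq_mul]
  fin_cases i <;> exact (ad_eq _ _).trans (congrArg _ (mu_eq _ _))

theorem cF_lt (x : F4) : cF x < 4 := by cases x <;> decide

theorem cF_injective {x y : F4} (h : cF x = cF y) : x = y := by
  cases x <;> cases y <;> first | rfl | exact absurd h (by decide)

theorem enc_mk (a b c d e f : F4) : enc ⟨a, b, c, d, e, f⟩ =
    cF a + 4 * (cF b + 4 * (cF c + 4 * (cF d + 4 * (cF e + 4 * cF f)))) := rfl

theorem enc_injective {u w : V6} (h : enc u = enc w) : u = w := by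
  obtain ⟨a, b, c, d, e, f⟩ := u
  obtain ⟨a', b', c', d', e', f'⟩ := w
  rw [enc_mk, enc_mk] at h
  have h1 := cF_lt a; have h2 := cF_lt b; have h3 := cF_lt c
  have h4 := cF_lt d; have h5 := cF_lt e; have h6 := cF_lt f
  have h1' := cF_lt a'; have h2' := cF_lt b'; have h3' := cF_lt c'
  have h4' := cF_lt d'; have h5' := cF_lt e'; have h6' := cF_lt f'
  have e1 : cF a = cF a' := by omega
  have e2 : cF b = cF b' := by omega
  have e3 : cF c = cF c' := by omega
  have e4 : cF d = cF d' := by omega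
  have e5 : cF e = cF e' := by omega
  have e6 : cF f = cF f' := by omega
  rw [cF_injective e1, cF_injective e2, cF_injective e3, cF_injective e4, cF_injective e5,
    cF_injective e6]

theorem enc_zero {u : V6} (h : fn u = 0) : enc u = 0 := by
  have : u = ⟨.z, .z, .z, .z, .z, .z⟩ := by
    rw [← unfn_fn u, h]
    rfl
  rw [this]; rfl

theorem fn_zero_of_enc {u : V6} (h : enc u = 0) : fn u = 0 := by
  have : u = ⟨.z, .z, .z, .z, .z, .z⟩ := enc_injective (h.trans rfl)
  rw [this]
  funext i
  fin_cases i <;> rfl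

/-! ### the checks -/

theorem pt_spec {x : ℕ} (h1 : 2817 ≤ x) (h2 : x < 3510) :
    herm (vx x) (vx x) = 0 ∧ enc (vx x) ≠ 0 ∧ lab (vx x) = x ∧ lab (smul .w (vx x)) = x ∧
      lab (smul .v (vx x)) = x := by
  have h := allGrid_spec pt_ok (x - 2817) (lt_of_lt_of_le (show x - 2817 < 693 by omega) (by decide))
  have e : Nat.add 2817 (x - 2817) = x := by
    show 2817 + (x - 2817) = x
    omega
  unfold ptCheck at h
  rw [e] at h
  simp only [band_eq, isZ_iff] at h
  obtain ⟨h3, h4, h5, h6, h7⟩ := h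
  have h4' := Nat.le_of_ble_eq_true h4
  exact ⟨h3, by omega, Nat.eq_of_beq_eq_true h5, Nat.eq_of_beq_eq_true h6,
    Nat.eq_of_beq_eq_true h7⟩

theorem allF_spec {p : F4 → Bool} (h : allF p = true) (x : F4) : p x = true := by
  unfold allF at h
  simp only [band_eq] at h
  obtain ⟨h1, h2, h3, h4⟩ := h
  cases x
  · exact h1
  · exact h2
  · exact h3
  · exact h4

theorem vecCheck_all (u : V6) : vecCheck u = true := by
  obtain ⟨a, b, c, d, e, f⟩ := u
  exact allF_spec (allF_spec (allF_spec (allF_spec (allF_spec (allF_spec vec_ok a) b) c) d) e) f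

theorem bite_true_imp {c r : Bool} (h : bite c r true = true) (hc : c = true) : r = true := by
  rw [hc] at h; exact h

theorem bite_cases {c a b : Bool} (h : bite c a b = true) : (c = true ∧ a = true) ∨ b = true := by
  cases c
  · exact Or.inr h
  · exact Or.inl ⟨rfl, h⟩

theorem smul_eq_o (u : V6) : smul .o u = u := by cases u; rfl

theorem vec_spec {u : V6} (h0 : herm u u = 0) (hne : enc u ≠ 0) :
    2817 ≤ lab u ∧ lab u < 3510 ∧ ∃ c : F4, u = smul c (vx (lab u)) := by
  have h := vecCheck_all u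
  unfold vecCheck at h
  have h1 := bite_true_imp h ((isZ_iff _).2 h0)
  have h2 : Nat.beq (enc u) 0 = false := by
    rw [← Bool.not_eq_true]; exact fun hc => hne (Nat.eq_of_beq_eq_true hc)
  rw [h2] at h1
  have h3 := band_eq.1 h1
  have h4 := band_eq.1 h3.2
  refine ⟨Nat.le_of_ble_eq_true h3.1, Nat.le_of_ble_eq_true h4.1, ?_⟩
  rcases bite_cases h4.2 with ⟨h5, _⟩ | h5
  · exact ⟨.o, (enc_injective (Nat.eq_of_beq_eq_true h5)).trans (smul_eq_o _).symm⟩
  · rcases bite_cases h5 with ⟨h6, _⟩ | h6
    · exact ⟨.w, enc_injective (Nat.eq_of_beq_eq_true h6)⟩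
    · exact ⟨.v, enc_injective (Nat.eq_of_beq_eq_true h6)⟩

theorem act_spec_aux {s : Data22.Gen} {c x : ℕ}
    (h : allGrid 21 33 (actCheck s c) = true) (h1 : 2817 ≤ x) (h2 : x < 3510) :
    lab (addmul (vx x) (herm (vx x) (vx c)) (vx c)) = Data22.nx s x := by
  have h := allGrid_spec h (x - 2817) (show x - 2817 < 693 by omega)
  have e : Nat.add 2817 (x - 2817) = x := by
    show 2817 + (x - 2817) = x
    omega
  unfold actCheck at h
  rw [e] at h
  exact Nat.eq_of_beq_eq_true h

theorem act_spec (s : Data22.Gen) (ha : s ≠ .a) (hb : s ≠ .b) {x : ℕ} (h1 : 2817 ≤ x)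
    (h2 : x < 3510) :
    lab (addmul (vx x) (herm (vx x) (vx (pg s))) (vx (pg s))) = Data22.nx s x := by
  cases s
  · exact absurd rfl ha
  · exact absurd rfl hb
  · exact act_spec_aux act_c h1 h2
  · exact act_spec_aux act_d h1 h2
  · exact act_spec_aux act_e h1 h2
  · exact act_spec_aux act_f h1 h2
  · exact act_spec_aux act_g h1 h2
  · exact act_spec_aux act_h h1 h2
  · exact act_spec_aux act_i h1 h2
  · exact act_spec_aux act_l h1 h2

theorem a_fix {x : ℕ} (h1 : 2817 ≤ x) (h2 : x < 3510) : Data22.nx .a x = x := by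
  have h := allGrid_spec a_ok (x - 2817) (lt_of_lt_of_le (show x - 2817 < 693 by omega) (by decide))
  have e : Nat.add 2817 (x - 2817) = x := by
    show 2817 + (x - 2817) = x
    omega
  unfold aCheck at h
  rw [e] at h
  exact Nat.eq_of_beq_eq_true h

/-- the generator `a` moves the points `1, ..., 2816` -/
noncomputable def amCheck (i : ℕ) : Bool :=
  bite (Nat.beq (Data22.nx .a (Nat.succ i)) (Nat.succ i)) false true

theorem am_ok : allGrid (nat_lit 44) (nat_lit 64) amCheck = true := by
  decide +kernel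

theorem a_move {x : ℕ} (h1 : 1 ≤ x) (h2 : x ≤ 2816) : Data22.nx .a x ≠ x := by
  intro hx
  have h := allGrid_spec am_ok (x - 1) (lt_of_lt_of_le (show x - 1 < 2816 by omega) (by decide))
  have e : Nat.succ (x - 1) = x := by omega
  unfold amCheck at h
  rw [e, hx, Nat.beq_refl] at h
  exact absurd h (by decide)

/-! ### the link -/

theorem com_x0_iff_nx (y : X) : R.Com R.x0 y ↔ Data22.nx .a y = y := by
  have h := R.t_smul_eq_iff R.x0 y
  rw [R_t, R_x0, t_x0] at h
  rw [R_x0, ← h]
  constructor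
  · intro h; rw [← g_smul, h]
  · intro h; exact Fin.ext h

theorem link_ge (y : Link R) : 2817 ≤ (y.1 : X).1 := by
  obtain ⟨h1, h2⟩ := y.2
  rw [com_x0_iff_nx] at h1
  by_contra hc
  have h3 : (y.1 : X).1 ≠ 0 := by
    intro h
    apply h2
    exact Fin.ext (h.trans x0_val.symm)
  exact a_move (by omega) (by omega) h1

theorem link_lt (y : Link R) : (y.1 : X).1 < 3510 := (y.1 : X).2

/-- a member of the link from a number -/
def mkLink (x : ℕ) (h1 : 2817 ≤ x) (h2 : x < 3510) : Link R :=
  ⟨pt x h2, (com_x0_iff_nx _).2 (a_fix h1 h2), fun h => by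
    rw [R_x0] at h
    have := congrArg Fin.val h
    rw [pt_val, x0_val] at this
    omega⟩

theorem mkLink_val (x : ℕ) (h1 : 2817 ≤ x) (h2 : x < 3510) :
    ((mkLink x h1 h2).1 : X).1 = x := rfl

theorem link_ext {y z : Link R} (h : (y.1 : X).1 = (z.1 : X).1) : y = z :=
  Subtype.ext (Fin.ext h)

/-- the isotropic points -/
noncomputable def P : UnitAct.Points F4 6 (Link R) where
  vec y := fn (vx (y.1 : X).1)
  iso y := by rw [herm_eq]; exact (pt_spec (link_ge y) (link_lt y)).1
  ne y := fun h => (pt_spec (link_ge y) (link_lt y)).2.1 (enc_zero h)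
  cover u hu hh := by
    have h1 : herm (unfn u) (unfn u) = 0 := by rw [← herm_eq, fn_unfn]; exact hh
    have h2 : enc (unfn u) ≠ 0 := by
      intro h
      apply hu
      rw [← fn_unfn u]
      exact fn_zero_of_enc h
    obtain ⟨h3, h4, c, hc⟩ := vec_spec h1 h2
    refine ⟨mkLink (lab (unfn u)) h3 h4, c, ?_⟩
    rw [mkLink_val, ← fn_smul, ← hc, fn_unfn]
  uniq y y' c h := by
    obtain ⟨_, h2, h3, _, _⟩ := pt_spec (link_ge y) (link_lt y)
    obtain ⟨_, _, h3', h4', h5'⟩ := pt_spec (link_ge y') (link_lt y')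
    rw [← fn_smul] at h
    have h6 := fn_injective h
    apply link_ext
    cases c
    · exfalso
      apply h2
      rw [h6]
      apply enc_zero
      rw [fn_smul]
      exact zero_smul F4 _
    · rw [smul_eq_o] at h6
      rw [← h3, h6, h3']
    · rw [← h3, h6, h4']
    · rw [← h3, h6, h5']

theorem P_vec (y : Link R) : P.vec y = fn (vx (y.1 : X).1) := rfl

theorem hF : Fintype.card F4 = 2 ^ 2 := rfl

/-- a generator in the link -/
noncomputable def lg (s : Data22.Gen) (hs : Data22.isH s = true) (ha : s ≠ .a) : Link R :=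
  ⟨pg s, com_x0_pg hs, fun h => by
    rw [R_x0] at h
    have := congrArg Fin.val h
    cases s
    · exact ha rfl
    · exact absurd hs (by decide)
    all_goals exact absurd this (by decide)⟩

theorem lg_val (s : Data22.Gen) (hs : Data22.isH s = true) (ha : s ≠ .a) :
    (lg s hs ha).1 = pg s := rfl

/-- the generator `s` acts on the link as a transvection -/
theorem rep_T (s : Data22.Gen) (hs : Data22.isH s = true) (ha : s ≠ .a) (y z : Link R)
    (hz : (z.1 : X).1 = Data22.nx s (y.1 : X).1) :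
    UnitAct.rep P (T hF (P.vec (lg s hs ha)) (P.iso _)) y = z := by
  have hb : s ≠ .b := by rintro rfl; exact absurd hs (by decide)
  have e1 : act (T hF (P.vec (lg s hs ha)) (P.iso _)) (P.vec y) =
      fn (addmul (vx (y.1 : X).1) (herm (vx (y.1 : X).1) (vx (pg s : X).1)) (vx (pg s : X).1)) := by
    rw [act_T, fn_addmul, P_vec, P_vec, lg_val, herm_eq]
  have h1 := act_spec s ha hb (link_ge y) (link_lt y)
  rw [← hz] at h1
  set W := addmul (vx (y.1 : X).1) (herm (vx (y.1 : X).1) (vx (pg s : X).1)) (vx (pg s : X).1)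
  have h2 : herm W W = 0 := by
    rw [← herm_eq, ← e1, herm_act, P.iso]
  have h3 : enc W ≠ 0 := by
    intro h
    have h4 := fn_zero_of_enc h
    rw [← e1] at h4
    apply P.ne y
    rw [← act_inv_act (T hF (P.vec (lg s hs ha)) (P.iso _)) (P.vec y), h4, act_zero]
  obtain ⟨_, _, c, hc⟩ := vec_spec h2 h3
  apply UnitAct.rep_eq P (c := c)
  rw [e1, P_vec, ← fn_smul, ← h1]
  exact congrArg fn hc

/-- the action of the centraliser on the link -/
noncomputable def α : C R →* Equiv.Perm (Link R) := MulAction.toPermHom (C R) (Link R)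

theorem α_apply (k : C R) (y : Link R) : ((α k y).1 : X) = (k : G) • (y.1 : X) := rfl

/-- the transposition of a point of the link as an element of the centraliser -/
noncomputable def τ (y : Link R) : C R := ⟨R.t y.1, (t_mem_C_iff R y.1).2 y.2.1⟩

theorem τ_smul (k : C R) (y : Link R) : τ (α k y) = k * τ y * k⁻¹ := by
  apply Subtype.ext
  show R.t ((k : G) • (y.1 : X)) = (k : G) * R.t y.1 * (k : G)⁻¹
  rw [R.map_smul]

/-- the generators of the centraliser -/
noncomputable def gC (s : Data22.Gen) (hs : Data22.isH s = true) : C R :=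
  ⟨g s, by
    rw [mem_C_iff]
    exact fix_of_mem_H1 (g_mem_H1 hs)⟩

theorem C_eq_H1 : C R = H1 := by
  rw [H1_eq]
  exact R.centralizer_eq_stabilizer R.x0

theorem closure_gC : Subgroup.closure {k : C R | ∃ s hs, k = gC s hs} = ⊤ := by
  rw [eq_top_iff]
  rintro ⟨k, hk⟩ -
  have hk' : k ∈ H1 := by rw [← C_eq_H1]; exact hk
  have key : ∀ (k : G) (hk' : k ∈ Subgroup.closure (g '' {s | Data22.isH s = true}))
      (hk : k ∈ C R), (⟨k, hk⟩ : C R) ∈ Subgroup.closure {k : C R | ∃ s hs, k = gC s hs} := by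
    intro k hk'
    induction hk' using Subgroup.closure_induction with
    | mem x hx =>
      obtain ⟨s, hs, rfl⟩ := hx
      intro hk
      exact Subgroup.subset_closure ⟨s, hs, rfl⟩
    | one => intro hk; exact Subgroup.one_mem _
    | mul x y hx hy ihx ihy =>
      intro hk
      have hx' : x ∈ C R := by rw [C_eq_H1]; exact hx
      have hy' : y ∈ C R := by rw [C_eq_H1]; exact hy
      exact Subgroup.mul_mem _ (ihx hx') (ihy hy')
    | inv x hx ihx =>
      intro hk
      have hx' : x ∈ C R := by rw [C_eq_H1]; exact hx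
      exact Subgroup.inv_mem _ (ihx hx')
  exact key k hk' hk

theorem α_gC (s : Data22.Gen) (hs : Data22.isH s = true) (ha : s ≠ .a) :
    α (gC s hs) = UnitAct.rep P (T hF (P.vec (lg s hs ha)) (P.iso _)) := by
  ext y
  exact (rep_T s hs ha y (α (gC s hs) y) rfl).symm

theorem α_a : α (gC .a rfl) = 1 := by
  ext y
  apply link_ext
  exact a_fix (link_ge y) (link_lt y)

theorem range_eq : α.range = (UnitAct.rep P).range := by
  apply UnitAct.range_eq P hF (by decide) α _ closure_gC _ τ τ_smul (lg .c rfl (by decide))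
  · intro y
    obtain ⟨k, hk, hk'⟩ := orbit_high (y.1 : X).1 (link_lt y) (link_ge y)
    have hkC : k ∈ C R := by rw [C_eq_H1]; exact hk
    refine ⟨⟨k, hkC⟩, ?_⟩
    apply Subtype.ext
    exact hk'
  · have e : τ (lg .c rfl (by decide)) = gC .c rfl := by
      apply Subtype.ext
      exact t_pg .c
    rw [e]
    exact α_gC .c rfl (by decide)
  · rintro _ ⟨s, hs, rfl⟩
    by_cases ha : s = .a
    · subst ha
      refine ⟨1, ?_⟩
      rw [map_one]
      exact α_a
    · exact ⟨_, α_gC s hs ha⟩

/-- The centraliser of a transposition is a non-split double cover of `PSU(6, 2)`. -/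
theorem isNonsplitDoubleCover_C : IsNonsplitDoubleCover (C R) (PSU 6 F4 2) := by
  have := Even22.faithful
  refine Centralizer.isNonsplitDoubleCover_C R R_sep R_genC Even22.six Even22.even_six
    Even22.prod_six Even22.com_six (UnitAct.prep P hF (by decide))
    (UnitAct.prep_injective P hF (by decide)) ?_
  rw [UnitAct.prep_range, ← range_eq]
  rfl

end Cfsg.Agent.Fischer.Unit22
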