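import Cfsg.Agent.Fischer.O73
import Mathlib.GroupTheory.PresentedGroup

/-!
The presented group `H8 = ⟨b, c, d, e, f, g, h, i | Y₂₃₂, (dcbdefdhi)^10, (bcdefgh)^9⟩`, its homomorphism onto
`PΩ₇(3)`.
-/

set_option autoImplicit false

namespace Cfsg.Agent.Fischer.Y322

open Cfsg Matrix
open Cfsg.Agent.Fischer.Derived Cfsg.Agent.Fischer.O73

/-- The `E₇` word `b c d e f g h`. -/
def e7w : List (Fin 8) := [0, 1, 2, 3, 4, 5, 6]

/-- The relators. -/
def rels8 : Set (FreeGroup (Fin 8)) :=
  {r | (∃ i j : Fin 8, r = (FreeGroup.of i * FreeGroup.of j) ^ lab i j) ∨ r = ev FreeGroup.of spider ^ 10 ∨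
    r = ev FreeGroup.of e7w ^ 9}

/-- The presented group. -/
abbrev H8 : Type := PresentedGroup rels8

theorem map_ev {G K : Type*} [Group G] [Group K] (f : G →* K) (s : Fin 8 → G) (w : List (Fin 8)) :
    f (ev s w) = ev (fun i => f (s i)) w := by
  rw [ev, ev, map_list_prod, List.map_map]
  rfl

/-- The generators. -/
def x8 (i : Fin 8) : H8 := PresentedGroup.of i

theorem mk_eq_one {r : FreeGroup (Fin 8)} (h : r ∈ rels8) : PresentedGroup.mk rels8 r = 1 :=
  PresentedGroup.one_of_mem h

theorem x8_liftable : M8.IsLiftable x8 := by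
  intro i j
  have h := mk_eq_one (r := (FreeGroup.of i * FreeGroup.of j) ^ lab i j) (Or.inl ⟨i, j, rfl⟩)
  rw [map_pow, map_mul] at h
  exact h

theorem x8_spider : ev x8 spider ^ 10 = 1 := by
  have h := mk_eq_one (r := ev FreeGroup.of spider ^ 10) (Or.inr (Or.inl rfl))
  rw [map_pow, map_ev] at h
  exact h

theorem x8_e7 : ev x8 e7w ^ 9 = 1 := by
  have h := mk_eq_one (r := ev FreeGroup.of e7w ^ 9) (Or.inr (Or.inr rfl))
  rw [map_pow, map_ev] at h
  exact h

theorem closure_x8 : Subgroup.closure (Set.range x8) = ⊤ := PresentedGroup.closure_range_of rels8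

section Lift

variable {G : Type*} [Group G] {s : Fin 8 → G}

/-- The universal property. -/
def lift (hs : M8.IsLiftable s) (hsp : ev s spider ^ 10 = 1) (he : ev s e7w ^ 9 = 1) : H8 →* G :=
  PresentedGroup.toGroup (rels := rels8) (f := s) (by
    intro r hr
    rcases hr with ⟨i, j, rfl⟩ | rfl | rfl
    · rw [map_pow, map_mul, FreeGroup.lift_apply_of, FreeGroup.lift_apply_of]; exact hs i j
    · rw [map_pow, map_ev]
      have : (fun i => (FreeGroup.lift s) (FreeGroup.of i)) = s := funext fun i => FreeGroup.lift_apply_of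
      rw [this]; exact hsp
    · rw [map_pow, map_ev]
      have : (fun i => (FreeGroup.lift s) (FreeGroup.of i)) = s := funext fun i => FreeGroup.lift_apply_of
      rw [this]; exact he)

theorem lift_x8 (hs : M8.IsLiftable s) (hsp : ev s spider ^ 10 = 1) (he : ev s e7w ^ 9 = 1) (i : Fin 8) :
    lift hs hsp he (x8 i) = s i := PresentedGroup.toGroup.of _

theorem range_lift (hs : M8.IsLiftable s) (hsp : ev s spider ^ 10 = 1) (he : ev s e7w ^ 9 = 1) :
    (lift hs hsp he).range = Subgroup.closure (Set.range s) := by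
  rw [MonoidHom.range_eq_map, ← closure_x8, MonoidHom.map_closure]
  congr 1
  ext x
  constructor
  · rintro ⟨_, ⟨i, rfl⟩, rfl⟩; exact ⟨i, (lift_x8 hs hsp he i).symm⟩
  · rintro ⟨i, rfl⟩; exact ⟨_, ⟨i, rfl⟩, lift_x8 hs hsp he i⟩

end Lift

/-! ### `H8` is perfect -/

/-- In a commutative group satisfying the relations everything is trivial. -/
theorem comm_trivial {A : Type*} [CommGroup A] {s : Fin 8 → A} (hs : M8.IsLiftable s) (he : ev s e7w ^ 9 = 1)
    (i : Fin 8) : s i = 1 := by
  have hadj : ∀ i j : Fin 8, lab i j = 3 → s i = s j := by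
    intro i j hij
    have h := hs i j
    rw [M8_apply, hij, mul_pow] at h
    have h1 : s i ^ 3 = s i := by rw [pow_succ, pow_two, sq hs, one_mul]
    have h2 : s j ^ 3 = s j := by rw [pow_succ, pow_two, sq hs, one_mul]
    rw [h1, h2] at h
    rw [eq_inv_of_mul_eq_one_left h]
    exact inv_eq_of_mul_eq_one_left (sq hs j)
  have h01 := hadj 0 1 (by decide)
  have h12 := hadj 1 2 (by decide)
  have h23 := hadj 2 3 (by decide)
  have h34 := hadj 3 4 (by decide)
  have h45 := hadj 4 5 (by decide)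
  have h26 := hadj 2 6 (by decide)
  have h67 := hadj 6 7 (by decide)
  have hall : ∀ i : Fin 8, s i = s 2 := by
    intro i
    fin_cases i
    · exact h01.trans h12
    · exact h12
    · rfl
    · exact h23.symm
    · exact (h23.trans h34).symm
    · exact (h23.trans (h34.trans h45)).symm
    · exact h26.symm
    · exact (h26.trans h67).symm
  rw [hall i]
  have h7 : ev s e7w = s 2 ^ 7 := by
    simp only [e7w, ev_cons, ev_nil, hall]
    simp only [pow_succ, pow_zero, one_mul, mul_one, mul_assoc]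
  rw [h7, ← pow_mul] at he
  have h2 : s 2 ^ 2 = 1 := by rw [pow_two]; exact sq hs 2
  have h63 : s 2 ^ (7 * 9) = s 2 := by
    have : (7 * 9 : ℕ) = 2 * 31 + 1 := by norm_num
    rw [this, pow_succ, pow_mul, h2, one_pow, one_mul]
  rw [← h63]; exact he

theorem commutator_H8 : commutator H8 = ⊤ := by
  rw [← Abelianization.ker_of, MonoidHom.ker_eq_top_iff]
  refine PresentedGroup.ext fun i => ?_
  have hl : M8.IsLiftable (fun i => Abelianization.of (x8 i)) := by
    intro i j
    show (Abelianization.of (x8 i) * Abelianization.of (x8 j)) ^ M8 i j = 1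
    rw [← map_mul, ← map_pow, x8_liftable, map_one]
  have he : ev (fun i => Abelianization.of (x8 i)) e7w ^ 9 = 1 := by
    rw [← map_ev, ← map_pow, x8_e7, map_one]
  exact comm_trivial hl he i

/-! ### The homomorphism onto `PΩ₇(3)` -/

/-- The homomorphism to the isometry group. -/
def toO : H8 →* isometryGroup (ZMod 3) Q := lift gen_liftable gen_spider gen_e7

theorem toO_x8 (i : Fin 8) : toO (x8 i) = gen i := lift_x8 _ _ _ i

theorem range_toO : toO.range = O73.J := range_lift _ _ _

theorem toO_mem (x : H8) : toO x ∈ Omega (ZMod 3) Q := by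
  have h : toO.range ≤ commutator (isometryGroup (ZMod 3) Q) := by
    rw [MonoidHom.range_eq_map, ← commutator_H8, commutator_def, Subgroup.map_commutator, commutator_def]
    exact Subgroup.commutator_mono le_top le_top
  exact h ⟨x, rfl⟩

/-- The homomorphism to `Ω₇(3)`. -/
def toOmega : H8 →* Omega (ZMod 3) Q := toO.codRestrict _ toO_mem

/-- The homomorphism to `PΩ₇(3)`. -/
def toPOmega : H8 →* POmega (ZMod 3) Q := (QuotientGroup.mk' _).comp toOmega

theorem range_toOmega : toOmega.range = O73.J.subgroupOf (Omega (ZMod 3) Q) := by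
  ext x
  rw [MonoidHom.mem_range, Subgroup.mem_subgroupOf, ← range_toO, MonoidHom.mem_range]
  constructor
  · rintro ⟨y, rfl⟩; exact ⟨y, rfl⟩
  · rintro ⟨y, hy⟩; exact ⟨y, Subtype.ext hy⟩

theorem range_toPOmega_normal : toPOmega.range.Normal := by
  rw [toPOmega, MonoidHom.range_comp, range_toOmega]
  have := J_normal
  exact Subgroup.Normal.map inferInstance _ (QuotientGroup.mk'_surjective _)

theorem gen01_ne : gen 0 * gen 1 ≠ gen 1 * gen 0 := by
  intro h
  have h1 := mat_ev [0, 1] ⟨1, 1, 1, 1, 1, 1, 1⟩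
  have h2 := mat_ev [1, 0] ⟨1, 1, 1, 1, 1, 1, 1⟩
  have e1 : ev gen [0, 1] = ev gen [1, 0] := by
    rw [ev_cons, ev_cons, ev_cons, ev_cons, ev_nil, mul_one, mul_one, h]
  rw [e1, h2] at h1
  have h3 : (actW [1, 0] ⟨1, 1, 1, 1, 1, 1, 1⟩) = (actW [0, 1] ⟨1, 1, 1, 1, 1, 1, 1⟩) := by
    have := congrArg ofFun h1
    exact this
  revert h3
  decide +kernel

theorem range_toPOmega_ne_bot : toPOmega.range ≠ ⊥ := by
  intro h
  have hx : ∀ i, toOmega (x8 i) ∈ Subgroup.center (Omega (ZMod 3) Q) := by
    intro i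
    have h1 : toPOmega (x8 i) = 1 := by
      have : toPOmega (x8 i) ∈ toPOmega.range := ⟨_, rfl⟩
      rw [h] at this
      exact Subgroup.mem_bot.1 this
    exact (QuotientGroup.eq_one_iff _).1 h1
  have h2 := Subgroup.mem_center_iff.1 (hx 1) (toOmega (x8 0))
  apply gen01_ne
  have h3 := congrArg Subtype.val h2
  rw [← toO_x8, ← toO_x8]
  exact h3

theorem toPOmega_surjective (hsimple : IsSimpleGroup (POmega (ZMod 3) (quadFormOdd 3 (ZMod 3)))) :
    Function.Surjective toPOmega := by
  rw [← MonoidHom.range_eq_top]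
  rcases hsimple.eq_bot_or_eq_top_of_normal _ range_toPOmega_normal with h | h
  · exact absurd h range_toPOmega_ne_bot
  · exact h

end Cfsg.Agent.Fischer.Y322
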